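import Mathlib

/-!
`Ω_{k[[T]]/k}` is spanned by the `dT_i` when `k` is finite over its subfield of `p`-th powers.
-/

set_option autoImplicit false
set_option linter.style.haveILetI false
universe u
open KaehlerDifferential

namespace Groth.Agent.EGA418Lib

variable {k : Type u} [Field k] (p : ℕ)

theorem exists_generators_of_finite (A B : Type u) [CommRing A] [CommRing B] [Algebra A B] [Module.Finite A B] :
    ∃ (r : ℕ) (l : Fin r → B), ∀ c : B, ∃ e : Fin r → A, c = ∑ b, l b * algebraMap A B (e b) := by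
  obtain ⟨r, l, hl⟩ := Module.Finite.exists_fin (R := A) (M := B)
  refine ⟨r, l, fun c => ?_⟩
  obtain ⟨e, he⟩ := (Submodule.mem_span_range_iff_exists_fun A).1
    (show c ∈ Submodule.span A (Set.range l) by rw [hl]; trivial)
  exact ⟨e, he.symm.trans (Finset.sum_congr rfl fun b _ => by rw [Algebra.smul_def, mul_comm])⟩

theorem exists_pbasis_generators [ExpChar k p] (hk : (frobenius k p).Finite) :
    ∃ (r : ℕ) (l : Fin r → k), ∀ c : k, ∃ e : Fin r → k, c = ∑ b, l b * e b ^ p :=
  @exists_generators_of_finite k k _ _ (frobenius k p).toAlgebra hk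

/-- Every power series is a combination of monomials of small exponent, `p`-th powers and finitely many constants. -/
theorem exists_decomposition [hp : Fact p.Prime] [CharP k p] {n r : ℕ} (l : Fin r → k)
    (hl : ∀ c : k, ∃ e : Fin r → k, c = ∑ b, l b * e b ^ p) (f : MvPowerSeries (Fin n) k) :
    ∃ h : (Fin n → Fin p) → Fin r → MvPowerSeries (Fin n) k,
      f = ∑ a : Fin n → Fin p, ∑ b, MvPowerSeries.C (l b) *
        MvPowerSeries.monomial (Finsupp.equivFunOnFinite.symm fun i => ((a i : ℕ))) 1 * h a b ^ p := by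
  classical
  haveI : ExpChar k p := ExpChar.prime hp.out
  have hp0 : p ≠ 0 := hp.out.ne_zero
  choose e he using hl
  let ex : (Fin n → Fin p) → (Fin n →₀ ℕ) := fun a => Finsupp.equivFunOnFinite.symm fun i => ((a i : ℕ))
  let h : (Fin n → Fin p) → Fin r → MvPowerSeries (Fin n) k := fun a b m =>
    e (MvPowerSeries.coeff (p • m + ex a) f) b
  refine ⟨h, ?_⟩
  ext M
  simp only [map_sum]
  let a₀ : Fin n → Fin p := fun i => ⟨M i % p, Nat.mod_lt _ hp.out.pos⟩
  let m₀ : Fin n →₀ ℕ := Finsupp.equivFunOnFinite.symm fun i => M i / p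
  have hM : M = p • m₀ + ex a₀ := Finsupp.ext fun i => by simp [m₀, ex, a₀, Nat.div_add_mod]
  have hterm : ∀ a b, MvPowerSeries.coeff M (MvPowerSeries.C (l b) * MvPowerSeries.monomial (ex a) 1 * h a b ^ p) =
      if a = a₀ then l b * e (MvPowerSeries.coeff M f) b ^ p else 0 := by
    intro a b
    rw [mul_assoc, MvPowerSeries.coeff_C_mul, MvPowerSeries.coeff_monomial_mul, one_mul,
      ← MvPowerSeries.map_frobenius_expand p hp0 (f := h a b), MvPowerSeries.coeff_map]
    by_cases ha : a = a₀
    · subst ha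
      rw [if_pos rfl, if_pos (by rw [hM]; exact le_add_self), hM, add_tsub_cancel_right,
        MvPowerSeries.coeff_expand_smul, frobenius_def]
      rfl
    · rw [if_neg ha]
      split_ifs with hle
      · obtain ⟨i, hi⟩ : ∃ i, a i ≠ a₀ i := Function.ne_iff.1 ha
        have hdiv : ¬ p ∣ (M - ex a) i := fun hd => by
          refine hi (Fin.ext ?_)
          have h1 : (a i : ℕ) ≤ M i := by simpa [ex] using hle i
          have h2 : (M - ex a) i = M i - a i := by simp [ex]
          rw [h2] at hd
          obtain ⟨c, hc⟩ := hd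
          show (a i : ℕ) = M i % p
          rw [show M i = a i + p * c by omega, Nat.add_mul_mod_self_left, Nat.mod_eq_of_lt (a i).2]
        rw [MvPowerSeries.coeff_expand_of_not_dvd p hp0 _ hdiv, map_zero, mul_zero]
      · rw [mul_zero]
  simp only [show ∀ a : Fin n → Fin p, (Finsupp.equivFunOnFinite.symm fun i => ((a i : ℕ))) = ex a from fun a => rfl,
    hterm]
  rw [Finset.sum_eq_single a₀ (fun a _ ha => by simp [ha]) (fun h => absurd (Finset.mem_univ _) h)]
  simp only [if_true]
  exact he _

/-- `Ω_{k[[T]]/k}` is spanned by the `dT_i`. -/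
theorem span_D_X_eq_top [ExpChar k p] (hk : (frobenius k p).Finite) (hp : p.Prime) (n : ℕ) :
    Submodule.span (MvPowerSeries (Fin n) k)
      (Set.range fun i => D k (MvPowerSeries (Fin n) k) (MvPowerSeries.X i)) = ⊤ := by
  classical
  haveI : Fact p.Prime := ⟨hp⟩
  haveI : CharP k p := by
    cases ‹ExpChar k p› with
    | zero => exact absurd hp Nat.not_prime_one
    | prime _ => assumption
  obtain ⟨r, l, hl⟩ := exists_pbasis_generators p hk
  rw [eq_top_iff, ← span_range_derivation, Submodule.span_le]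
  rintro _ ⟨f, rfl⟩
  rw [SetLike.mem_coe]
  set N := Submodule.span (MvPowerSeries (Fin n) k)
    (Set.range fun i => D k (MvPowerSeries (Fin n) k) (MvPowerSeries.X i))
  obtain ⟨h, hh⟩ := exists_decomposition p l hl f
  rw [hh, map_sum]
  refine Submodule.sum_mem _ fun a _ => ?_
  rw [map_sum]
  refine Submodule.sum_mem _ fun b _ => ?_
  have hpow : ∀ g : MvPowerSeries (Fin n) k, D k (MvPowerSeries (Fin n) k) (g ^ p) = 0 := fun g => by
    rw [Derivation.leibniz_pow, ← Nat.cast_smul_eq_nsmul k p, CharP.cast_eq_zero, zero_smul]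
  rw [Derivation.leibniz, hpow, smul_zero, zero_add]
  refine N.smul_mem _ ?_
  rw [show MvPowerSeries.C (l b) = algebraMap k (MvPowerSeries (Fin n) k) (l b) by
      rw [MvPowerSeries.algebraMap_apply, Algebra.algebraMap_self, RingHom.id_apply],
    Derivation.leibniz, Derivation.map_algebraMap, smul_zero, add_zero]
  refine N.smul_mem _ ?_
  rw [show MvPowerSeries.monomial (Finsupp.equivFunOnFinite.symm fun i => ((a i : ℕ))) (1 : k) =
    ∏ i, (MvPowerSeries.X i) ^ (a i : ℕ) by
      simp only [MvPowerSeries.X_pow_eq, MvPowerSeries.prod_monomial, Finset.prod_const_one]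
      congr 1
      rw [← Finsupp.univ_sum_single (Finsupp.equivFunOnFinite.symm fun i => ((a i : ℕ)))]
      rfl]
  refine Finset.prod_induction _ (fun g => D k (MvPowerSeries (Fin n) k) g ∈ N) ?_ ?_ fun i _ => ?_
  · intro g g' hg hg'
    rw [Derivation.leibniz]
    exact add_mem (N.smul_mem _ hg') (N.smul_mem _ hg)
  · rw [Derivation.map_one_eq_zero]; exact zero_mem _
  · rw [Derivation.leibniz_pow, ← Nat.cast_smul_eq_nsmul (MvPowerSeries (Fin n) k)]
    exact N.smul_mem _ (N.smul_mem _ (Submodule.subset_span ⟨i, rfl⟩))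

end Groth.Agent.EGA418Lib
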