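import Groth.Agent.EGA418Lib.Normalize
import Groth.Agent.EGA418Lib.FFinite

/-!
`Ω_{A/k}` is finite for a complete local `k`-algebra with finite residue field, `k` being `F`-finite.
-/

set_option autoImplicit false
set_option linter.style.haveILetI false
universe u
open TensorProduct IsLocalRing KaehlerDifferential

namespace Groth.Agent.EGA418Lib

variable (k A : Type u) [Field k] [CommRing A] [IsLocalRing A] [Algebra k A]
  [IsNoetherianRing A] [IsAdicComplete (maximalIdeal A) A] [Module.Finite k (ResidueField A)]

theorem finite_kaehler (p : ℕ) [ExpChar k p] (hp : p.Prime) (hk : (frobenius k p).Finite) :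
    Module.Finite A Ω[A⁄k] := by
  classical
  obtain ⟨n, f, hf⟩ := (Submodule.fg_iff_exists_fin_generating_family).1 (maximalIdeal A).fg_of_isNoetherianRing
  obtain ⟨φ, -, hfin, -⟩ := exists_psAlgHom k A f (fun i => hf ▸ Ideal.subset_span ⟨i, rfl⟩)
    (hf.ge.trans Ideal.le_radical)
  let P := MvPowerSeries (Fin n) k
  letI : Algebra P A := φ.toRingHom.toAlgebra
  haveI : IsScalarTower k P A := IsScalarTower.of_algebraMap_eq fun c => (φ.commutes c).symm
  haveI : Module.Finite P A := hfin
  obtain ⟨r, e, he⟩ := Module.Finite.exists_fin (R := P) (M := A)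
  refine ⟨Submodule.fg_def.2 ⟨Set.range (fun i => D k A (φ (MvPowerSeries.X i))) ∪ Set.range fun l => D k A (e l),
    (Set.finite_range _).union (Set.finite_range _), ?_⟩⟩
  rw [eq_top_iff, ← span_range_derivation, Submodule.span_le]
  rintro _ ⟨a, rfl⟩
  rw [SetLike.mem_coe]
  set N := Submodule.span A
    (Set.range (fun i => D k A (φ (MvPowerSeries.X i))) ∪ Set.range fun l => D k A (e l))
  have hP : ∀ g : P, D k A (algebraMap P A g) ∈ N := fun g => by
    have hg : D k P g ∈ Submodule.span P (Set.range fun i => D k P (MvPowerSeries.X i)) := by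
      rw [span_D_X_eq_top p hk hp n]; trivial
    have hmem := Submodule.mem_map_of_mem (f := map k k P A) hg
    rw [map_D, Submodule.map_span, ← Set.range_comp] at hmem
    refine Submodule.span_mono Set.subset_union_left
      (Submodule.span_le_restrictScalars P A _
        (Submodule.span_mono (t := Set.range fun i => D k A (φ (MvPowerSeries.X i))) ?_ hmem))
    rintro _ ⟨i, rfl⟩
    exact ⟨i, (map_D k k P A _).symm⟩
  obtain ⟨c, hc⟩ := (Submodule.mem_span_range_iff_exists_fun P).1
    (show a ∈ Submodule.span P (Set.range e) by rw [he]; trivial)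
  rw [← hc, map_sum]
  refine Submodule.sum_mem _ fun l _ => ?_
  rw [Algebra.smul_def, Derivation.leibniz]
  exact add_mem (N.smul_mem _ (Submodule.subset_span (Or.inr ⟨l, rfl⟩))) (N.smul_mem _ (hP _))

/-- If `Ω_{A/k}` is finite it agrees with its completion. -/
theorem of_bijective_of_finite [Module.Finite A Ω[A⁄k]] :
    Function.Bijective (AdicCompletion.of (maximalIdeal A) Ω[A⁄k]) :=
  AdicCompletion.of_bijective_iff.2 (FiniteCompleteLib.isAdicComplete_of_finite (maximalIdeal A) Ω[A⁄k])

end Groth.Agent.EGA418Lib
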