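import Groth.Agent.EGA418Lib.Imperf
import Groth.Agent.EGA418Lib.FiniteKaehler
import Groth.Agent.S2471
import Groth.Agent.ComplKaehlerLib.Local

/-!
The fibre rank of differentials at a prime with formally smooth local ring, `k` being `F`-finite.
-/

set_option autoImplicit false
set_option linter.style.haveILetI false
universe u
open TensorProduct IsLocalRing KaehlerDifferential

namespace Groth.Agent.EGA418Lib

/-- The module of imperfection does not depend on the choice of `ℤ`-algebra structure. -/
theorem imperfection_int_congr (k K : Type u) [Field k] [Field K] [Algebra k K] (U : ℕ)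
    (h : Module.Finite K (LinearMap.ker (mapBaseChange ℤ k K)) ∧
      Module.finrank K (LinearMap.ker (mapBaseChange ℤ k K)) = U) (a : Algebra ℤ K)
    (t : @IsScalarTower ℤ k K _ _ a.toSMul) :
    Module.Finite K (LinearMap.ker (@mapBaseChange ℤ _ k K _ _ _ _ a t)) ∧
      Module.finrank K (LinearMap.ker (@mapBaseChange ℤ _ k K _ _ _ _ a t)) = U := by
  obtain rfl : a = Ring.toIntAlgebra K := Subsingleton.elim _ _
  exact h

/-- Abstract form of the rank formula for the fraction field. -/
theorem exists_imperfection (k C : Type u) [Field k] [CommRing C] [IsDomain C] [IsLocalRing C] [Algebra k C]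
    [IsNoetherianRing C] [IsAdicComplete (maximalIdeal C) C] [Module.Finite k (ResidueField C)]
    (L : Type u) [Field L] [Algebra C L] [IsFractionRing C L] [Algebra k L] [IsScalarTower k C L]
    {n : ℕ} (hn : ringKrullDim C = n) (p : ℕ) [ExpChar k p] (hp : p.Prime) (hk : (frobenius k p).Finite) :
    ∃ U : ℕ, Module.Finite L Ω[L⁄k] ∧ Module.finrank L Ω[L⁄k] = n + U ∧
      ∀ (a : Algebra ℤ L) (t : @IsScalarTower ℤ k L _ _ a.toSMul),
        Module.Finite L (LinearMap.ker (@mapBaseChange ℤ _ k L _ _ _ _ a t)) ∧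
          Module.finrank L (LinearMap.ker (@mapBaseChange ℤ _ k L _ _ _ _ a t)) = U := by
  obtain ⟨hΥ, -, h3⟩ := rank_kaehler_fractionField k C L hn
  obtain ⟨hΩ, hrk⟩ := h3 p hp hk
  exact ⟨_, hΩ, hrk, fun a t => imperfection_int_congr k L _ ⟨hΥ, rfl⟩ a t⟩

/-- `dim (K ⊗ Ω_{A/k}) + dim Υ_{K/k} = dim (m/m²) + dim Ω_{K/k}` for formally smooth local `A`. -/
theorem finrank_residue_kaehler_add (k : Type u) {A : Type u} [Field k] [CommRing A] [IsLocalRing A]
    [Algebra k A] [IsNoetherianRing A] (h : CAlgX.IsAdicFormallySmooth k A (maximalIdeal A))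
    [Module.Finite (ResidueField A) (Ω[ResidueField A⁄k])]
    {U : ℕ} (hU : Module.Finite (ResidueField A) (LinearMap.ker (mapBaseChange ℤ k (ResidueField A))) ∧
      Module.finrank (ResidueField A) (LinearMap.ker (mapBaseChange ℤ k (ResidueField A))) = U) :
    Module.finrank (ResidueField A) (ResidueField A ⊗[A] Ω[A⁄k]) + U =
      Module.finrank (ResidueField A) (CotangentSpace A) + Module.finrank (ResidueField A) (Ω[ResidueField A⁄k]) := by
  classical
  let K := ResidueField A
  have hres : Function.Surjective (algebraMap A K) := residue_surjective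
  let cn : CotangentSpace A →ₗ[K] K ⊗[A] Ω[A⁄ℤ] := LinearMap.extendScalarsOfSurjective hres (FieldExtLib.conormal A)
  have hcn : Function.Injective cn := ComplKaehlerLib.conormal_injective_of_field k
  let P : K ⊗[A] Ω[A⁄ℤ] →ₗ[K] K ⊗[A] Ω[A⁄k] := (KaehlerDifferential.map ℤ k A A).baseChange K
  let πℤ : K ⊗[A] Ω[A⁄ℤ] →ₗ[K] Ω[K⁄ℤ] := mapBaseChange ℤ A K
  let can : K ⊗[A] (A ⊗[k] Ω[k⁄ℤ]) ≃ₗ[K] K ⊗[k] Ω[k⁄ℤ] :=
    TensorProduct.AlgebraTensorModule.cancelBaseChange k A K K Ω[k⁄ℤ]
  let ι : K ⊗[k] Ω[k⁄ℤ] →ₗ[K] K ⊗[A] Ω[A⁄ℤ] := (mapBaseChange ℤ k A).baseChange K ∘ₗ can.symm.toLinearMap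
  have hι : Function.Injective ι := (Groth.Agent.S2471.result.1 h).2.comp can.symm.injective
  have hkerP : LinearMap.ker P = LinearMap.range ι := by
    rw [LinearMap.range_comp_of_range_eq_top _ (LinearEquiv.range _)]
    ext z
    exact lTensor_exact K (exact_mapBaseChange_map ℤ k A) (map_surjective ℤ k A) z
  have hω : ∀ z, πℤ (ι z) = mapBaseChange ℤ k K z := by
    intro z
    induction z using TensorProduct.induction_on with
    | zero => simp
    | add a b ha hb => rw [map_add, map_add, map_add, ha, hb]
    | tmul c ω =>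
      have hω : ω ∈ Submodule.span k (Set.range (D ℤ k)) := by rw [span_range_derivation]; trivial
      induction hω using Submodule.span_induction with
      | mem z hz =>
        obtain ⟨x, rfl⟩ := hz
        simp only [ι, πℤ, can, LinearMap.comp_apply, LinearEquiv.coe_coe, TensorProduct.AlgebraTensorModule.cancelBaseChange_symm_tmul,
          LinearMap.baseChange_tmul, mapBaseChange_tmul, map_D, one_smul]
        rw [← IsScalarTower.algebraMap_apply k A K]
      | zero => simp
      | add a b _ _ ha hb => rw [TensorProduct.tmul_add, map_add, map_add, map_add, ha, hb]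
      | smul r z _ hz => rw [TensorProduct.tmul_smul, ← algebraMap_smul K r, map_smul, map_smul, map_smul, hz]
  have hrangecn : LinearMap.range cn = LinearMap.ker πℤ := by
    ext z; exact ((FieldExtLib.exact_conormal A) z).symm
  let u : CotangentSpace A →ₗ[K] K ⊗[A] Ω[A⁄k] := P ∘ₗ cn
  haveI : Module.Finite K (CotangentSpace A) := inferInstance
  have heq : Submodule.map cn (LinearMap.ker u) = Submodule.map ι (LinearMap.ker (mapBaseChange ℤ k K)) := by
    rw [show LinearMap.ker u = Submodule.comap cn (LinearMap.ker P) from LinearMap.ker_comp _ _, Submodule.map_comap_eq,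
      hrangecn, hkerP]
    ext z
    constructor
    · rintro ⟨hz, w, rfl⟩
      exact ⟨w, (hω w).symm.trans hz, rfl⟩
    · rintro ⟨w, hw, rfl⟩
      exact ⟨(hω w).trans hw, w, rfl⟩
  have hker : Module.finrank K (LinearMap.ker u) = Module.finrank K (LinearMap.ker (mapBaseChange ℤ k K)) := by
    rw [(Submodule.equivMapOfInjective _ hcn _).finrank_eq, heq]
    exact ((Submodule.equivMapOfInjective ι hι _).finrank_eq).symm
  let π : K ⊗[A] Ω[A⁄k] →ₗ[K] Ω[K⁄k] := mapBaseChange k A K
  have hπ : Function.Surjective π := KaehlerDifferential.mapBaseChange_surjective k A K hres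
  have hu : LinearMap.range u = LinearMap.ker π := by
    ext z
    have hex := KaehlerDifferential.exact_kerCotangentToTensor_mapBaseChange k A K hres z
    constructor
    · rintro ⟨c, rfl⟩
      obtain ⟨x, rfl⟩ := (maximalIdeal A).toCotangent_surjective c
      rw [LinearMap.mem_ker]
      simp only [u, cn, LinearMap.comp_apply, LinearMap.extendScalarsOfSurjective_apply]
      rw [FieldExtLib.conormal_toCotangent]
      simp only [P, π, LinearMap.baseChange_tmul, map_D, mapBaseChange_tmul, one_smul, Algebra.algebraMap_self, RingHom.id_apply]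
      rw [show algebraMap A K (x : A) = 0 from (residue_eq_zero_iff _).2 x.2, map_zero]
    · intro hz
      obtain ⟨c, hc⟩ := hex.1 hz
      obtain ⟨⟨x, hx⟩, rfl⟩ := Ideal.toCotangent_surjective _ c
      refine ⟨(maximalIdeal A).toCotangent ⟨x, (residue_eq_zero_iff x).1 hx⟩, ?_⟩
      simp only [u, cn, LinearMap.comp_apply, LinearMap.extendScalarsOfSurjective_apply]
      rw [FieldExtLib.conormal_toCotangent, ← hc]
      simp only [P, LinearMap.baseChange_tmul, map_D, Algebra.algebraMap_self, RingHom.id_apply]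
      rfl
  haveI : Module.Finite K (LinearMap.ker π) := by rw [← hu]; exact Module.Finite.range u
  haveI := Module.Finite.equiv (π.quotKerEquivOfSurjective hπ).symm
  haveI hfin : Module.Finite K (K ⊗[A] Ω[A⁄k]) := Module.Finite.of_submodule_quotient (LinearMap.ker π)
  have r1 := π.finrank_range_add_finrank_ker
  have r2 := u.finrank_range_add_finrank_ker
  rw [LinearMap.range_eq_top.2 hπ, finrank_top, ← hu] at r1
  rw [hker] at r2
  rw [show Module.finrank K (LinearMap.ker (mapBaseChange ℤ k K)) = U from hU.2] at r2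
  change Module.finrank K (K ⊗[A] Ω[A⁄k]) + U =
    Module.finrank K (CotangentSpace A) + Module.finrank K Ω[K⁄k]
  omega

variable (k A : Type u) [Field k] [CommRing A] [IsLocalRing A] [Algebra k A]
  [IsNoetherianRing A] [IsAdicComplete (maximalIdeal A) A] [Module.Finite k (ResidueField A)]

theorem finrank_fib_eq_of_charP (p : ℕ) [ExpChar k p] (hp : p.Prime) (hk : (frobenius k p).Finite)
    (P : Ideal A) [P.IsPrime]
    (hP : CAlgX.IsAdicFormallySmooth k (Localization.AtPrime P) (maximalIdeal (Localization.AtPrime P)))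
    {n : ℕ} (hn : ringKrullDim (A ⧸ P) = n) :
    Module.finrank P.ResidueField (P.ResidueField ⊗[A] CO k A) =
      Module.finrank P.ResidueField (CotangentSpace (Localization.AtPrime P)) + n := by
  haveI := isLocalRing_quotient A P
  haveI := finite_residue_quotient k A P
  haveI : IsAdicComplete (maximalIdeal (A ⧸ P)) (A ⧸ P) :=
    FiniteCompleteLib.isAdicComplete_maximalIdeal A (A ⧸ P)
  haveI := finite_kaehler k A p hp hk
  obtain ⟨U, hΩ, hrk, hU⟩ := exists_imperfection k (A ⧸ P) P.ResidueField hn p hp hk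
  haveI : Module.Finite (ResidueField (Localization.AtPrime P)) (Ω[ResidueField (Localization.AtPrime P)⁄k]) := hΩ
  have key := finrank_residue_kaehler_add k hP
    (hU (@ResidueField.algebra (Localization.AtPrime P) _ _ ℤ _ (Ring.toIntAlgebra _))
      (@IsScalarTower.of_algebraMap_eq' ℤ k P.ResidueField _ _ _ _ _
        (@ResidueField.algebra (Localization.AtPrime P) _ _ ℤ _ (Ring.toIntAlgebra _)) (RingHom.ext_int _ _)))
  let eO : CO k A ≃ₗ[A] Ω[A⁄k] :=
    (LinearEquiv.ofBijective _ (of_bijective_of_finite k A)).symm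
  let Ap := Localization.AtPrime P
  haveI : Algebra.FormallyEtale A Ap := Algebra.FormallyEtale.of_isLocalization P.primeCompl
  let e : P.ResidueField ⊗[A] CO k A ≃ₗ[P.ResidueField] P.ResidueField ⊗[Ap] Ω[Ap⁄k] :=
    (LinearEquiv.baseChange A P.ResidueField _ _ eO).trans
      ((TensorProduct.AlgebraTensorModule.cancelBaseChange A Ap P.ResidueField P.ResidueField Ω[A⁄k]).symm.trans
        (LinearEquiv.baseChange Ap P.ResidueField _ _ (tensorKaehlerEquivOfFormallyEtale k A Ap)))
  rw [e.finrank_eq]
  change Module.finrank P.ResidueField (P.ResidueField ⊗[Ap] Ω[Ap⁄k]) + U =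
    Module.finrank P.ResidueField (CotangentSpace Ap) + Module.finrank P.ResidueField Ω[P.ResidueField⁄k] at key
  rw [hrk] at key
  show _ = Module.finrank P.ResidueField (CotangentSpace Ap) + n
  omega

end Groth.Agent.EGA418Lib
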