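import Groth.Agent.FreeQuotEt.Normal
import Groth.Agent.PurityLib.BranchPoint

/-!
A prime unramified over a normal domain and containing a prime over zero is étale (the local ring is
then a domain, regular if the base is).
-/

set_option autoImplicit false
set_option linter.style.haveILetI false
universe u

namespace Groth.Agent.EGA418Lib

theorem isEtaleAt_of_unramified_of_le (A B : Type u) [CommRing A] [IsDomain A] [IsIntegrallyClosed A]
    [CommRing B] [Algebra A B] [Algebra.FiniteType A B]
    (m : Ideal B) [m.IsPrime] [Algebra.IsUnramifiedAt A m] (q₀ : Ideal B) [q₀.IsPrime] (hq₀ : q₀ ≤ m)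
    (hinj : Function.Injective ((Ideal.Quotient.mk q₀).comp (algebraMap A B))) :
    Algebra.IsEtaleAt A m ∧ IsDomain (Localization.AtPrime m) ∧
      (IsRegularRing A → IsRegularLocalRing (Localization.AtPrime m)) := by
  obtain ⟨f, hf, P, φ, hφ⟩ := Algebra.IsUnramifiedAt.exists_hasStandardEtaleSurjectionOn (R := A) m
  let L := Localization.AtPrime m
  let χ : L →+* q₀.ResidueField := IsLocalization.lift (M := m.primeCompl)
    (g := algebraMap B q₀.ResidueField) fun y => by
      rw [isUnit_iff_ne_zero, Ne, Ideal.algebraMap_residueField_eq_zero]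
      exact fun h => y.2 (hq₀ h)
  have hAL : Function.Injective fun a => χ (algebraMap A L a) := by
    have h1 : ∀ a, χ (algebraMap A L a) =
        algebraMap (B ⧸ q₀) q₀.ResidueField ((Ideal.Quotient.mk q₀) (algebraMap A B a)) := fun a => by
      rw [IsScalarTower.algebraMap_apply A B L, IsLocalization.lift_eq,
        IsScalarTower.algebraMap_apply B (B ⧸ q₀) q₀.ResidueField]
      rfl
    intro a b hab
    simp only [h1] at hab
    exact hinj ((IsFractionRing.injective (B ⧸ q₀) q₀.ResidueField) hab)
  have hfu : IsUnit (algebraMap B L f) := IsLocalization.map_units L (⟨f, hf⟩ : m.primeCompl)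
  let ι : Localization.Away f →+* L := IsLocalization.Away.lift f hfu
  have hι : ∀ b, ι (algebraMap B (Localization.Away f) b) = algebraMap B L b :=
    fun b => IsLocalization.Away.lift_eq f hfu b
  let ψ : P.Ring →ₐ[A] L :=
    { toRingHom := ι.comp φ.toRingHom
      commutes' := fun a => by
        show ι (φ (algebraMap A P.Ring a)) = _
        rw [φ.commutes, IsScalarTower.algebraMap_apply A B (Localization.Away f), hι,
          ← IsScalarTower.algebraMap_apply A B L] }
  let q : Ideal P.Ring := (IsLocalRing.maximalIdeal L).comap ψ.toRingHom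
  haveI : q.IsPrime := Ideal.IsPrime.comap _
  let Cq := Localization.AtPrime q
  have hu : ∀ y : q.primeCompl, IsUnit (ψ y) := fun y => by
    by_contra h
    exact y.2 h
  let Ψ : Cq →ₐ[A] L := IsLocalization.liftAlgHom hu
  have hΨ : ∀ c, Ψ (algebraMap P.Ring Cq c) = ψ c := fun c => IsLocalization.lift_eq _ c
  haveI := (Unibranch.isDomain_isIntegrallyClosed_of_etale (A := A) q).1
  have hbij : Function.Bijective Ψ := by
    let P0 := RingHom.ker (algebraMap P.Ring Cq)
    let P1 := RingHom.ker (χ.comp ψ.toRingHom)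
    haveI : P0.IsPrime := RingHom.ker_isPrime _
    haveI : P1.IsPrime := RingHom.ker_isPrime _
    have hle : P0 ≤ P1 := fun c hc => by
      show χ (ψ c) = 0
      rw [← hΨ, show algebraMap P.Ring Cq c = 0 from hc, map_zero, map_zero]
    have hbot : ∀ Q : Ideal P.Ring, Q ≤ P1 → Q.under A = ⊥ := fun Q hQ => le_bot_iff.mp fun a ha => by
      have h : χ (ψ (algebraMap A P.Ring a)) = 0 := hQ ha
      rw [ψ.commutes] at h
      exact hAL (h.trans (by simp only [map_zero]))
    have heq : P0 = P1 := Algebra.QuasiFinite.eq_of_le_of_under_eq P0 P1 hle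
      ((hbot P0 hle).trans (hbot P1 le_rfl).symm)
    refine ⟨(injective_iff_map_eq_zero _).mpr fun y hy => ?_, fun z => ?_⟩
    · obtain ⟨c, s, rfl⟩ := IsLocalization.exists_mk'_eq q.primeCompl y
      have h2 : Ψ (algebraMap P.Ring Cq c) = 0 := by
        rw [← IsLocalization.mk'_spec Cq c s, map_mul, hy, zero_mul]
      have hc : c ∈ P0 := heq ▸ (show c ∈ P1 by
        show χ (ψ c) = 0
        rw [← hΨ, h2, map_zero])
      rw [IsLocalization.mk'_eq_mul_mk'_one, show algebraMap P.Ring Cq c = 0 from hc, zero_mul]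
    · obtain ⟨b, s, rfl⟩ := IsLocalization.exists_mk'_eq m.primeCompl z
      obtain ⟨c₁, hc₁⟩ := hφ (algebraMap B (Localization.Away f) b)
      obtain ⟨c₂, hc₂⟩ := hφ (algebraMap B (Localization.Away f) (s : B))
      have h1 : ψ c₁ = algebraMap B L b := by show ι (φ c₁) = _; rw [hc₁, hι]
      have h2 : ψ c₂ = algebraMap B L (s : B) := by show ι (φ c₂) = _; rw [hc₂, hι]
      have hc₂q : c₂ ∈ q.primeCompl := fun h => by
        have h3 : ψ c₂ ∈ IsLocalRing.maximalIdeal L := h
        rw [h2] at h3
        exact h3 (IsLocalization.map_units L s)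
      refine ⟨IsLocalization.mk' Cq c₁ (⟨c₂, hc₂q⟩ : q.primeCompl), ?_⟩
      rw [IsLocalization.eq_mk'_iff_mul_eq, ← h1, ← h2, ← hΨ, ← hΨ, ← map_mul, IsLocalization.mk'_spec]
  let e : Cq ≃ₐ[A] L := AlgEquiv.ofBijective Ψ hbij
  haveI : Algebra.FormallyEtale P.Ring Cq := Algebra.FormallyEtale.of_isLocalization q.primeCompl
  haveI : Algebra.FormallyEtale A Cq := Algebra.FormallyEtale.comp A P.Ring Cq
  refine ⟨Algebra.FormallyEtale.of_equiv e, MulEquiv.isDomain Cq e.symm.toMulEquiv, fun hA => ?_⟩
  haveI := hA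
  haveI : IsRegularLocalRing Cq := (PurityLib.dim_regular_of_etale (q.under A) q).2.2
    (IsRegularRing.isRegularLocalRing_localization _)
  exact IsRegularLocalRing.of_ringEquiv e.toRingEquiv

end Groth.Agent.EGA418Lib
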