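import Groth.Agent.EGA418Lib.PSBase
import Groth.Agent.S2471
import Groth.Agent.S4512

/-!
A regular local ring formally étale over `k[[T]]` is geometrically regular over `k`.
-/

set_option autoImplicit false
set_option linter.style.haveILetI false
universe u
open TensorProduct IsLocalRing KaehlerDifferential

namespace Groth.Agent.EGA418Lib

theorem exists_derivation_extend_etale {B : Type u} [CommRing B] (S : Type u) [CommRing S] [Algebra B S]
    [Algebra.FormallyEtale B S] (d₀ : B → B) (hadd : ∀ a b, d₀ (a + b) = d₀ a + d₀ b)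
    (hmul : ∀ a b, d₀ (a * b) = a * d₀ b + b * d₀ a) :
    ∃ D' : Derivation ℤ S S, ∀ x, D' (algebraMap B S x) = algebraMap B S (d₀ x) := by
  let D₀ : Derivation ℤ B B := Derivation.mk' (AddMonoidHom.mk' d₀ hadd).toIntLinearMap fun a b => hmul a b
  refine ⟨((KaehlerDifferential.isBaseChange_of_formallyEtale ℤ B S).lift
    ((Algebra.linearMap B S) ∘ₗ D₀.liftKaehlerDifferential)).compDer (KaehlerDifferential.D ℤ S), fun x => ?_⟩
  change (KaehlerDifferential.isBaseChange_of_formallyEtale ℤ B S).lift _ (KaehlerDifferential.D ℤ S (algebraMap B S x)) = _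
  rw [← KaehlerDifferential.map_D ℤ ℤ B S x]
  refine (IsBaseChange.lift_eq _ _ _).trans ?_
  rw [LinearMap.comp_apply, Derivation.liftKaehlerDifferential_comp_D]
  rfl

theorem isGeometricallyRegular_of_formallyEtale (k : Type u) [Field k] (n : ℕ) (S : Type u) [CommRing S]
    [IsLocalRing S] [IsNoetherianRing S] [Algebra k S] [Algebra (MvPowerSeries (Fin n) k) S]
    [IsScalarTower k (MvPowerSeries (Fin n) k) S] [Algebra.FormallyEtale (MvPowerSeries (Fin n) k) S]
    [IsRegularLocalRing S] : CAlg.IsGeometricallyRegular k S := by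
  classical
  refine (Groth.Agent.S4512.result (Groth.Agent.S2471.result.2 ⟨inferInstance, ?_⟩)).1
  obtain ⟨s, hs, hspan, hli⟩ := exists_linearIndependent k (Set.range (D ℤ k))
  rw [span_range_derivation] at hspan
  let b : Module.Basis s k Ω[k⁄ℤ] := Module.Basis.mk hli (by rw [Subtype.range_coe, hspan])
  let B : Module.Basis s S (S ⊗[k] Ω[k⁄ℤ]) := b.baseChange S
  let Bκ : Module.Basis s (ResidueField S) (ResidueField S ⊗[S] (S ⊗[k] Ω[k⁄ℤ])) :=
    B.baseChange (ResidueField S)
  choose E hEC _hEX using fun μ : s => exists_coeffDer k n ((b.coord μ).compDer (D ℤ k))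
  choose E' hE' using fun μ : s => exists_derivation_extend_etale (B := MvPowerSeries (Fin n) k) S
    (E μ) (map_add _) fun a b => by rw [Derivation.leibniz, smul_eq_mul, smul_eq_mul]
  choose c hc using fun μ : s => hs μ.2
  have key : ∀ μ, (E' μ).liftKaehlerDifferential ∘ₗ mapBaseChange ℤ k S = B.coord μ := by
    intro μ
    refine B.ext fun ν => ?_
    rw [LinearMap.comp_apply, Module.Basis.coord_apply, B.repr_self]
    show (E' μ).liftKaehlerDifferential (mapBaseChange ℤ k S (b.baseChange S ν)) = _
    rw [Module.Basis.baseChange_apply, show b ν = D ℤ k (c ν) from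
      (Module.Basis.mk_apply _ _ ν).trans (hc ν).symm, mapBaseChange_tmul, one_smul, map_D,
      Derivation.liftKaehlerDifferential_comp_D, IsScalarTower.algebraMap_apply k (MvPowerSeries (Fin n) k) S,
      hE', MvPowerSeries.algebraMap_apply, Algebra.algebraMap_self, RingHom.id_apply, hEC]
    show algebraMap _ S (MvPowerSeries.C (b.coord μ (D ℤ k (c ν)))) = _
    rw [show D ℤ k (c ν) = b ν from (hc ν).trans (Module.Basis.mk_apply _ _ ν).symm,
      Module.Basis.coord_apply, b.repr_self, Finsupp.single_apply, Finsupp.single_apply]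
    split <;> simp
  rw [injective_iff_map_eq_zero]
  intro z hz
  refine Bκ.ext_elem fun μ => ?_
  rw [map_zero, Finsupp.zero_apply]
  have hcoord : ∀ z, Bκ.coord μ z = TensorProduct.rid S (ResidueField S) ((B.coord μ).lTensor (ResidueField S) z) := by
    intro z
    induction z using TensorProduct.induction_on with
    | zero => simp
    | add x y hx hy => rw [map_add, map_add, map_add, hx, hy]
    | tmul a w =>
      rw [LinearMap.lTensor_tmul, TensorProduct.rid_tmul, Module.Basis.coord_apply, Module.Basis.baseChange_repr_tmul]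
      simp [Algebra.smul_def, mul_comm]
  rw [← Module.Basis.coord_apply, hcoord, ← key, LinearMap.lTensor_comp, LinearMap.comp_apply, hz, map_zero, map_zero]

end Groth.Agent.EGA418Lib
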