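import Groth.Agent.EGA418Lib.UnramCrit
import Groth.Agent.EGA418Lib.EtaleNormal
import Groth.Agent.EGA418Lib.GeomReg
import Groth.Agent.RegLocal.UFD

/-!
Generators of `Ω̂_p` and finite maps `k[[T]] → A` unramified or étale at `p`.
-/

set_option autoImplicit false
set_option linter.style.haveILetI false
universe u
open TensorProduct IsLocalRing KaehlerDifferential

namespace Groth.Agent.EGA418Lib

variable (k A : Type u) [Field k] [CommRing A] [IsLocalRing A] [Algebra k A]
  [IsNoetherianRing A] [IsAdicComplete (maximalIdeal A) A] [Module.Finite k (ResidueField A)]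

omit [IsNoetherianRing A] [IsAdicComplete (maximalIdeal A) A] [Module.Finite k (ResidueField A)] in
theorem X_mem_maximalIdeal {m : ℕ} [Algebra (MvPowerSeries (Fin m) k) A]
    (h : IsLocalHom (algebraMap (MvPowerSeries (Fin m) k) A)) (i : Fin m) :
    algebraMap (MvPowerSeries (Fin m) k) A (MvPowerSeries.X i) ∈ maximalIdeal A := by
  rw [mem_maximalIdeal, mem_nonunits_iff]
  intro hu
  have := h.map_nonunit _ hu
  rw [MvPowerSeries.isUnit_iff_constantCoeff, MvPowerSeries.constantCoeff_X] at this
  exact not_isUnit_zero this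

theorem isIntegrallyClosed_ps (n : ℕ) : IsIntegrallyClosed (MvPowerSeries (Fin n) k) := by
  haveI : IsDomain (MvPowerSeries (Fin n) k) := NoZeroDivisors.to_isDomain _
  haveI := RegLocal.ufd (MvPowerSeries (Fin n) k)
  infer_instance

theorem exists_dim : ∃ n : ℕ, ringKrullDim A = n := by
  obtain ⟨d, hd⟩ := ENat.ne_top_iff_exists.1 (Ideal.height_ne_top (maximalIdeal.isMaximal A).ne_top)
  exact ⟨d, by rw [← IsLocalRing.maximalIdeal_height_eq_ringKrullDim, ← hd]; rfl⟩

theorem le_card_of_span (p q : Ideal A) [p.IsPrime] [q.IsPrime] (hqp : q ≤ p) {n m : ℕ}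
    (hn : ringKrullDim (A ⧸ q) = n)
    (hgen : ∃ s : Fin m → LocalizedModule p.primeCompl (CO k A),
      Submodule.span (Localization.AtPrime p) (Set.range s) = ⊤) : n ≤ m := by
  haveI := finite_CO k A
  obtain ⟨s0, hs0⟩ := hgen
  obtain ⟨s, hs⟩ := exists_numerators p s0 hs0
  rw [span_localized_eq_top_iff] at hs
  refine (dim_le_finrank_fib k A hqp hn).trans ?_
  have := finrank_range_le_card (R := p.ResidueField) fun i => toFib p (s i)
  rwa [Set.finrank, hs, finrank_top, Fintype.card_fin] at this

/-- From `m` generators of `Ω̂_p` to a finite map unramified at `p`. -/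
theorem exists_unramified_of_gen (p : Ideal A) [p.IsPrime] (hp : p ≠ maximalIdeal A) {n m : ℕ}
    (hn : ringKrullDim A = n) (hnm : n ≤ m)
    (hgen : ∃ s : Fin m → LocalizedModule p.primeCompl (CO k A),
      Submodule.span (Localization.AtPrime p) (Set.range s) = ⊤) :
    ∃ (_ : Algebra (MvPowerSeries (Fin m) k) A) (_ : IsScalarTower k (MvPowerSeries (Fin m) k) A),
      IsLocalHom (algebraMap (MvPowerSeries (Fin m) k) A) ∧ Module.Finite (MvPowerSeries (Fin m) k) A ∧
        Algebra.IsUnramifiedAt (MvPowerSeries (Fin m) k) p := by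
  obtain ⟨x, hx, hrad⟩ := exists_params A p hp hn hnm
  obtain ⟨u, hu⟩ := exists_units k A p hgen x fun i => (hx i).2
  obtain ⟨φ, hφ, hfin, hloc⟩ := exists_psAlgHom k A (fun i => (u i : A) * x i)
    (fun i => Ideal.mul_mem_left _ _ (hx i).1) (hrad.trans (Ideal.radical_mono (Ideal.span_le.2 (by
      rintro _ ⟨i, rfl⟩
      have h1 : (u i : A) * x i ∈ Ideal.span (Set.range fun i => (u i : A) * x i) := Ideal.subset_span ⟨i, rfl⟩
      have h2 := Ideal.mul_mem_left _ ((↑(u i)⁻¹ : A)) h1
      rwa [← mul_assoc, Units.inv_mul, one_mul] at h2))))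
  letI : Algebra (MvPowerSeries (Fin m) k) A := φ.toRingHom.toAlgebra
  haveI : IsScalarTower k (MvPowerSeries (Fin m) k) A := IsScalarTower.of_algebraMap_eq fun c => (φ.commutes c).symm
  haveI : Module.Finite (MvPowerSeries (Fin m) k) A := hfin
  haveI : IsLocalHom (algebraMap (MvPowerSeries (Fin m) k) A) := hloc
  refine ⟨inferInstance, inferInstance, inferInstance, inferInstance, ?_⟩
  refine (isUnramifiedAt_iff_span k A (fun i => X_mem_maximalIdeal k A hloc i) p).2 ?_
  have : ∀ i, algebraMap (MvPowerSeries (Fin m) k) A (MvPowerSeries.X i) = (u i : A) * x i := hφ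
  simp only [this]
  exact hu

/-- Unramified at `p` over `k[[T_1..T_n]]`, `n = dim A/q`: étale, geometrically regular, `Ω̂_p` free. -/
theorem etale_of_unramified {n : ℕ} [Algebra (MvPowerSeries (Fin n) k) A]
    [IsScalarTower k (MvPowerSeries (Fin n) k) A] [Module.Finite (MvPowerSeries (Fin n) k) A]
    (hloc : IsLocalHom (algebraMap (MvPowerSeries (Fin n) k) A))
    (p : Ideal A) [p.IsPrime] [Algebra.IsUnramifiedAt (MvPowerSeries (Fin n) k) p]
    (q : Ideal A) (hq : q ∈ minimalPrimes A) (hqp : q ≤ p) (hn : ringKrullDim (A ⧸ q) = n) :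
    Algebra.IsEtaleAt (MvPowerSeries (Fin n) k) p ∧
      (Module.Free (Localization.AtPrime p) (LocalizedModule p.primeCompl (CO k A)) ∧
        Module.finrank (Localization.AtPrime p) (LocalizedModule p.primeCompl (CO k A)) = n) ∧
      CAlg.IsGeometricallyRegular k (Localization.AtPrime p) := by
  haveI : q.IsPrime := Ideal.minimalPrimes_isPrime hq
  haveI := finite_CO k A
  haveI : IsDomain (MvPowerSeries (Fin n) k) := NoZeroDivisors.to_isDomain _
  haveI := isIntegrallyClosed_ps k n
  haveI : Algebra.FiniteType (MvPowerSeries (Fin n) k) A := Module.Finite.finiteType A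
  have hinj := injective_mk_comp k A (IsScalarTower.toAlgHom k (MvPowerSeries (Fin n) k) A)
    (RingHom.finite_algebraMap.2 inferInstance) q hn
  obtain ⟨het, hdom, hreg⟩ := isEtaleAt_of_unramified_of_le (MvPowerSeries (Fin n) k) A p q hqp hinj
  haveI := hdom
  haveI := hreg ⟨fun P _ => RegLocal.isRegularLocalRing_localization _ P⟩
  haveI : Algebra.FormallyEtale (MvPowerSeries (Fin n) k) (Localization.AtPrime p) := het
  refine ⟨het, free_of_span A p q hq hqp _
    ((isUnramifiedAt_iff_span k A (fun i => X_mem_maximalIdeal k A hloc i) p).1 inferInstance)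
    (dim_le_finrank_fib k A le_rfl hn), isGeometricallyRegular_of_formallyEtale k n _⟩

end Groth.Agent.EGA418Lib
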