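import Groth.Agent.EGA418Lib.CharZero
import Groth.Agent.EGA418Lib.CharP
import Groth.Agent.EGA418Lib.Main
import Groth.Agent.S4573

/-!
`Ω̂_P` is free of rank `dim A/q` when `A_P` is geometrically regular and `k` is `F`-finite.
-/

set_option autoImplicit false
set_option linter.style.haveILetI false
universe u
open TensorProduct IsLocalRing

namespace Groth.Agent.EGA418Lib

/-- `ht P + dim R/P ≤ dim R`. -/
theorem height_add_dim_quotient_le {R : Type u} [CommRing R] (P : Ideal R) [P.IsPrime] :
    (P.height : WithBot ℕ∞) + ringKrullDim (R ⧸ P) ≤ ringKrullDim R := by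
  let x : PrimeSpectrum R := ⟨P, inferInstance⟩
  have h1 : ringKrullDim (R ⧸ P) = (Order.coheight x : WithBot ℕ∞) := by
    rw [ringKrullDim_quotient, Order.coheight_eq_krullDim_Ici]
    refine Order.krullDim_eq_of_orderIso (OrderIso.setCongr _ _ ?_)
    ext y
    exact (PrimeSpectrum.mem_zeroLocus y _).trans Iff.rfl
  haveI : Nonempty (PrimeSpectrum R) := ⟨x⟩
  rw [h1, ringKrullDim, Order.krullDim_eq_iSup_height_add_coheight_of_nonempty, ← WithBot.coe_add,
    WithBot.coe_le_coe, show P.height = Order.height x from PrimeSpectrum.height_eq_orderHeight x]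
  exact le_iSup (fun y : PrimeSpectrum R => Order.height y + Order.coheight y) x

theorem exists_dim' (R : Type u) [CommRing R] [IsLocalRing R] [IsNoetherianRing R] :
    ∃ n : ℕ, ringKrullDim R = n := by
  obtain ⟨d, hd⟩ := ENat.ne_top_iff_exists.1 (Ideal.height_ne_top (maximalIdeal.isMaximal R).ne_top)
  exact ⟨d, by rw [← IsLocalRing.maximalIdeal_height_eq_ringKrullDim, ← hd]; rfl⟩

theorem le_of_isDomain_localization {A : Type u} [CommRing A] (P q : Ideal A) [P.IsPrime] [q.IsPrime]
    [IsDomain (Localization.AtPrime P)] (hq : q ∈ minimalPrimes A) (hqP : q ≤ P) (y : PrimeSpectrum A)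
    (hy : y.asIdeal ≤ P) : q ≤ y.asIdeal := by
  haveI : (RingHom.ker (algebraMap A (Localization.AtPrime P))).IsPrime := RingHom.ker_isPrime _
  have hle : ∀ (J : Ideal A), J.IsPrime → J ≤ P → RingHom.ker (algebraMap A (Localization.AtPrime P)) ≤ J := by
    intro J hJ hJP a ha
    obtain ⟨t, ht⟩ := (IsLocalization.map_eq_zero_iff P.primeCompl (Localization.AtPrime P) a).1 ha
    exact (hJ.mem_or_mem (show (t : A) * a ∈ J by rw [ht]; exact zero_mem _)).resolve_left fun h => t.2 (hJP h)
  exact (hq.2 ⟨inferInstance, bot_le⟩ (hle q inferInstance hqP)).trans (hle _ y.2 hy)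

theorem height_le_height_map {A : Type u} [CommRing A] (P q : Ideal A) [P.IsPrime]
    [(P.map (Ideal.Quotient.mk q)).IsPrime] (hge : ∀ y : PrimeSpectrum A, y.asIdeal ≤ P → q ≤ y.asIdeal) :
    P.height ≤ (P.map (Ideal.Quotient.mk q)).height := by
  rw [show P.height = Order.height (⟨P, inferInstance⟩ : PrimeSpectrum A) from
      PrimeSpectrum.height_eq_orderHeight (⟨P, inferInstance⟩ : PrimeSpectrum A),
    show (P.map (Ideal.Quotient.mk q)).height =
      Order.height (⟨P.map (Ideal.Quotient.mk q), ‹_›⟩ : PrimeSpectrum (A ⧸ q)) from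
        PrimeSpectrum.height_eq_orderHeight (⟨P.map (Ideal.Quotient.mk q), ‹_›⟩ : PrimeSpectrum (A ⧸ q))]
  refine Order.height_le_iff.2 fun l hl => ?_
  have hlP : ∀ i, (l i).asIdeal ≤ P := fun i => le_trans (l.monotone (Fin.le_last i)) hl
  have hc : ∀ i, (((l i).asIdeal.map (Ideal.Quotient.mk q))).comap (Ideal.Quotient.mk q) = (l i).asIdeal := fun i => by
    rw [Ideal.comap_map_of_surjective _ Ideal.Quotient.mk_surjective, ← RingHom.ker_eq_comap_bot, Ideal.mk_ker,
      sup_eq_left.2 (hge _ (hlP i))]
  let l' : LTSeries (PrimeSpectrum (A ⧸ q)) :=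
    { length := l.length
      toFun := fun i => ⟨(l i).asIdeal.map (Ideal.Quotient.mk q),
        Ideal.map_isPrime_of_surjective Ideal.Quotient.mk_surjective (by rw [Ideal.mk_ker]; exact hge _ (hlP i))⟩
      step := fun i => by
        refine lt_of_le_of_ne (Ideal.map_mono (l.step i).le) fun h => (l.step i).ne (PrimeSpectrum.ext ?_)
        rw [← hc i.castSucc, ← hc i.succ, h] }
  exact Order.length_le_height (p := l') (Ideal.map_mono hl)

variable (k A : Type u) [Field k] [CommRing A] [IsLocalRing A] [Algebra k A]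
  [IsNoetherianRing A] [IsAdicComplete (maximalIdeal A) A] [Module.Finite k (ResidueField A)]

theorem free_of_formallySmooth (p : ℕ) [ExpChar k p] (hk : (frobenius k p).Finite)
    (P : Ideal A) [P.IsPrime]
    (hfs : CAlgX.IsAdicFormallySmooth k (Localization.AtPrime P) (maximalIdeal (Localization.AtPrime P)))
    (q : Ideal A) (hq : q ∈ minimalPrimes A) (hqP : q ≤ P) {n : ℕ} (hn : ringKrullDim (A ⧸ q) = n) :
    Module.Free (Localization.AtPrime P) (LocalizedModule P.primeCompl (CO k A)) ∧
      Module.finrank (Localization.AtPrime P) (LocalizedModule P.primeCompl (CO k A)) = n := by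
  classical
  haveI : q.IsPrime := Ideal.minimalPrimes_isPrime hq
  haveI := finite_CO k A
  haveI := (Groth.Agent.S2471.result.1 hfs).1
  haveI := RegLocal.isDomain (R := Localization.AtPrime P)
  haveI : IsLocalRing (A ⧸ P) := isLocalRing_quotient A P
  haveI : IsLocalRing (A ⧸ q) := isLocalRing_quotient A q
  obtain ⟨n', hn'⟩ := exists_dim' (A ⧸ P)
  obtain ⟨r, hr⟩ := exists_dim' (Localization.AtPrime P)
  have hcot : Module.finrank P.ResidueField (CotangentSpace (Localization.AtPrime P)) = r := by
    have h1 := IsRegularLocalRing.spanFinrank_maximalIdeal (R := Localization.AtPrime P)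
    rw [hr, IsLocalRing.spanFinrank_maximalIdeal_eq_finrank_cotangentSpace] at h1
    exact_mod_cast h1
  -- `r + dim A/P ≤ dim A/q`
  have hle : r + n' ≤ n := by
    haveI hPq : (P.map (Ideal.Quotient.mk q)).IsPrime :=
      Ideal.map_isPrime_of_surjective Ideal.Quotient.mk_surjective (by rwa [Ideal.mk_ker])
    have h1 := height_add_dim_quotient_le (P.map (Ideal.Quotient.mk q)) (R := A ⧸ q)
    rw [hn, ringKrullDim_eq_of_ringEquiv (DoubleQuot.quotQuotEquivQuotOfLE hqP), hn'] at h1
    have hge : ∀ y : PrimeSpectrum A, y.asIdeal ≤ P → q ≤ y.asIdeal := fun y hy =>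
      le_of_isDomain_localization P q hq hqP y hy
    have h2 := height_le_height_map P q hge
    have h3 : ringKrullDim (Localization.AtPrime P) = P.height :=
      IsLocalization.AtPrime.ringKrullDim_eq_height P (Localization.AtPrime P)
    rw [hr] at h3
    have h4 : ((r + n' : ℕ) : WithBot ℕ∞) ≤ (n : WithBot ℕ∞) := by
      push_cast
      rw [h3]
      exact (add_le_add_left (WithBot.coe_le_coe.2 h2) _).trans h1
    exact_mod_cast h4
  have hμ : Module.finrank P.ResidueField (P.ResidueField ⊗[A] CO k A) ≤ n := by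
    rcases ‹ExpChar k p› with _ | hp
    · haveI : CharZero k := inferInstance
      -- generators of `P A_P` with numerators in `A`
      obtain ⟨g, hg⟩ : ∃ g : Fin r → Localization.AtPrime P,
          maximalIdeal (Localization.AtPrime P) = Ideal.span (Set.range g) := by
        obtain ⟨f, hf⟩ := Submodule.FG.exists_span_set_encard_eq_spanFinrank
          (maximalIdeal (Localization.AtPrime P)).fg_of_isNoetherianRing
        have hfin : f.Finite := Set.finite_of_encard_eq_coe hf.1
        haveI := hfin.fintype
        have hcard : Fintype.card f = r := by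
          have h1 := hf.1
          rw [IsLocalRing.spanFinrank_maximalIdeal_eq_finrank_cotangentSpace] at h1
          rw [Set.encard_eq_coe_toFinset_card, Nat.cast_inj, Set.toFinset_card] at h1
          exact h1.trans hcot
        refine ⟨fun i => ((Fintype.equivFinOfCardEq hcard).symm i : Localization.AtPrime P), ?_⟩
        rw [← hf.2]
        congr 1
        ext z
        exact ⟨fun hz => ⟨Fintype.equivFinOfCardEq hcard ⟨z, hz⟩, by simp⟩, by rintro ⟨i, rfl⟩; exact Subtype.coe_prop _⟩
      choose as has using fun i => IsLocalization.surj P.primeCompl (g i)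
      have hspan : maximalIdeal (Localization.AtPrime P) =
          Ideal.span (Set.range fun i => algebraMap A (Localization.AtPrime P) (as i).1) := by
        rw [hg]
        refine le_antisymm (Ideal.span_le.2 ?_) (Ideal.span_le.2 ?_)
        · rintro _ ⟨i, rfl⟩
          have h1 : algebraMap A (Localization.AtPrime P) (as i).1 ∈
              Ideal.span (Set.range fun i => algebraMap A (Localization.AtPrime P) (as i).1) := Ideal.subset_span ⟨i, rfl⟩
          rw [← has i] at h1
          exact (Ideal.mul_unit_mem_iff_mem _ (IsLocalization.map_units _ (as i).2)).1 h1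
        · rintro _ ⟨i, rfl⟩
          show algebraMap A (Localization.AtPrime P) (as i).1 ∈ _
          rw [← has i]
          exact Ideal.mul_mem_right _ _ (Ideal.subset_span ⟨i, rfl⟩)
      refine (finrank_fib_le_of_charZero k A P (fun i => (as i).1) (fun i => ?_) hspan hn').trans hle
      rw [← IsLocalization.AtPrime.to_map_mem_maximal_iff (Localization.AtPrime P) P, hspan]
      exact Ideal.subset_span ⟨i, rfl⟩
    · haveI : ExpChar k p := ExpChar.prime hp
      rw [finrank_fib_eq_of_charP k A p hp hk P hfs hn', hcot]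
      exact hle
  -- `n` generators
  obtain ⟨b, hb, hbs, hbli⟩ := exists_linearIndependent P.ResidueField (Set.range (toFib (M := CO k A) P))
  have hspanall : Submodule.span P.ResidueField (Set.range (toFib (M := CO k A) P)) = ⊤ := by
    refine eq_top_iff.2 fun z hz => ?_
    clear hz
    induction z using TensorProduct.induction_on with
    | zero => exact zero_mem _
    | add a b ha hb => exact add_mem ha hb
    | tmul c m =>
      rw [show c ⊗ₜ[A] m = c • toFib P m by rw [toFib_apply, TensorProduct.smul_tmul', smul_eq_mul, mul_one]]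
      exact Submodule.smul_mem _ c (Submodule.subset_span ⟨m, rfl⟩)
  rw [hspanall] at hbs
  haveI : Fintype b := hbli.setFinite.fintype
  choose s hs using fun i : b => hb i.2
  have hcard : Fintype.card b ≤ n := by
    refine le_trans (le_of_eq ?_) hμ
    rw [← finrank_span_eq_card (R := P.ResidueField) (b := (Subtype.val : b → P.ResidueField ⊗[A] CO k A)) hbli,
      Subtype.range_coe, hbs, finrank_top]
  let e := Fintype.equivFin b
  let s' : Fin n → CO k A := fun j => if h : (j : ℕ) < Fintype.card b then s (e.symm ⟨j, h⟩) else 0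
  refine free_of_span A P q hq hqP s' ((span_localized_eq_top_iff P s').2 (eq_top_iff.2 ?_)) (dim_le_finrank_fib k A le_rfl hn)
  rw [← hbs, Submodule.span_le]
  intro z hz
  refine Submodule.subset_span ⟨⟨e ⟨z, hz⟩, lt_of_lt_of_le (e ⟨z, hz⟩).2 hcard⟩, ?_⟩
  show toFib P (s' ⟨(e ⟨z, hz⟩ : ℕ), _⟩) = z
  have h1 : s' ⟨(e ⟨z, hz⟩ : ℕ), lt_of_lt_of_le (e ⟨z, hz⟩).2 hcard⟩ = s ⟨z, hz⟩ := by
    refine (dif_pos (e ⟨z, hz⟩).2).trans ?_
    exact congrArg s (e.symm_apply_apply _)
  rw [h1, hs]

theorem free_of_geometricallyRegular (p : ℕ) [ExpChar k p] (hk : (frobenius k p).Finite)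
    (P : Ideal A) [P.IsPrime] (hP : CAlg.IsGeometricallyRegular k (Localization.AtPrime P))
    (q : Ideal A) (hq : q ∈ minimalPrimes A) (hqP : q ≤ P) {n : ℕ} (hn : ringKrullDim (A ⧸ q) = n) :
    Module.Free (Localization.AtPrime P) (LocalizedModule P.primeCompl (CO k A)) ∧
      Module.finrank (Localization.AtPrime P) (LocalizedModule P.primeCompl (CO k A)) = n :=
  free_of_formallySmooth k A p hk P
    ((Groth.Agent.S4573.result p).2 fun k' _ _ hfin _ => hP k' hfin) q hq hqP hn

/-- Over a perfect field regularity at a prime gives freeness. -/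
theorem free_of_regular_of_perfect [PerfectField k]
    (P : Ideal A) [P.IsPrime] [IsRegularLocalRing (Localization.AtPrime P)]
    (q : Ideal A) (hq : q ∈ minimalPrimes A) (hqP : q ≤ P) {n : ℕ} (hn : ringKrullDim (A ⧸ q) = n) :
    Module.Free (Localization.AtPrime P) (LocalizedModule P.primeCompl (CO k A)) ∧
      Module.finrank (Localization.AtPrime P) (LocalizedModule P.primeCompl (CO k A)) = n :=
  haveI := PerfectField.toPerfectRing (K := k) (ringExpChar k)
  free_of_formallySmooth k A (ringExpChar k)
    (RingHom.Finite.of_surjective _ (surjective_frobenius k (ringExpChar k))) P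
    (Groth.Agent.S2471.result.2 ⟨inferInstance, SymGrLib.injective_lTensor_of_perfectField⟩) q hq hqP hn

end Groth.Agent.EGA418Lib
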