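import Groth.Agent.EGA418Lib.Main

/-!
Transfer of generators of `Ω̂` along maps of complete local algebras, and regularity at a prime where
`Ω̂` has as many generators as the dimension of a component.
-/

set_option autoImplicit false
set_option linter.style.haveILetI false
universe u
open TensorProduct IsLocalRing KaehlerDifferential

namespace Groth.Agent.EGA418Lib

theorem span_transfer {k k' A R : Type u} [Field k] [Field k'] [Algebra k k'] [CommRing A] [CommRing R]
    [IsLocalRing A] [IsLocalRing R] [Algebra k A] [Algebra k' R] [Algebra k R] [IsScalarTower k k' R]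
    [Algebra A R] [IsScalarTower k A R] [IsLocalHom (algebraMap A R)]
    [IsNoetherianRing A] [IsAdicComplete (maximalIdeal A) A] [Module.Finite k (ResidueField A)]
    [IsNoetherianRing R] [IsAdicComplete (maximalIdeal R) R] [Module.Finite k' (ResidueField R)]
    (hdense : ∀ (r : R) (j : ℕ), ∃ b ∈ Subring.closure (Set.range (algebraMap A R) ∪ Set.range (algebraMap k' R)),
      r - b ∈ maximalIdeal R ^ j)
    (p : Ideal A) [p.IsPrime] (p' : Ideal R) [p'.IsPrime] (hp : p'.comap (algebraMap A R) = p)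
    {ι : Type*} (y : ι → A)
    (hy : Submodule.span (Localization.AtPrime p)
      (Set.range fun i => LocalizedModule.mkLinearMap p.primeCompl (CO k A) (cD k A (y i))) = ⊤) :
    Submodule.span (Localization.AtPrime p')
      (Set.range fun i => LocalizedModule.mkLinearMap p'.primeCompl (CO k' R) (cD k' R (algebraMap A R (y i)))) = ⊤ := by
  classical
  haveI : SMulCommClass k' A R := ⟨fun c a r => by
    rw [Algebra.smul_def, Algebra.smul_def, Algebra.smul_def, Algebra.smul_def, mul_left_comm]⟩
  haveI := finite_CO k' R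
  let gens : ι → CO k' R := fun i => cD k' R (algebraMap A R (y i))
  let N : Submodule R (CO k' R) := Submodule.span R (Set.range gens)
  rw [show (Set.range fun i => LocalizedModule.mkLinearMap p'.primeCompl (CO k' R) (gens i)) =
    LocalizedModule.mkLinearMap p'.primeCompl (CO k' R) '' Set.range gens from Set.range_comp _ gens,
    span_localized_eq_top_iff_forall]
  rw [show (Set.range fun i => LocalizedModule.mkLinearMap p.primeCompl (CO k A) (cD k A (y i))) =
    LocalizedModule.mkLinearMap p.primeCompl (CO k A) '' Set.range (fun i => cD k A (y i)) from Set.range_comp _ _,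
    span_localized_eq_top_iff_forall] at hy
  -- torsion at `p'` of the quotient
  let W : Submodule R (CO k' R) :=
    { carrier := {z | ∃ r ∈ p'.primeCompl, r • z ∈ N}
      add_mem' := by
        rintro a b ⟨r, hr, hra⟩ ⟨s, hs, hsb⟩
        refine ⟨r * s, mul_mem hr hs, ?_⟩
        rw [smul_add, mul_comm, mul_smul]
        exact add_mem (N.smul_mem s hra) (by rw [mul_comm, mul_smul]; exact N.smul_mem r hsb)
      zero_mem' := ⟨1, one_mem _, by simp⟩
      smul_mem' := by
        rintro c a ⟨r, hr, hra⟩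
        exact ⟨r, hr, by rw [smul_comm]; exact N.smul_mem c hra⟩ }
  let δ : Derivation k' R (CO k' R ⧸ W) := W.mkQ.compDer (cD k' R)
  let L : Ω[A⁄k] →ₗ[A] Ω[R⁄k'] := KaehlerDifferential.map k k' A R
  have hmap : ∀ z : Ω[A⁄k], AdicCompletion.of (maximalIdeal A) Ω[A⁄k] z = 0 →
      AdicCompletion.of (maximalIdeal R) Ω[R⁄k'] (L z) = 0 := by
    intro z hz
    refine AdicCompletion.ext fun j => ?_
    have h1 : z ∈ (maximalIdeal A ^ j • ⊤ : Submodule A Ω[A⁄k]) :=
      (Submodule.Quotient.mk_eq_zero _).1 (show (AdicCompletion.of (maximalIdeal A) Ω[A⁄k] z).val j = 0 by rw [hz]; rfl)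
    refine (Submodule.Quotient.mk_eq_zero _).2 ?_
    clear hz
    induction h1 using Submodule.smul_induction_on' with
    | smul a ha w _ =>
      rw [map_smul, ← algebraMap_smul R a]
      exact Submodule.smul_mem_smul (Ideal.pow_right_mono
        (((local_hom_TFAE (algebraMap A R)).out 0 2 rfl rfl).mp inferInstance) j (by
          rw [← Ideal.map_pow]; exact Ideal.mem_map_of_mem _ ha)) trivial
    | add a _ b _ ha hb => rw [map_add]; exact add_mem ha hb
  have hδA : ∀ a : A, δ (algebraMap A R a) = 0 := by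
    intro a
    show Submodule.Quotient.mk _ = 0
    rw [Submodule.Quotient.mk_eq_zero]
    obtain ⟨s, hs, hsa⟩ := hy (cD k A a)
    obtain ⟨c, hc⟩ := (Finsupp.mem_span_range_iff_exists_finsupp).1 hsa
    have h0 : AdicCompletion.of (maximalIdeal A) Ω[A⁄k]
        (s • D k A a - c.sum fun i v => v • D k A (y i)) = 0 := by
      rw [map_sub, map_smul, map_finsuppSum, sub_eq_zero]
      refine hc.symm.trans (Finsupp.sum_congr fun i _ => ?_)
      rw [map_smul, cD_apply]
    have h1 := hmap _ h0
    rw [map_sub, map_smul, map_finsuppSum, ← algebraMap_smul R s, map_sub, map_smul, map_finsuppSum, sub_eq_zero,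
      show L (D k A a) = D k' R (algebraMap A R a) from map_D k k' A R a] at h1
    refine ⟨algebraMap A R s, fun h => hs (show s ∈ p from hp ▸ h), ?_⟩
    show algebraMap A R s • cD k' R (algebraMap A R a) ∈ N
    rw [cD_apply, h1]
    refine Submodule.sum_mem _ fun i _ => ?_
    show AdicCompletion.of (maximalIdeal R) Ω[R⁄k'] (L (c i • D k A (y i))) ∈ N
    rw [map_smul, ← algebraMap_smul R (c i), map_smul,
      show L (D k A (y i)) = D k' R (algebraMap A R (y i)) from map_D k k' A R _]
    exact N.smul_mem _ (Submodule.subset_span ⟨i, rfl⟩)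
  have hsub : ∀ b ∈ Subring.closure (Set.range (algebraMap A R) ∪ Set.range (algebraMap k' R)), δ b = 0 := by
    intro b hb
    induction hb using Subring.closure_induction with
    | mem z hz =>
      rcases hz with ⟨a, rfl⟩ | ⟨c, rfl⟩
      · exact hδA a
      · exact Derivation.map_algebraMap δ c
    | zero => exact map_zero δ
    | one => exact Derivation.map_one_eq_zero δ
    | add a b _ _ ha hb => rw [map_add, ha, hb, add_zero]
    | neg a _ ha => rw [map_neg, ha, neg_zero]
    | mul a b _ _ ha hb => rw [Derivation.leibniz, ha, hb, smul_zero, smul_zero, add_zero]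
  have hpow : ∀ (j : ℕ), ∀ r ∈ maximalIdeal R ^ (j + 1),
      δ r ∈ (maximalIdeal R ^ j • ⊤ : Submodule R (CO k' R ⧸ W)) := by
    intro j
    induction j with
    | zero => intro r _; rw [pow_zero, Ideal.one_eq_top, Submodule.top_smul]; trivial
    | succ j ih =>
      intro r hr
      rw [pow_succ'] at hr
      refine Submodule.mul_induction_on hr (fun a ha b hb => ?_) (fun a b ha hb => by rw [map_add]; exact add_mem ha hb)
      rw [Derivation.leibniz]
      refine add_mem ?_ (Submodule.smul_mem_smul hb trivial)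
      rw [pow_succ', Submodule.mul_smul]
      exact Submodule.smul_mem_smul ha (ih b hb)
  have hH : IsHausdorff (maximalIdeal R) (CO k' R ⧸ W) :=
    (FiniteCompleteLib.isAdicComplete_of_finite (maximalIdeal R) (CO k' R ⧸ W)).toIsHausdorff
  have hδ0 : ∀ r, δ r = 0 := fun r => hH.haus _ fun j => SModEq.zero.2 (by
    obtain ⟨b, hb, hrb⟩ := hdense r (j + 1)
    have h := hpow j _ hrb
    rwa [map_sub, hsub b hb, sub_zero] at h)
  have hW : W = ⊤ := by
    rw [eq_top_iff, ← span_range_cD k' R, Submodule.span_le]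
    rintro _ ⟨r, rfl⟩
    exact (Submodule.Quotient.mk_eq_zero W).1 (hδ0 r)
  intro z
  exact (show z ∈ W by rw [hW]; trivial)

variable (k R : Type u) [Field k] [CommRing R] [IsLocalRing R] [Algebra k R]
  [IsNoetherianRing R] [IsAdicComplete (maximalIdeal R) R] [Module.Finite k (ResidueField R)]

omit [IsNoetherianRing R] [IsAdicComplete (maximalIdeal R) R] in
theorem finite_residue_quotient' (J : Ideal R) [IsLocalRing (R ⧸ J)] :
    Module.Finite k (ResidueField (R ⧸ J)) := by
  haveI : IsLocalHom (Ideal.Quotient.mk J) := IsLocalHom.of_surjective _ Ideal.Quotient.mk_surjective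
  let f : ResidueField R →+* ResidueField (R ⧸ J) := ResidueField.map (Ideal.Quotient.mk J)
  refine Module.Finite.of_surjective
    ({ toFun := f
       map_add' := map_add f
       map_smul' := fun c x => by
        obtain ⟨a, rfl⟩ := residue_surjective x
        rw [Algebra.smul_def, Algebra.smul_def, map_mul, RingHom.id_apply]
        rfl } : ResidueField R →ₗ[k] ResidueField (R ⧸ J)) fun z => ?_
  obtain ⟨z, rfl⟩ := residue_surjective z
  obtain ⟨a, rfl⟩ := Ideal.Quotient.mk_surjective z
  exact ⟨residue R a, rfl⟩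

theorem ringKrullDim_le_of_minimalPrimes {S : Type u} [CommRing S] (c : WithBot ℕ∞)
    (h : ∀ Q ∈ minimalPrimes S, ringKrullDim (S ⧸ Q) ≤ c) : ringKrullDim S ≤ c := by
  rw [ringKrullDim, Order.krullDim_eq_iSup_coheight]
  refine iSup_le fun x => ?_
  obtain ⟨Q, hQ, hQx⟩ := Ideal.exists_minimalPrimes_le (I := (⊥ : Ideal S)) (J := x.asIdeal) bot_le
  haveI : Q.IsPrime := hQ.1.1
  refine le_trans ?_ (h Q hQ)
  let y : PrimeSpectrum S := ⟨Q, inferInstance⟩
  have h1 : ringKrullDim (S ⧸ Q) = (Order.coheight y : WithBot ℕ∞) := by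
    rw [ringKrullDim_quotient, Order.coheight_eq_krullDim_Ici]
    refine Order.krullDim_eq_of_orderIso (OrderIso.setCongr _ _ ?_)
    ext z
    exact (PrimeSpectrum.mem_zeroLocus z _).trans Iff.rfl
  rw [h1]
  exact WithBot.coe_le_coe.2 (Order.coheight_anti (show y ≤ x from hQx))

/-- Regularity at `p` when `Ω̂_p` has `dim R/q` generators. -/
theorem regular_of_gen (p : Ideal R) [p.IsPrime] (hp : p ≠ maximalIdeal R) {n : ℕ}
    (hgen : ∃ s : Fin n → LocalizedModule p.primeCompl (CO k R),
      Submodule.span (Localization.AtPrime p) (Set.range s) = ⊤)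
    (q : Ideal R) (hq : q ∈ minimalPrimes R) (hqp : q ≤ p) (hn : ringKrullDim (R ⧸ q) = n) :
    IsRegularLocalRing (Localization.AtPrime p) ∧ CAlg.IsGeometricallyRegular k (Localization.AtPrime p) ∧
      (Module.Free (Localization.AtPrime p) (LocalizedModule p.primeCompl (CO k R)) ∧
        Module.finrank (Localization.AtPrime p) (LocalizedModule p.primeCompl (CO k R)) = n) := by
  classical
  haveI : q.IsPrime := Ideal.minimalPrimes_isPrime hq
  haveI := finite_CO k R
  obtain ⟨u, hu⟩ := exists_units k R p hgen (fun _ => (1 : R))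
    fun _ h => (inferInstance : p.IsPrime).ne_top ((Ideal.eq_top_iff_one p).2 h)
  let y : Fin n → R := fun i => (u i : R) * 1
  let J := RingHom.ker (algebraMap R (Localization.AtPrime p))
  have hJle : ∀ (Q : Ideal R), Q.IsPrime → Q ≤ p → J ≤ Q := fun Q hQ hQp a ha => by
    obtain ⟨t, ht⟩ := (IsLocalization.map_eq_zero_iff p.primeCompl (Localization.AtPrime p) a).1 ha
    exact (hQ.mem_or_mem (show (t : R) * a ∈ Q by rw [ht]; exact zero_mem _)).resolve_left fun h => t.2 (hQp h)
  have hJp : J ≤ p := hJle p inferInstance le_rfl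
  haveI : Nontrivial (R ⧸ J) := Ideal.Quotient.nontrivial_iff.2 fun h =>
    (inferInstance : p.IsPrime).ne_top (top_le_iff.1 (h ▸ hJp))
  haveI : IsLocalRing (R ⧸ J) := IsLocalRing.of_surjective' _ Ideal.Quotient.mk_surjective
  haveI := finite_residue_quotient' k R J
  haveI : IsAdicComplete (maximalIdeal (R ⧸ J)) (R ⧸ J) :=
    FiniteCompleteLib.isAdicComplete_maximalIdeal R (R ⧸ J)
  haveI : IsLocalHom (algebraMap R (R ⧸ J)) := IsLocalHom.of_surjective _ Ideal.Quotient.mk_surjective
  let pb := p.map (Ideal.Quotient.mk J)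
  haveI : pb.IsPrime := Ideal.map_isPrime_of_surjective Ideal.Quotient.mk_surjective (by rwa [Ideal.mk_ker])
  have hcp : pb.comap (algebraMap R (R ⧸ J)) = p := by
    rw [Ideal.Quotient.algebraMap_eq, Ideal.comap_map_of_surjective _ Ideal.Quotient.mk_surjective,
      ← RingHom.ker_eq_comap_bot, Ideal.mk_ker, sup_eq_left.2 hJp]
  have hcommax : (maximalIdeal (R ⧸ J)).comap (algebraMap R (R ⧸ J)) = maximalIdeal R :=
    ((local_hom_TFAE (algebraMap R (R ⧸ J))).out 0 4 rfl rfl).mp inferInstance
  have hpb : pb ≠ maximalIdeal (R ⧸ J) := fun h => hp (by rw [← hcp, h, hcommax])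
  let qb := q.map (Ideal.Quotient.mk J)
  have hJq : J ≤ q := hJle q inferInstance hqp
  haveI : qb.IsPrime := Ideal.map_isPrime_of_surjective Ideal.Quotient.mk_surjective (by rwa [Ideal.mk_ker])
  have hdimqb : ringKrullDim ((R ⧸ J) ⧸ qb) = n := by
    rw [ringKrullDim_eq_of_ringEquiv (DoubleQuot.quotQuotEquivQuotOfLE hJq), hn]
  have hqb : qb ∈ minimalPrimes (R ⧸ J) := by
    refine ⟨⟨inferInstance, bot_le⟩, fun Q hQ hQq => ?_⟩
    haveI : Q.IsPrime := hQ.1
    have h1 : q ≤ Q.comap (Ideal.Quotient.mk J) := by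
      refine hq.2 ⟨Ideal.comap_isPrime _ Q, bot_le⟩ ((Ideal.comap_mono hQq).trans (le_of_eq ?_))
      rw [Ideal.comap_map_of_surjective _ Ideal.Quotient.mk_surjective, ← RingHom.ker_eq_comap_bot, Ideal.mk_ker,
        sup_eq_left.2 hJq]
    exact (Ideal.map_mono h1).trans Ideal.map_comap_le
  have hdim : ringKrullDim (R ⧸ J) = n := by
    refine le_antisymm (ringKrullDim_le_of_minimalPrimes _ fun Q hQ => ?_)
      (hdimqb ▸ ringKrullDim_quotient_le qb)
    haveI : Q.IsPrime := hQ.1.1
    let Qc := Q.comap (Ideal.Quotient.mk J)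
    have hQp : Qc ≤ p := by
      intro a ha
      by_contra hap
      refine Set.disjoint_iff.mp (Ideal.disjoint_nonZeroDivisors_of_mem_minimalPrimes hQ)
        ⟨ha, mem_nonZeroDivisors_iff_right.2 fun z hz => ?_⟩
      obtain ⟨t, rfl⟩ := Ideal.Quotient.mk_surjective z
      rw [← map_mul, Ideal.Quotient.eq_zero_iff_mem, RingHom.mem_ker, map_mul] at hz
      rw [Ideal.Quotient.eq_zero_iff_mem, RingHom.mem_ker]
      exact (IsLocalization.map_units (Localization.AtPrime p) (⟨a, hap⟩ : p.primeCompl)).mul_left_eq_zero.1 hz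
    haveI : Qc.IsPrime := Ideal.comap_isPrime _ Q
    obtain ⟨d, hd⟩ : ∃ d : ℕ, ringKrullDim (R ⧸ Qc) = d := by
      haveI := isLocalRing_quotient R Qc
      obtain ⟨d, hd⟩ := ENat.ne_top_iff_exists.1
        (Ideal.height_ne_top (IsLocalRing.maximalIdeal.isMaximal (R ⧸ Qc)).ne_top)
      exact ⟨d, by rw [← IsLocalRing.maximalIdeal_height_eq_ringKrullDim, ← hd]; rfl⟩
    have hle : d ≤ n := le_card_of_span k R p Qc hQp hd hgen
    have hmap : Qc.map (Ideal.Quotient.mk J) = Q := Ideal.map_comap_of_surjective _ Ideal.Quotient.mk_surjective Q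
    rw [← ringKrullDim_eq_of_ringEquiv (Ideal.quotEquivOfEq hmap), ringKrullDim_eq_of_ringEquiv
      (DoubleQuot.quotQuotEquivQuotOfLE (show J ≤ Qc from fun a ha => by
        show Ideal.Quotient.mk J a ∈ Q
        rw [Ideal.Quotient.eq_zero_iff_mem.2 ha]; exact zero_mem _)), hd]
    exact_mod_cast hle
  have hspanb := span_transfer (k := k) (k' := k) (A := R) (R := R ⧸ J)
    (fun r j => ⟨r, Subring.subset_closure (Or.inl (Ideal.Quotient.mk_surjective r)), by simp⟩)
    p pb hcp y hu
  obtain ⟨i1, i2, hloc, hfin, hunr⟩ := exists_unramified_of_gen k (R ⧸ J) pb hpb hdim le_rfl ⟨_, hspanb⟩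
  letI := i1
  haveI := i2
  haveI := hfin
  haveI := hunr
  obtain ⟨het, -, hgr⟩ := etale_of_unramified k (R ⧸ J) hloc pb qb hqb (Ideal.map_mono hqp) hdimqb
  -- `R_p ≅ (R/J)_p`
  have hu' : ∀ t : p.primeCompl,
      IsUnit (((IsScalarTower.toAlgHom k (R ⧸ J) (Localization.AtPrime pb)).comp (Ideal.Quotient.mkₐ k J)) (t : R)) := by
    rintro ⟨t, ht⟩
    refine IsLocalization.map_units (Localization.AtPrime pb) (⟨Ideal.Quotient.mk J t, ?_⟩ : pb.primeCompl)
    intro h
    exact ht (le_of_eq hcp h)
  let φ : Localization.AtPrime p →ₐ[k] Localization.AtPrime pb := IsLocalization.liftAlgHom hu'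
  have hφ : ∀ r, φ (algebraMap R _ r) = algebraMap (R ⧸ J) (Localization.AtPrime pb) (Ideal.Quotient.mk J r) :=
    fun r => IsLocalization.lift_eq _ r
  have hφbij : Function.Bijective φ := by
    refine ⟨(injective_iff_map_eq_zero _).2 fun z hz => ?_, fun z => ?_⟩
    · obtain ⟨r, t, rfl⟩ := IsLocalization.exists_mk'_eq p.primeCompl z
      have h1 : φ (algebraMap R _ r) = 0 := by
        rw [← IsLocalization.mk'_spec (Localization.AtPrime p) r t, map_mul, hz, zero_mul]
      rw [hφ] at h1
      obtain ⟨⟨v, hv⟩, hv0⟩ := (IsLocalization.map_eq_zero_iff pb.primeCompl _ _).1 h1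
      obtain ⟨v, rfl⟩ := Ideal.Quotient.mk_surjective v
      have hvp : v ∈ p.primeCompl := fun h => hv (Ideal.mem_map_of_mem _ h)
      rw [← map_mul, Ideal.Quotient.eq_zero_iff_mem, RingHom.mem_ker, map_mul] at hv0
      rw [IsLocalization.mk'_eq_zero_iff]
      have hr0 := (IsLocalization.map_units (Localization.AtPrime p) (⟨v, hvp⟩ : p.primeCompl)).mul_right_eq_zero.1 hv0
      exact (IsLocalization.map_eq_zero_iff p.primeCompl _ r).1 hr0
    · obtain ⟨rb, ⟨tb, htb⟩, rfl⟩ := IsLocalization.exists_mk'_eq pb.primeCompl z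
      obtain ⟨r, rfl⟩ := Ideal.Quotient.mk_surjective rb
      obtain ⟨t, rfl⟩ := Ideal.Quotient.mk_surjective tb
      have htp : t ∈ p.primeCompl := fun h => htb (Ideal.mem_map_of_mem _ h)
      refine ⟨IsLocalization.mk' _ r ⟨t, htp⟩, ?_⟩
      rw [IsLocalization.eq_mk'_iff_mul_eq, ← hφ, ← map_mul, IsLocalization.mk'_spec, hφ]
  let e : Localization.AtPrime p ≃ₐ[k] Localization.AtPrime pb := AlgEquiv.ofBijective φ hφbij
  haveI : IsRegularLocalRing (Localization.AtPrime pb) := by
    haveI : IsDomain (MvPowerSeries (Fin n) k) := NoZeroDivisors.to_isDomain _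
    haveI := isIntegrallyClosed_ps k n
    haveI : Algebra.FiniteType (MvPowerSeries (Fin n) k) (R ⧸ J) := Module.Finite.finiteType (R ⧸ J)
    exact (isEtaleAt_of_unramified_of_le (MvPowerSeries (Fin n) k) (R ⧸ J) pb qb (Ideal.map_mono hqp)
      (injective_mk_comp k (R ⧸ J) (IsScalarTower.toAlgHom k (MvPowerSeries (Fin n) k) (R ⧸ J))
        (RingHom.finite_algebraMap.2 inferInstance) qb hdimqb)).2.2
      ⟨fun P _ => RegLocal.isRegularLocalRing_localization _ P⟩
  haveI hreg : IsRegularLocalRing (Localization.AtPrime p) := IsRegularLocalRing.of_ringEquiv e.symm.toRingEquiv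
  refine ⟨hreg, ?_, ?_⟩
  · intro k' _ _ hk'
    haveI := hgr k' hk'
    exact IsRegularRing.of_ringEquiv
      (Algebra.TensorProduct.congr (AlgEquiv.refl (R := k) (A₁ := k')) e.symm).toRingEquiv
  · haveI := RegLocal.isDomain (R := Localization.AtPrime p)
    exact free_of_span R p q hq hqp (fun i => cD k R (y i)) hu (dim_le_finrank_fib k R le_rfl hn)

end Groth.Agent.EGA418Lib
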