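import Groth.Agent.EGA418Lib.Imperf
import Groth.Agent.FieldExtLib.Extend
import Groth.Agent.S5061

/-!
Purely inseparable extensions of the ground field making a complete local domain separable.
-/

set_option autoImplicit false
set_option linter.style.haveILetI false
universe u
open TensorProduct IsLocalRing KaehlerDifferential

namespace Groth.Agent.EGA418Lib

theorem isArtinianRing_of_span {R S : Type u} [CommRing R] [CommRing S] (hR : IsField R) (g : R →+* S)
    {r : ℕ} (e : Fin r → S) (h : ∀ z, ∃ c : Fin r → R, z = ∑ i, g (c i) * e i) : IsArtinianRing S := by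
  letI := g.toAlgebra
  haveI : IsArtinianRing R := by
    letI := hR.toField
    infer_instance
  haveI : Module.Finite R S := ⟨Submodule.fg_def.2 ⟨Set.range e, Set.finite_range e, eq_top_iff.2 fun z _ => by
    obtain ⟨c, rfl⟩ := h z
    exact Submodule.sum_mem _ fun i _ => by
      rw [← RingHom.algebraMap_toAlgebra g, ← Algebra.smul_def]
      exact Submodule.smul_mem _ _ (Submodule.subset_span ⟨i, rfl⟩)⟩⟩
  exact IsArtinianRing.of_finite R S

section tensor

variable (p : ℕ) [Fact p.Prime] {k P : Type u} [Field k] [CharP k p] [Field P] [Algebra k P]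
  [IsPurelyInseparable k P]

/-- Some `p`-power of every element of `P ⊗_k A` comes from `A`. -/
theorem exists_pow_mem_right {A : Type u} [CommRing A] [Algebra k A] [Nontrivial A] (x : P ⊗[k] A) :
    ∃ (e : ℕ) (a : A), x ^ p ^ e = 1 ⊗ₜ a := by
  haveI : ExpChar k p := ExpChar.prime Fact.out
  haveI : CharP A p := charP_of_injective_algebraMap (algebraMap k A).injective p
  haveI : CharP (P ⊗[k] A) p := charP_of_injective_ringHom
    (f := (Algebra.TensorProduct.includeRight : A →ₐ[k] P ⊗[k] A).toRingHom)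
    (Algebra.TensorProduct.includeRight_injective (algebraMap k P).injective) p
  induction x using TensorProduct.induction_on with
  | zero => exact ⟨0, 0, by simp⟩
  | tmul c a =>
    obtain ⟨e, y, hy⟩ := IsPurelyInseparable.pow_mem k p c
    refine ⟨e, y • a ^ p ^ e, ?_⟩
    rw [Algebra.TensorProduct.tmul_pow, ← hy, Algebra.algebraMap_eq_smul_one, TensorProduct.smul_tmul]
  | add x y hx hy =>
    obtain ⟨e, a, ha⟩ := hx
    obtain ⟨f, b, hb⟩ := hy
    refine ⟨e + f, a ^ p ^ f + b ^ p ^ e, ?_⟩
    rw [add_pow_char_pow, pow_add, pow_mul, ha, mul_comm (p ^ e), pow_mul, hb, Algebra.TensorProduct.tmul_pow,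
      Algebra.TensorProduct.tmul_pow, one_pow, one_pow, ← TensorProduct.tmul_add]

variable (A : Type u) [CommRing A] [IsDomain A] [Algebra k A]

include p

theorem isPrime_nilradical : (nilradical (P ⊗[k] A)).IsPrime := by
  have hinj : Function.Injective (Algebra.TensorProduct.includeRight : A →ₐ[k] P ⊗[k] A) :=
    Algebra.TensorProduct.includeRight_injective (algebraMap k P).injective
  haveI : Nontrivial (P ⊗[k] A) := hinj.nontrivial
  have hp0 : 0 < p := (Fact.out : p.Prime).pos
  refine ⟨fun h => ?_, fun {x y} hxy => ?_⟩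
  · obtain ⟨N, hN⟩ := mem_nilradical.1 (h.symm ▸ Submodule.mem_top : (1 : P ⊗[k] A) ∈ nilradical (P ⊗[k] A))
    rw [one_pow] at hN
    exact one_ne_zero hN
  · obtain ⟨e, a, ha⟩ := exists_pow_mem_right p x
    obtain ⟨f, b, hb⟩ := exists_pow_mem_right p y
    have hab : IsNilpotent (a ^ p ^ f * b ^ p ^ e) := by
      obtain ⟨N, hN⟩ := mem_nilradical.1 hxy
      refine ⟨N, hinj ?_⟩
      rw [map_pow, map_zero, Algebra.TensorProduct.includeRight_apply]
      have hx' : (1 : P) ⊗ₜ[k] (a ^ p ^ f) = x ^ (p ^ e * p ^ f) := by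
        rw [pow_mul, ha, Algebra.TensorProduct.tmul_pow, one_pow]
      have hy' : (1 : P) ⊗ₜ[k] (b ^ p ^ e) = y ^ (p ^ e * p ^ f) := by
        rw [mul_comm, pow_mul, hb, Algebra.TensorProduct.tmul_pow, one_pow]
      rw [← mul_one (1 : P), ← Algebra.TensorProduct.tmul_mul_tmul, hx', hy', ← mul_pow, ← pow_mul,
        mul_comm _ N, pow_mul, hN, zero_pow]
      positivity
    rcases mul_eq_zero.1 hab.eq_zero with h | h
    · left
      refine mem_nilradical.2 ⟨p ^ e, ?_⟩
      rw [ha, pow_eq_zero_iff (by positivity : p ^ f ≠ 0) |>.1 h, TensorProduct.tmul_zero]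
    · right
      refine mem_nilradical.2 ⟨p ^ f, ?_⟩
      rw [hb, pow_eq_zero_iff (by positivity : p ^ e ≠ 0) |>.1 h, TensorProduct.tmul_zero]

/-- The canonical map `A → (P ⊗ A)_red` is injective. -/
theorem injective_toRed :
    Function.Injective (fun a : A => Ideal.Quotient.mk (nilradical (P ⊗[k] A)) ((1 : P) ⊗ₜ[k] a)) := by
  intro a b h
  have h1 : IsNilpotent ((1 : P) ⊗ₜ[k] (a - b)) := by
    rw [TensorProduct.tmul_sub]
    exact mem_nilradical.1 (Ideal.Quotient.eq.1 h)
  obtain ⟨N, hN⟩ := h1
  rw [Algebra.TensorProduct.tmul_pow, one_pow, ← TensorProduct.tmul_zero A (1 : P)] at hN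
  exact sub_eq_zero.1 (eq_zero_of_pow_eq_zero
    (Algebra.TensorProduct.includeRight_injective (algebraMap k P).injective hN))

theorem isLocalRing_red [IsLocalRing A] : IsLocalRing ((P ⊗[k] A) ⧸ nilradical (P ⊗[k] A)) := by
  haveI := isPrime_nilradical p (k := k) (P := P) A
  have hinj : Function.Injective (Algebra.TensorProduct.includeRight : A →ₐ[k] P ⊗[k] A) :=
    Algebra.TensorProduct.includeRight_injective (algebraMap k P).injective
  haveI : Nontrivial (P ⊗[k] A) := hinj.nontrivial
  haveI : IsLocalRing (P ⊗[k] A) := by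
    refine IsLocalRing.of_nonunits_add fun x y hx hy => ?_
    haveI : CharP A p := charP_of_injective_algebraMap (algebraMap k A).injective p
    haveI : CharP (P ⊗[k] A) p := charP_of_injective_ringHom (f := (Algebra.TensorProduct.includeRight : A →ₐ[k] P ⊗[k] A).toRingHom) hinj p
    obtain ⟨e, a, ha⟩ := exists_pow_mem_right p x
    obtain ⟨f, b, hb⟩ := exists_pow_mem_right p y
    have hpe : p ^ e ≠ 0 := pow_ne_zero _ (Fact.out : p.Prime).ne_zero
    have hpf : p ^ f ≠ 0 := pow_ne_zero _ (Fact.out : p.Prime).ne_zero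
    have hna : a ∈ nonunits A := fun hu => hx ((isUnit_pow_iff hpe).1 (ha ▸ hu.map Algebra.TensorProduct.includeRight))
    have hnb : b ∈ nonunits A := fun hu => hy ((isUnit_pow_iff hpf).1 (hb ▸ hu.map Algebra.TensorProduct.includeRight))
    intro hu
    have h1 : IsUnit ((1 : P) ⊗ₜ[k] (a ^ p ^ f + b ^ p ^ e)) := by
      have h2 := hu.pow (p ^ (e + f))
      rw [add_pow_char_pow, pow_add, pow_mul, ha, mul_comm (p ^ e), pow_mul, hb, Algebra.TensorProduct.tmul_pow,
        Algebra.TensorProduct.tmul_pow, one_pow, one_pow, ← TensorProduct.tmul_add] at h2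
      exact h2
    obtain ⟨u, hu'⟩ := h1.exists_right_inv
    obtain ⟨g, c, hc⟩ := exists_pow_mem_right p u
    have h3 : IsUnit ((a ^ p ^ f + b ^ p ^ e) ^ p ^ g) := by
      refine IsUnit.of_mul_eq_one c (hinj ?_)
      rw [map_mul, map_pow, map_one, Algebra.TensorProduct.includeRight_apply, Algebra.TensorProduct.includeRight_apply,
        ← hc, ← mul_pow, hu', one_pow]
    refine IsLocalRing.nonunits_add ?_ ?_ ((isUnit_pow_iff (pow_ne_zero _ (Fact.out : p.Prime).ne_zero)).1 h3)
    · exact fun h => hna ((isUnit_pow_iff hpf).1 h)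
    · exact fun h => hnb ((isUnit_pow_iff hpe).1 h)
  exact IsLocalRing.of_surjective' _ Ideal.Quotient.mk_surjective

end tensor

variable (k C : Type u) [Field k] [CommRing C] [IsDomain C] [IsLocalRing C] [Algebra k C]
  [IsNoetherianRing C] [IsAdicComplete (maximalIdeal C) C] [Module.Finite k (ResidueField C)]
  (L : Type u) [Field L] [Algebra C L] [IsFractionRing C L] [Algebra k L] [IsScalarTower k C L]

/-- A finite purely inseparable extension after which the fraction field becomes separable. -/
theorem exists_purelyInseparable (p : ℕ) [Fact p.Prime] [CharP k p] {n : ℕ} (hn : ringKrullDim C = n) :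
    ∃ (k' : Type u) (_ : Field k') (_ : Algebra k k'), Module.Finite k k' ∧ IsPurelyInseparable k k' ∧
      Algebra.IsGeometricallyReduced k' ((k' ⊗[k] L) ⧸ nilradical (k' ⊗[k] L)) := by
  classical
  haveI : ExpChar k p := ExpChar.prime Fact.out
  haveI : ExpChar (AlgebraicClosure k) p := expChar_of_injective_algebraMap (algebraMap k (AlgebraicClosure k)).injective p
  let Q := perfectClosure k (AlgebraicClosure k)
  haveI : IsPRadical (algebraMap k Q) p := inferInstance
  haveI : ExpChar Q p := expChar_of_injective_algebraMap (algebraMap k Q).injective p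
  haveI : PerfectRing Q p := inferInstance
  refine (Groth.Agent.S5061.result p k L Q).1 ?_
  obtain ⟨φ, hfin, hinj, -⟩ := exists_normalization_domain k C hn
  let Pw := MvPowerSeries (Fin n) k
  haveI : IsDomain Pw := NoZeroDivisors.to_isDomain _
  letI : Algebra Pw C := φ.toRingHom.toAlgebra
  haveI : Module.Finite Pw C := hfin
  letI : Algebra Pw L := ((algebraMap C L).comp φ.toRingHom).toAlgebra
  haveI : IsScalarTower Pw C L := IsScalarTower.of_algebraMap_eq' rfl
  haveI : IsScalarTower k Pw L := IsScalarTower.of_algebraMap_eq fun c => by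
    show _ = algebraMap C L (φ (algebraMap k Pw c))
    rw [φ.commutes, ← IsScalarTower.algebraMap_apply]
  haveI : FaithfulSMul Pw L := (faithfulSMul_iff_algebraMap_injective Pw L).2 ((IsFractionRing.injective C L).comp hinj)
  let K := FractionRing Pw
  letI : Algebra K L := FractionRing.liftAlgebra Pw L
  haveI : IsScalarTower Pw K L := FractionRing.isScalarTower_liftAlgebra Pw L
  haveI : IsScalarTower k K L := IsScalarTower.of_algebraMap_eq fun c => by
    rw [IsScalarTower.algebraMap_apply k Pw K, ← IsScalarTower.algebraMap_apply Pw K L,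
      ← IsScalarTower.algebraMap_apply k Pw L]
  haveI : Module.Finite K L := finite_fractionField C L Pw K hinj
  haveI : Algebra.IsGeometricallyReduced k K :=
    FieldExtLib.imperfection_eq_bot_iff.2 (LinearMap.ker_eq_bot.2 (mapBaseChange_injective k n K))
  haveI : IsReduced (Q ⊗[k] K) := inferInstance
  haveI : Nontrivial (Q ⊗[k] K) :=
    (Algebra.TensorProduct.includeRight_injective (R := k) (A := Q) (B := K) (algebraMap k Q).injective).nontrivial
  haveI : IsReduced (K ⊗[k] Q) := isReduced_of_injective (Algebra.TensorProduct.comm k K Q) (AlgEquiv.injective _)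
  have hfield : IsField (K ⊗[k] Q) := by
    refine ⟨⟨0, 1, ?_⟩, fun a b => mul_comm a b, fun {x} hx => ?_⟩
    · haveI : Nontrivial (K ⊗[k] Q) := (Algebra.TensorProduct.comm k K Q).toEquiv.nontrivial
      exact zero_ne_one
    · obtain ⟨e, a, ha⟩ := exists_pow_mem_right p (P := Q) (Algebra.TensorProduct.comm k K Q x)
      have ha0 : a ≠ 0 := fun h => hx (by
        refine (Algebra.TensorProduct.comm k K Q).injective ?_
        rw [map_zero]
        exact IsReduced.eq_zero _ ⟨p ^ e, by rw [ha, h, TensorProduct.tmul_zero]⟩)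
      obtain ⟨m, hm⟩ : ∃ m, p ^ e = m + 1 :=
        ⟨p ^ e - 1, (Nat.sub_add_cancel (Nat.one_le_pow _ _ (Fact.out : p.Prime).pos)).symm⟩
      refine ⟨(Algebra.TensorProduct.comm k K Q).symm
        ((Algebra.TensorProduct.comm k K Q x) ^ m * (1 ⊗ₜ a⁻¹)), ?_⟩
      refine (Algebra.TensorProduct.comm k K Q).injective ?_
      rw [map_mul, AlgEquiv.apply_symm_apply, map_one, ← mul_assoc, ← pow_succ', ← hm, ha,
        Algebra.TensorProduct.tmul_mul_tmul, one_mul, mul_inv_cancel₀ ha0]
      rfl
  let g : K ⊗[k] Q →ₐ[k] L ⊗[k] Q := Algebra.TensorProduct.map (IsScalarTower.toAlgHom k K L) (AlgHom.id k Q)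
  obtain ⟨r, e, he⟩ := Module.Finite.exists_fin (R := K) (M := L)
  refine isArtinianRing_of_span (R := K ⊗[k] Q) (S := L ⊗[k] Q) hfield g.toRingHom (fun i => e i ⊗ₜ[k] (1 : Q)) fun z => ?_
  induction z using TensorProduct.induction_on with
  | zero => exact ⟨0, by simp⟩
  | add a b ha hb =>
    obtain ⟨c, rfl⟩ := ha
    obtain ⟨c', rfl⟩ := hb
    exact ⟨c + c', by simp [Finset.sum_add_distrib, add_mul]⟩
  | tmul l q =>
    obtain ⟨c, rfl⟩ := (Submodule.mem_span_range_iff_exists_fun K).1
      (show l ∈ Submodule.span K (Set.range e) by rw [he]; trivial)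
    refine ⟨fun i => c i ⊗ₜ[k] q, ?_⟩
    rw [TensorProduct.sum_tmul]
    refine Finset.sum_congr rfl fun i _ => ?_
    simp [g, Algebra.smul_def]

end Groth.Agent.EGA418Lib
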