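import Groth.Agent.EGA418Lib.CharZero
import Groth.Agent.EGA418Lib.CharP
import Groth.Agent.EGA418Lib.Main
import Groth.Agent.EGA418Lib.PIExt

/-!
A complete local domain becomes generically unramified over a power series ring after a finite purely
inseparable extension of the ground field.
-/

set_option autoImplicit false
set_option linter.style.haveILetI false
universe u
open TensorProduct IsLocalRing KaehlerDifferential

namespace Groth.Agent.EGA418Lib

variable (k A : Type u) [Field k] [CommRing A] [IsLocalRing A] [Algebra k A]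
  [IsNoetherianRing A] [IsAdicComplete (maximalIdeal A) A] [Module.Finite k (ResidueField A)]

theorem exists_gen_of_finrank_le (P : Ideal A) [P.IsPrime] {n : ℕ}
    (h : Module.finrank P.ResidueField (P.ResidueField ⊗[A] CO k A) ≤ n) :
    ∃ s : Fin n → LocalizedModule P.primeCompl (CO k A),
      Submodule.span (Localization.AtPrime P) (Set.range s) = ⊤ := by
  classical
  haveI := finite_CO k A
  obtain ⟨b, hb, hbs, hbli⟩ := exists_linearIndependent P.ResidueField (Set.range (toFib (M := CO k A) P))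
  have hall : Submodule.span P.ResidueField (Set.range (toFib (M := CO k A) P)) = ⊤ := by
    refine eq_top_iff.2 fun z hz => ?_
    clear hz
    induction z using TensorProduct.induction_on with
    | zero => exact zero_mem _
    | add a b ha hb => exact add_mem ha hb
    | tmul c m =>
      rw [show c ⊗ₜ[A] m = c • toFib P m by rw [toFib_apply, TensorProduct.smul_tmul', smul_eq_mul, mul_one]]
      exact Submodule.smul_mem _ c (Submodule.subset_span ⟨m, rfl⟩)
  rw [hall] at hbs
  haveI : Fintype b := hbli.setFinite.fintype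
  choose s hs using fun i : b => hb i.2
  have hcard : Fintype.card b ≤ n := by
    refine le_trans (le_of_eq ?_) h
    rw [← finrank_span_eq_card (R := P.ResidueField) (b := (Subtype.val : b → P.ResidueField ⊗[A] CO k A)) hbli,
      Subtype.range_coe, hbs, finrank_top]
  let e := Fintype.equivFin b
  let s' : Fin n → CO k A := fun j => if hj : (j : ℕ) < Fintype.card b then s (e.symm ⟨j, hj⟩) else 0
  refine ⟨fun j => LocalizedModule.mkLinearMap P.primeCompl (CO k A) (s' j), (span_localized_eq_top_iff P s').2 (eq_top_iff.2 ?_)⟩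
  rw [← hbs, Submodule.span_le]
  intro z hz
  refine Submodule.subset_span ⟨⟨e ⟨z, hz⟩, lt_of_lt_of_le (e ⟨z, hz⟩).2 hcard⟩, ?_⟩
  show toFib P (s' ⟨(e ⟨z, hz⟩ : ℕ), _⟩) = z
  rw [show s' ⟨(e ⟨z, hz⟩ : ℕ), lt_of_lt_of_le (e ⟨z, hz⟩).2 hcard⟩ = s ⟨z, hz⟩ from
    (dif_pos (e ⟨z, hz⟩).2).trans (congrArg s (e.symm_apply_apply _)), hs]

variable [IsDomain A]

theorem finrank_fib_bot_le_charZero [CharZero k] {n : ℕ} (hn : ringKrullDim A = n) :
    Module.finrank (⊥ : Ideal A).ResidueField ((⊥ : Ideal A).ResidueField ⊗[A] CO k A) ≤ n := by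
  haveI : (⊥ : Ideal A).IsPrime := Ideal.isPrime_bot
  have h0 : maximalIdeal (Localization.AtPrime (⊥ : Ideal A)) =
      Ideal.span (Set.range fun i : Fin 0 => algebraMap A (Localization.AtPrime (⊥ : Ideal A)) (Fin.elim0 i : A)) := by
    rw [Set.range_eq_empty, Ideal.span_empty, ← Localization.AtPrime.map_eq_maximalIdeal, Ideal.map_bot]
  simpa using finrank_fib_le_of_charZero k A ⊥ (fun i : Fin 0 => (Fin.elim0 i : A)) (fun i => Fin.elim0 i) h0
    ((ringKrullDim_eq_of_ringEquiv (RingEquiv.quotientBot A)).trans hn)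

theorem finrank_fib_bot_le_charP (p : ℕ) [ExpChar k p] (hp : p.Prime) (hk : (frobenius k p).Finite)
    (hsep : Algebra.IsGeometricallyReduced k (Localization.AtPrime (⊥ : Ideal A))) {n : ℕ}
    (hn : ringKrullDim A = n) :
    Module.finrank (⊥ : Ideal A).ResidueField ((⊥ : Ideal A).ResidueField ⊗[A] CO k A) ≤ n := by
  haveI : (⊥ : Ideal A).IsPrime := Ideal.isPrime_bot
  let S := Localization.AtPrime (⊥ : Ideal A)
  have hmax : maximalIdeal S = ⊥ := by rw [← Localization.AtPrime.map_eq_maximalIdeal, Ideal.map_bot]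
  have hfield : IsField S := isField_iff_maximalIdeal_eq.2 hmax
  haveI : IsRegularLocalRing S := IsRegularLocalRing.of_spanFinrank_maximalIdeal_le S (by
    rw [hmax, Submodule.spanFinrank_bot]
    exact ringKrullDim_nonneg_of_nontrivial)
  have hfs : CAlgX.IsAdicFormallySmooth k S (maximalIdeal S) := by
    refine Groth.Agent.S2471.result.2 ⟨inferInstance, ?_⟩
    letI : Field S := hfield.toField
    haveI : Algebra.IsGeometricallyReduced k S := hsep
    have h1 := LinearMap.ker_eq_bot.1 (FieldExtLib.imperfection_eq_bot_iff.1 (inferInstance : Algebra.IsGeometricallyReduced k S))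
    exact Module.Flat.lTensor_preserves_injective_linearMap (M := ResidueField S) _ h1
  rw [finrank_fib_eq_of_charP k A p hp hk ⊥ hfs ((ringKrullDim_eq_of_ringEquiv (RingEquiv.quotientBot A)).trans hn)]
  have hc : Module.finrank (ResidueField S) (CotangentSpace S) = 0 := by
    rw [← IsLocalRing.spanFinrank_maximalIdeal_eq_finrank_cotangentSpace, hmax, Submodule.spanFinrank_bot]
  exact le_of_eq (by rw [show Module.finrank (⊥ : Ideal A).ResidueField (CotangentSpace S) = 0 from hc, zero_add])

theorem exists_unramified_generic (hA : ¬ IsField A) {n : ℕ} (hn : ringKrullDim A = n)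
    (h : Module.finrank (⊥ : Ideal A).ResidueField ((⊥ : Ideal A).ResidueField ⊗[A] CO k A) ≤ n) :
    ∃ (_ : Algebra (MvPowerSeries (Fin n) k) A) (_ : IsScalarTower k (MvPowerSeries (Fin n) k) A),
      IsLocalHom (algebraMap (MvPowerSeries (Fin n) k) A) ∧
      Function.Injective (algebraMap (MvPowerSeries (Fin n) k) A) ∧
      Module.Finite (MvPowerSeries (Fin n) k) A ∧
      Algebra.IsUnramifiedAt (MvPowerSeries (Fin n) k) (⊥ : Ideal A) := by
  haveI : (⊥ : Ideal A).IsPrime := Ideal.isPrime_bot
  obtain ⟨i1, i2, hloc, hfin, hunr⟩ := exists_unramified_of_gen k A ⊥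
    (fun h0 => hA (isField_iff_maximalIdeal_eq.2 h0.symm)) hn le_rfl (exists_gen_of_finrank_le k A ⊥ h)
  letI := i1
  haveI := i2
  haveI := hfin
  refine ⟨i1, i2, hloc, ?_, hfin, hunr⟩
  exact Function.Injective.of_comp (injective_mk_comp k A (IsScalarTower.toAlgHom k (MvPowerSeries (Fin n) k) A)
    (RingHom.finite_algebraMap.2 inferInstance) ⊥ ((ringKrullDim_eq_of_ringEquiv (RingEquiv.quotientBot A)).trans hn))

section red

variable (k' : Type u) [Field k'] [Algebra k k'] [Module.Finite k k']

omit [IsLocalRing A] [IsNoetherianRing A] [IsAdicComplete (maximalIdeal A) A]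
  [Module.Finite k (ResidueField A)] [IsDomain A] in
/-- `A → (k' ⊗_k A)_red`. -/
theorem finite_toRed : ((Ideal.Quotient.mk (nilradical (k' ⊗[k] A))).comp
    (Algebra.TensorProduct.includeRight : A →ₐ[k] k' ⊗[k] A).toRingHom).Finite := by
  refine RingHom.Finite.comp (RingHom.Finite.of_surjective _ Ideal.Quotient.mk_surjective) ?_
  letI : Algebra A (k' ⊗[k] A) := (Algebra.TensorProduct.includeRight : A →ₐ[k] k' ⊗[k] A).toRingHom.toAlgebra
  obtain ⟨r, e, he⟩ := Module.Finite.exists_fin (R := k) (M := k')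
  refine (⟨Submodule.fg_def.2 ⟨Set.range fun i => e i ⊗ₜ[k] (1 : A), Set.finite_range _, eq_top_iff.2 fun z hz => ?_⟩⟩ :
    Module.Finite A (k' ⊗[k] A))
  clear hz
  induction z using TensorProduct.induction_on with
  | zero => exact zero_mem _
  | add a b ha hb => exact add_mem ha hb
  | tmul c a =>
    obtain ⟨g, rfl⟩ := (Submodule.mem_span_range_iff_exists_fun k).1
      (show c ∈ Submodule.span k (Set.range e) by rw [he]; trivial)
    rw [TensorProduct.sum_tmul]
    refine Submodule.sum_mem _ fun i _ => ?_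
    have : (g i • e i) ⊗ₜ[k] a = (g i • a) • (e i ⊗ₜ[k] (1 : A)) := by
      rw [Algebra.smul_def (g i • a), RingHom.algebraMap_toAlgebra]
      show _ = ((1 : k') ⊗ₜ[k] (g i • a)) * _
      rw [Algebra.TensorProduct.tmul_mul_tmul, one_mul, mul_one, TensorProduct.smul_tmul]
    rw [this]
    exact Submodule.smul_mem _ _ (Submodule.subset_span ⟨i, rfl⟩)

theorem red_props [IsDomain ((k' ⊗[k] A) ⧸ nilradical (k' ⊗[k] A))]
    [IsLocalRing ((k' ⊗[k] A) ⧸ nilradical (k' ⊗[k] A))]
    (hinj : Function.Injective (fun a : A => Ideal.Quotient.mk (nilradical (k' ⊗[k] A)) ((1 : k') ⊗ₜ[k] a)))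
    (hA : ¬ IsField A) {n : ℕ} (hn : ringKrullDim A = n) :
    IsNoetherianRing ((k' ⊗[k] A) ⧸ nilradical (k' ⊗[k] A)) ∧
    IsAdicComplete (maximalIdeal ((k' ⊗[k] A) ⧸ nilradical (k' ⊗[k] A))) ((k' ⊗[k] A) ⧸ nilradical (k' ⊗[k] A)) ∧
    Module.Finite k' (ResidueField ((k' ⊗[k] A) ⧸ nilradical (k' ⊗[k] A))) ∧
    ¬ IsField ((k' ⊗[k] A) ⧸ nilradical (k' ⊗[k] A)) ∧
    ringKrullDim ((k' ⊗[k] A) ⧸ nilradical (k' ⊗[k] A)) = n := by
  let A' := (k' ⊗[k] A) ⧸ nilradical (k' ⊗[k] A)
  let f : A →+* A' := (Ideal.Quotient.mk _).comp (Algebra.TensorProduct.includeRight : A →ₐ[k] k' ⊗[k] A).toRingHom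
  have hf : f.Finite := finite_toRed k A k'
  letI : Algebra A A' := f.toAlgebra
  haveI : Module.Finite A A' := hf
  haveI : IsScalarTower k A A' := IsScalarTower.of_algebraMap_eq fun c => by
    show _ = Ideal.Quotient.mk _ ((Algebra.TensorProduct.includeRight : A →ₐ[k] k' ⊗[k] A) (algebraMap k A c))
    rw [AlgHom.commutes]
    rfl
  haveI : Algebra.IsIntegral A A' := Algebra.IsIntegral.of_finite A A'
  haveI : IsLocalHom (algebraMap A A') := RingHom.IsIntegral.isLocalHom (RingHom.IsIntegral.of_finite hf) hinj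
  haveI : IsNoetherianRing A' := IsNoetherianRing.of_finite A A'
  refine ⟨inferInstance, FiniteCompleteLib.isAdicComplete_maximalIdeal A A', ?_, fun h => hA ?_, ?_⟩
  · haveI : Module.Finite k (ResidueField A') := by
      haveI : IsScalarTower k (ResidueField A) (ResidueField A') := IsScalarTower.of_algebraMap_eq fun c => by
        rw [IsScalarTower.algebraMap_apply k A (ResidueField A),
          ← IsScalarTower.algebraMap_apply A (ResidueField A) (ResidueField A'),
          IsScalarTower.algebraMap_apply A A' (ResidueField A'), ← IsScalarTower.algebraMap_apply k A A',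
          ← IsScalarTower.algebraMap_apply k A' (ResidueField A')]
      exact Module.Finite.trans (ResidueField A) (ResidueField A')
    exact Module.Finite.of_restrictScalars_finite k k' (ResidueField A')
  · exact isField_of_isIntegral_of_isField hinj h
  · rw [← GrSegreLib.ringKrullDim_eq_of_integral_injective f hinj (RingHom.IsIntegral.of_finite hf)]
    exact hn

omit [IsLocalRing A] [IsNoetherianRing A] [IsAdicComplete (maximalIdeal A) A]
  [Module.Finite k (ResidueField A)] in
theorem isGeometricallyReduced_red (L : Type u) [Field L] [Algebra A L] [IsFractionRing A L] [Algebra k L]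
    [IsScalarTower k A L] (p : ℕ) [Fact p.Prime] [CharP k p] [IsPurelyInseparable k k']
    (hM : Algebra.IsGeometricallyReduced k' ((k' ⊗[k] L) ⧸ nilradical (k' ⊗[k] L)))
    [IsDomain ((k' ⊗[k] A) ⧸ nilradical (k' ⊗[k] A))] :
    Algebra.IsGeometricallyReduced k'
      (Localization.AtPrime (⊥ : Ideal ((k' ⊗[k] A) ⧸ nilradical (k' ⊗[k] A)))) := by
  haveI := hM
  haveI : (nilradical (k' ⊗[k] L)).IsPrime := isPrime_nilradical p (k := k) (P := k') L
  let M := (k' ⊗[k] L) ⧸ nilradical (k' ⊗[k] L)
  let A' := (k' ⊗[k] A) ⧸ nilradical (k' ⊗[k] A)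
  haveI : (⊥ : Ideal A').IsPrime := Ideal.isPrime_bot
  have hMfield : IsField M := by
    let fL : L →+* M := (Ideal.Quotient.mk _).comp (Algebra.TensorProduct.includeRight : L →ₐ[k] k' ⊗[k] L).toRingHom
    letI : Algebra L M := fL.toAlgebra
    haveI : Module.Finite L M := finite_toRed k L k'
    haveI : Algebra.IsIntegral L M := Algebra.IsIntegral.of_finite L M
    exact isField_of_isIntegral_of_isField' (R := L) (Field.toIsField L)
  let θ : k' ⊗[k] A →ₐ[k'] k' ⊗[k] L :=
    Algebra.TensorProduct.map (AlgHom.id k' k') (IsScalarTower.toAlgHom k A L)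
  have hθ : nilradical (k' ⊗[k] A) ≤ (nilradical (k' ⊗[k] L)).comap θ.toRingHom := fun x hx => by
    rw [Ideal.mem_comap, mem_nilradical]; exact (mem_nilradical.1 hx).map θ.toRingHom
  let ψ : A' →ₐ[k'] M := Ideal.quotientMapₐ _ θ hθ
  have hψ : Function.Injective ψ := by
    rw [injective_iff_map_eq_zero]
    intro x hx
    obtain ⟨x, rfl⟩ := Ideal.Quotient.mk_surjective x
    haveI : Nontrivial A := inferInstance
    obtain ⟨e, a, ha⟩ := exists_pow_mem_right p (k := k) (P := k') x
    have h1 : IsNilpotent (θ x) := mem_nilradical.1 (Ideal.Quotient.eq_zero_iff_mem.1 hx)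
    obtain ⟨N, hN⟩ := h1
    have h2 : (1 : k') ⊗ₜ[k] (algebraMap A L a ^ N) = 0 := by
      calc (1 : k') ⊗ₜ[k] (algebraMap A L a ^ N) = θ (((1 : k') ⊗ₜ[k] a) ^ N) := by
              rw [Algebra.TensorProduct.tmul_pow, one_pow]; simp [θ]
        _ = θ (x ^ p ^ e) ^ N := by rw [map_pow, ha]
        _ = 0 := by rw [map_pow, ← pow_mul, mul_comm, pow_mul, hN, zero_pow (pow_ne_zero _ (Fact.out : p.Prime).ne_zero)]
    have h3 : a = 0 := by
      rw [← TensorProduct.tmul_zero L (1 : k')] at h2
      have h4 := eq_zero_of_pow_eq_zero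
        (Algebra.TensorProduct.includeRight_injective (R := k) (A := k') (B := L) (algebraMap k k').injective h2)
      exact IsFractionRing.injective A L (h4.trans (map_zero _).symm)
    rw [Ideal.Quotient.eq_zero_iff_mem, mem_nilradical]
    exact ⟨p ^ e, by rw [ha, h3, TensorProduct.tmul_zero]⟩
  have hu : ∀ y : (⊥ : Ideal A').primeCompl, IsUnit (ψ y) := fun y => by
    obtain ⟨z, hz⟩ := hMfield.mul_inv_cancel (show ψ y ≠ 0 from fun h => y.2 (by
      exact Submodule.mem_bot (R := A') |>.2 (hψ (h.trans (map_zero ψ).symm))))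
    exact IsUnit.of_mul_eq_one z hz
  let Ψ : Localization.AtPrime (⊥ : Ideal A') →ₐ[k'] M := IsLocalization.liftAlgHom hu
  refine Algebra.IsGeometricallyReduced.of_injective Ψ ?_
  refine (IsLocalization.lift_injective_iff (g := ψ.toRingHom) hu).2 fun x y => ⟨fun h => ?_, fun h => ?_⟩
  · obtain ⟨c, hc⟩ := (IsLocalization.eq_iff_exists (⊥ : Ideal A').primeCompl _).1 h
    have := congrArg ψ hc
    rw [map_mul, map_mul] at this
    exact (hu c).mul_left_cancel this
  · exact congrArg _ (hψ h)

end red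

end Groth.Agent.EGA418Lib
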