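import Groth.Agent.EGA418Lib.Component
import Groth.Agent.EGA418Lib.Generators
import Groth.Agent.EGA418Lib.Free5074
import Groth.Agent.EGA418Lib.RedExt

/-!
Regularity of `A ⊗̂_k k'` over `p` versus freeness of `Ω̂` at `p`.
-/

set_option autoImplicit false
set_option linter.style.haveILetI false
universe u
open TensorProduct IsLocalRing

namespace Groth.Agent.EGA418Lib

attribute [local instance] Algebra.TensorProduct.rightAlgebra

variable (k A k' : Type u) [Field k] [CommRing A] [IsNoetherianRing A] [IsLocalRing A] [Algebra k A]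
  [IsAdicComplete (maximalIdeal A) A] [Module.Finite k (ResidueField A)] [Field k'] [Algebra k k']

theorem nontrivial_CT : Nontrivial (CT k A k') := by
  have hne : extI k A k' ≠ ⊤ := fun h => (maximalIdeal.isMaximal A).ne_top (by
    rw [← Ideal.comap_map_eq_self_of_faithfullyFlat (B := A ⊗[k] k') (maximalIdeal A)]
    show (extI k A k').comap _ = ⊤
    rw [h, Ideal.comap_top])
  haveI := Ideal.Quotient.nontrivial_iff.2 hne
  exact (AdicCompletion.evalOneₐ_surjective (extI k A k')).nontrivial

theorem exists_prime_over (p : Ideal A) [p.IsPrime] :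
    ∃ (p' : Ideal (CT k A k')) (_ : p'.IsPrime), p'.comap (algebraMap A (CT k A k')) = p := by
  haveI := nontrivial_CT k A k'
  obtain ⟨M, hM⟩ := Ideal.exists_maximal (CT k A k')
  obtain ⟨-, -, hff, -, -⟩ := local_props k A k' M
  haveI := hff
  obtain ⟨P, hP⟩ := PrimeSpectrum.comap_surjective_of_faithfullyFlat (A := A) (B := Localization.AtPrime M)
    ⟨p, inferInstance⟩
  refine ⟨P.asIdeal.comap (algebraMap (CT k A k') (Localization.AtPrime M)), Ideal.comap_isPrime _ _, ?_⟩
  rw [Ideal.comap_comap, ← IsScalarTower.algebraMap_eq]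
  exact congrArg PrimeSpectrum.asIdeal hP

/-- The data attached to a prime `p'` over `p` in a local ring of `A ⊗̂_k k'`. -/
theorem local_data (p : Ideal A) [p.IsPrime] (p' : Ideal (CT k A k')) [p'.IsPrime]
    (hp' : p'.comap (algebraMap A (CT k A k')) = p) (M : Ideal (CT k A k')) [M.IsMaximal] (hM : p' ≤ M) :
    ∃ (P : Ideal (Localization.AtPrime M)) (_ : P.IsPrime),
      P.comap (algebraMap A (Localization.AtPrime M)) = p ∧
      Nonempty (Localization.AtPrime P ≃+* Localization.AtPrime p') := by
  let R := Localization.AtPrime M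
  let P : Ideal R := p'.map (algebraMap (CT k A k') R)
  have hdisj : Disjoint (M.primeCompl : Set (CT k A k')) p' := Set.disjoint_left.2 fun x hx hxp => hx (hM hxp)
  haveI hP : P.IsPrime := IsLocalization.isPrime_of_isPrime_disjoint M.primeCompl R p' inferInstance hdisj
  have hcP : P.comap (algebraMap (CT k A k') R) = p' :=
    IsLocalization.comap_map_of_isPrime_disjoint M.primeCompl R inferInstance hdisj
  refine ⟨P, hP, ?_, ?_⟩
  · rw [IsScalarTower.algebraMap_eq A (CT k A k') R, ← Ideal.comap_comap, hcP, hp']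
  · have h1 : IsLocalization (P.comap (algebraMap (CT k A k') R)).primeCompl (Localization.AtPrime P) :=
      IsLocalization.isLocalization_isLocalization_atPrime_isLocalization M.primeCompl
        (S := R) (Localization.AtPrime P) P
    haveI : IsLocalization p'.primeCompl (Localization.AtPrime P) := by
      have : p'.primeCompl = (P.comap (algebraMap (CT k A k') R)).primeCompl := by
        ext x; simp only [Ideal.mem_primeCompl_iff, hcP]
      rw [this]
      exact h1
    exact ⟨(IsLocalization.algEquiv p'.primeCompl (Localization.AtPrime P) (Localization.AtPrime p')).toRingEquiv⟩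

/-- A minimal prime of a local ring of `A ⊗̂_k k'` has the dimension of its trace on `A`. -/
theorem minimalPrime_data (M : Ideal (CT k A k')) [M.IsMaximal] (Q : Ideal (Localization.AtPrime M))
    (hQ : Q ∈ minimalPrimes (Localization.AtPrime M)) :
    Q.comap (algebraMap A (Localization.AtPrime M)) ∈ minimalPrimes A ∧
      ∀ n : ℕ, ringKrullDim (A ⧸ Q.comap (algebraMap A (Localization.AtPrime M))) = n →
        ringKrullDim (Localization.AtPrime M ⧸ Q) = n := by
  obtain ⟨-, -, hff, -, -⟩ := local_props k A k' M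
  haveI := hff
  haveI : Q.IsPrime := hQ.1.1
  let R := Localization.AtPrime M
  refine ⟨⟨⟨Ideal.comap_isPrime _ Q, bot_le⟩, fun J hJ hJQ => ?_⟩, fun n hn => ?_⟩
  · haveI : J.IsPrime := hJ.1
    haveI : Q.LiesOver (Q.comap (algebraMap A R)) := ⟨rfl⟩
    obtain ⟨Q', hQle, hQp, hQ'⟩ := Ideal.exists_ideal_le_liesOver_of_le (p := J) (q := Q.comap (algebraMap A R)) (S := R) Q hJQ
    rw [le_antisymm (hQ.2 ⟨hQp, bot_le⟩ hQle) hQle, hQ'.over]
  · let Q' := Q.comap (algebraMap (CT k A k') R)
    have hQ' : Q' ∈ minimalPrimes (CT k A k') := by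
      refine ⟨⟨Ideal.comap_isPrime _ Q, bot_le⟩, fun J hJ hJQ => ?_⟩
      haveI : J.IsPrime := hJ.1
      have hdisj : Disjoint (M.primeCompl : Set (CT k A k')) J := Set.disjoint_left.2 fun x hx hxJ =>
        (IsLocalRing.le_maximalIdeal (hQ.1.1.ne_top) (hJQ hxJ)) (IsLocalization.map_units R (⟨x, hx⟩ : M.primeCompl))
      have h1 : Q ≤ J.map (algebraMap (CT k A k') R) :=
        hQ.2 ⟨IsLocalization.isPrime_of_isPrime_disjoint M.primeCompl R J inferInstance hdisj, bot_le⟩
          (Ideal.map_le_iff_le_comap.2 hJQ)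
      exact (Ideal.comap_mono h1).trans
        (IsLocalization.comap_map_of_isPrime_disjoint M.primeCompl R inferInstance hdisj).le
    haveI : (Q.comap (algebraMap A R)).IsPrime := Ideal.comap_isPrime _ _
    rw [← dim_component k A k' (Q.comap (algebraMap A R)) hn Q' hQ' (by
      rw [Ideal.comap_comap, ← IsScalarTower.algebraMap_eq])]
    refine (ringKrullDim_eq_of_ringEquiv (RingEquiv.ofBijective
      (Ideal.quotientMap Q (algebraMap (CT k A k') R) le_rfl) ⟨Ideal.quotientMap_injective, fun z => ?_⟩)).symm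
    obtain ⟨z, rfl⟩ := Ideal.Quotient.mk_surjective z
    obtain ⟨x, rfl⟩ := surjective_local k A k' M z
    exact ⟨Ideal.Quotient.mk _ x, Ideal.quotientMap_mk⟩

/-- (b) implies (a). -/
theorem regular_of_free (p : Ideal A) [p.IsPrime] (hp : p ≠ maximalIdeal A) {n : ℕ}
    (hgen : ∃ s : Fin n → LocalizedModule p.primeCompl (CO k A),
      Submodule.span (Localization.AtPrime p) (Set.range s) = ⊤)
    (q : Ideal A) (hq : q ∈ minimalPrimes A) (hqp : q ≤ p) (hn : ringKrullDim (A ⧸ q) = n)
    (p' : Ideal (CT k A k')) [p'.IsPrime] (hp' : p'.comap (algebraMap A (CT k A k')) = p) :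
    IsRegularLocalRing (Localization.AtPrime p') := by
  classical
  obtain ⟨M, hM, hpM⟩ := Ideal.exists_le_maximal p' (Ideal.IsPrime.ne_top inferInstance)
  obtain ⟨hN, hc, hff, hloc, hres⟩ := local_props k A k' M
  haveI := hN; haveI := hc; haveI := hff; haveI := hloc; haveI := hres
  obtain ⟨P, hP, hPp, ⟨e⟩⟩ := local_data k A k' p p' hp' M hpM
  set R := Localization.AtPrime M
  have hPm : P ≠ maximalIdeal R := fun h => hp (by
    rw [← hPp, h]
    exact ((local_hom_TFAE (algebraMap A R)).out 0 4 rfl rfl).mp inferInstance)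
  obtain ⟨u, hu⟩ := exists_units k A p hgen (fun _ => (1 : A))
    fun _ h => (inferInstance : p.IsPrime).ne_top ((Ideal.eq_top_iff_one p).2 h)
  have hspan := span_transfer (k := k) (k' := k') (A := A) (R := R) (dense_local k A k' M) p P hPp _ hu
  -- a component over `q`
  haveI : q.IsPrime := hq.1.1
  haveI : P.LiesOver p := ⟨hPp.symm⟩
  obtain ⟨Q, hQP, hQp, hQq⟩ := Ideal.exists_ideal_le_liesOver_of_le (p := q) (q := p) (S := R) P hqp
  obtain ⟨Q0, hQ0, hQ0Q⟩ := Ideal.exists_minimalPrimes_le (I := (⊥ : Ideal R)) (J := Q) bot_le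
  obtain ⟨hmin, hdim⟩ := minimalPrime_data k A k' M Q0 hQ0
  have h0 : Q0.comap (algebraMap A R) = q := by
    have hle : Q0.comap (algebraMap A R) ≤ q := (Ideal.comap_mono hQ0Q).trans hQq.over.ge
    exact le_antisymm hle (hq.2 hmin.1 hle)
  obtain ⟨hreg, -, -⟩ := regular_of_gen k' R P hPm ⟨_, hspan⟩ Q0 hQ0 (hQ0Q.trans hQP) (hdim n (by rw [h0, hn]))
  haveI := hreg
  exact IsRegularLocalRing.of_ringEquiv e

/-- Generators of `Ω̂` pass from `R` to `A`. -/
theorem finrank_fib_le (M : Ideal (CT k A k')) [M.IsMaximal] (p : Ideal A) [p.IsPrime]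
    (P : Ideal (Localization.AtPrime M)) [P.IsPrime] (hPp : P.comap (algebraMap A (Localization.AtPrime M)) = p)
    {d : ℕ} (s : Fin d → LocalizedModule P.primeCompl (CO k' (Localization.AtPrime M)))
    (hs : Submodule.span (Localization.AtPrime P) (Set.range s) = ⊤) :
    Module.finrank p.ResidueField (p.ResidueField ⊗[A] CO k A) ≤ d := by
  classical
  obtain ⟨hN, hc, hff, hloc, hres⟩ := local_props k A k' M
  haveI := hN; haveI := hc; haveI := hff; haveI := hloc; haveI := hres
  set R := Localization.AtPrime M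
  haveI := finite_CO k' R
  haveI := finite_CO k A
  haveI : SMulCommClass A k' R := ⟨fun c a r => by
    rw [Algebra.smul_def, Algebra.smul_def, Algebra.smul_def, Algebra.smul_def, mul_left_comm]⟩
  let W := R ⊗[A] CO k A
  haveI : Module.Finite R W := Module.Finite.base_change A R (CO k A)
  let d0 : Derivation k A W := (TensorProduct.mk A R (CO k A) 1).compDer (cD k A)
  obtain ⟨δ, hδ⟩ := exists_derivation_ext k A k' M d0
  obtain ⟨φ, hφ⟩ := exists_lift (k := k') (A := R) δ
  have hone : ∀ c : CO k A, (1 : R) ⊗ₜ[A] c ∈ LinearMap.range φ := by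
    intro c
    have hc' : c ∈ Submodule.span A (Set.range (cD k A)) := by rw [span_range_cD]; trivial
    induction hc' using Submodule.span_induction with
    | mem y hy =>
      obtain ⟨a, rfl⟩ := hy
      exact ⟨cD k' R (algebraMap A R a), by rw [hφ, hδ]; rfl⟩
    | zero => rw [TensorProduct.tmul_zero]; exact zero_mem _
    | add a b _ _ ha hb => rw [TensorProduct.tmul_add]; exact add_mem ha hb
    | smul a b _ hb =>
      rw [TensorProduct.tmul_smul, ← algebraMap_smul R a]
      exact Submodule.smul_mem _ _ hb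
  have hφs : LinearMap.range φ = ⊤ := by
    refine eq_top_iff.2 fun z _ => ?_
    induction z using TensorProduct.induction_on with
    | zero => exact zero_mem _
    | add a b ha hb => exact add_mem (ha trivial) (hb trivial)
    | tmul r c =>
      rw [show r ⊗ₜ[A] c = r • ((1 : R) ⊗ₜ[A] c) by rw [TensorProduct.smul_tmul', smul_eq_mul, mul_one]]
      exact Submodule.smul_mem _ _ (hone c)
  obtain ⟨s', hs'⟩ := exists_numerators P s hs
  rw [span_localized_eq_top_iff] at hs'
  let κP := P.ResidueField
  let Φ := φ.baseChange κP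
  have hΦ : Function.Surjective Φ := LinearMap.lTensor_surjective _ (LinearMap.range_eq_top.1 hφs)
  have hspan : Submodule.span κP (Set.range fun i => Φ (toFib P (s' i))) = ⊤ := by
    rw [show (Set.range fun i => Φ (toFib P (s' i))) = Φ '' Set.range (fun i => toFib P (s' i)) from Set.range_comp _ _,
      Submodule.span_image, hs', Submodule.map_top, LinearMap.range_eq_top.2 hΦ]
  have h1 : Module.finrank κP (κP ⊗[R] W) ≤ d := by
    have := finrank_range_le_card (R := κP) (fun i => Φ (toFib P (s' i)))
    rw [Set.finrank, hspan, finrank_top, Fintype.card_fin] at this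
    exact this
  letI : Algebra p.ResidueField κP := (Ideal.ResidueField.map p P (algebraMap A R) hPp.symm).toAlgebra
  haveI : IsScalarTower A p.ResidueField κP := IsScalarTower.of_algebraMap_eq fun a => by
    rw [RingHom.algebraMap_toAlgebra, IsScalarTower.algebraMap_apply A R κP, Ideal.ResidueField.map_algebraMap]
  let e1 : κP ⊗[R] W ≃ₗ[κP] κP ⊗[A] CO k A := AlgebraTensorModule.cancelBaseChange A R κP κP (CO k A)
  let e2 : κP ⊗[p.ResidueField] (p.ResidueField ⊗[A] CO k A) ≃ₗ[κP] κP ⊗[A] CO k A :=
    AlgebraTensorModule.cancelBaseChange A p.ResidueField κP κP (CO k A)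
  rw [← Module.finrank_baseChange (R := κP), e2.finrank_eq, ← e1.finrank_eq]
  exact h1

/-- (a') implies (b). -/
theorem free_of_regular [PerfectField k'] (p : Ideal A) [p.IsPrime] {n : ℕ}
    (hn₁ : ∀ q ∈ minimalPrimes A, q ≤ p → ringKrullDim (A ⧸ q) ≤ n)
    (hn₂ : ∃ q ∈ minimalPrimes A, q ≤ p ∧ ringKrullDim (A ⧸ q) = n)
    (p' : Ideal (CT k A k')) [p'.IsPrime] (hp' : p'.comap (algebraMap A (CT k A k')) = p)
    (hreg : IsRegularLocalRing (Localization.AtPrime p')) :
    Module.Free (Localization.AtPrime p) (LocalizedModule p.primeCompl (CO k A)) ∧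
      Module.finrank (Localization.AtPrime p) (LocalizedModule p.primeCompl (CO k A)) = n := by
  classical
  obtain ⟨M, hM, hpM⟩ := Ideal.exists_le_maximal p' (Ideal.IsPrime.ne_top inferInstance)
  obtain ⟨hN, hc, hff, hloc, hres⟩ := local_props k A k' M
  haveI := hN; haveI := hc; haveI := hff; haveI := hloc; haveI := hres
  obtain ⟨P, hP, hPp, ⟨e⟩⟩ := local_data k A k' p p' hp' M hpM
  set R := Localization.AtPrime M
  haveI := hreg
  haveI : IsRegularLocalRing (Localization.AtPrime P) := IsRegularLocalRing.of_ringEquiv e.symm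
  haveI hdomP := RegLocal.isDomain (R := Localization.AtPrime P)
  obtain ⟨Q, hQ, hQP⟩ := Ideal.exists_minimalPrimes_le (I := (⊥ : Ideal R)) (J := P) bot_le
  obtain ⟨hmin, hdim⟩ := minimalPrime_data k A k' M Q hQ
  have hle : Q.comap (algebraMap A R) ≤ p := (Ideal.comap_mono hQP).trans hPp.le
  haveI : (Q.comap (algebraMap A R)).IsPrime := hmin.1.1
  haveI : IsLocalRing (A ⧸ Q.comap (algebraMap A R)) := isLocalRing_quotient A _
  obtain ⟨d, hd⟩ := exists_dim' (A ⧸ Q.comap (algebraMap A R))
  have hdn : d ≤ n := by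
    have := hn₁ _ hmin hle
    rw [hd] at this
    exact_mod_cast this
  obtain ⟨hfree, hrank⟩ := free_of_regular_of_perfect k' R P Q hQ hQP (hdim d hd)
  haveI := hfree
  haveI := finite_CO k' R
  haveI : Module.Finite (Localization.AtPrime P) (LocalizedModule P.primeCompl (CO k' R)) :=
    Module.Finite.of_isLocalizedModule P.primeCompl (LocalizedModule.mkLinearMap P.primeCompl (CO k' R))
  let b := Module.finBasisOfFinrankEq (Localization.AtPrime P) (LocalizedModule P.primeCompl (CO k' R)) hrank
  have hμ : Module.finrank p.ResidueField (p.ResidueField ⊗[A] CO k A) ≤ n :=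
    (finrank_fib_le k A k' M p P hPp b b.span_eq).trans hdn
  -- `A_p` is a domain
  let f := Localization.localRingHom p P (algebraMap A R) hPp.symm
  have hf : Function.Injective f := by
    rw [injective_iff_map_eq_zero]
    intro z hz
    obtain ⟨a, t, rfl⟩ := IsLocalization.exists_mk'_eq p.primeCompl z
    rw [Localization.localRingHom_mk', IsLocalization.mk'_eq_zero_iff] at hz
    obtain ⟨⟨w, hw⟩, hwa⟩ := hz
    have hrel : ∑ _i : Fin 1, a • w = 0 := by
      simpa [Algebra.smul_def, mul_comm] using hwa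
    obtain ⟨l, c, y, hy, hcy⟩ := Module.Flat.isTrivialRelation_of_sum_smul_eq_zero (R := A) (M := R) (f := fun _ : Fin 1 => a) (x := fun _ => w) hrel
    obtain ⟨j, hj⟩ : ∃ j, c 0 j ∉ p := by
      by_contra hcon
      push_neg at hcon
      refine hw ?_
      show w ∈ P
      rw [show w = _ from hy 0]
      refine Ideal.sum_mem P fun j _ => ?_
      rw [Algebra.smul_def]
      exact Ideal.mul_mem_right _ _ (hPp.ge (hcon j))
    rw [IsLocalization.mk'_eq_zero_iff]
    refine ⟨⟨c 0 j, hj⟩, ?_⟩
    simpa [mul_comm] using hcy j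
  haveI : IsDomain (Localization.AtPrime p) := hf.isDomain f
  obtain ⟨q, hq, hqp, hn⟩ := hn₂
  haveI : q.IsPrime := hq.1.1
  obtain ⟨s, hs⟩ := exists_gen_of_finrank_le k A p hμ
  haveI := finite_CO k A
  obtain ⟨s', hs'⟩ := exists_numerators p s hs
  exact free_of_span A p q hq hqp s' hs' (dim_le_finrank_fib k A le_rfl hn)

end Groth.Agent.EGA418Lib
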