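import Groth.Agent.EGA418Lib.Fibre
import Groth.Agent.RegLocal.UFD

/-!
Upper bound for the fibre rank at a prime whose quotient has separable fraction field (characteristic 0).
-/

set_option autoImplicit false
set_option linter.style.haveILetI false
universe u
open TensorProduct IsLocalRing

namespace Groth.Agent.EGA418Lib

variable (k A : Type u) [Field k] [CommRing A] [IsLocalRing A] [Algebra k A]
  [IsNoetherianRing A] [IsAdicComplete (maximalIdeal A) A] [Module.Finite k (ResidueField A)]

theorem finrank_fib_le_of_charZero [CharZero k] (P : Ideal A) [P.IsPrime] {r n : ℕ} (a : Fin r → A)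
    (ha : ∀ i, a i ∈ P)
    (hgen : maximalIdeal (Localization.AtPrime P) =
      Ideal.span (Set.range fun i => algebraMap A (Localization.AtPrime P) (a i)))
    (hn : ringKrullDim (A ⧸ P) = n) :
    Module.finrank P.ResidueField (P.ResidueField ⊗[A] CO k A) ≤ r + n := by
  classical
  haveI := finite_CO k A
  haveI := isLocalRing_quotient A P
  haveI := finite_residue_quotient k A P
  haveI : IsAdicComplete (maximalIdeal (A ⧸ P)) (A ⧸ P) :=
    FiniteCompleteLib.isAdicComplete_maximalIdeal A (A ⧸ P)
  haveI : IsLocalHom (Ideal.Quotient.mk P) := IsLocalHom.of_surjective _ Ideal.Quotient.mk_surjective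
  -- parameters of `A/P`, lifted to `A`
  obtain ⟨xb, hxb, hrad⟩ := Groth.Agent.S17753.result (A ⧸ P) n hn (maximalIdeal (A ⧸ P))
    (maximalIdeal.isMaximal _).ne_top
  choose x hx using fun i => Ideal.Quotient.mk_surjective (I := P) (xb i)
  have hxm : ∀ i, x i ∈ maximalIdeal A := fun i => by
    have h := hxb i
    rw [← hx, mem_maximalIdeal, mem_nonunits_iff] at h
    rw [mem_maximalIdeal, mem_nonunits_iff]
    exact fun hu => h (hu.map _)
  obtain ⟨φ, hφ⟩ := ArtFunLib.ps_exists_lift (Λ := k) (maximalIdeal A) x hxm
  obtain ⟨φD, hφD, hfin, -⟩ := exists_psAlgHom k (A ⧸ P) xb hxb (hrad ▸ Ideal.le_radical)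
  let Pw := MvPowerSeries (Fin n) k
  let π : A →ₐ[k] A ⧸ P := Ideal.Quotient.mkₐ k P
  have hcompeq : φD = π.comp φ := ArtFunLib.ps_ext (maximalIdeal (A ⧸ P))
    (fun i => by rw [hφD]; exact hxb i) fun i => by
      rw [hφD, AlgHom.comp_apply, hφ]; exact (hx i).symm
  have hbot : ringKrullDim ((A ⧸ P) ⧸ (⊥ : Ideal (A ⧸ P))) = n := by
    rw [ringKrullDim_eq_of_ringEquiv (RingEquiv.quotientBot (A ⧸ P)), hn]
  have hinjD : Function.Injective φD :=
    Function.Injective.of_comp (injective_mk_comp k (A ⧸ P) φD hfin ⊥ hbot)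
  letI : Algebra Pw (A ⧸ P) := φD.toRingHom.toAlgebra
  haveI : Module.Finite Pw (A ⧸ P) := hfin
  haveI : Algebra.IsIntegral Pw (A ⧸ P) := Algebra.IsIntegral.of_finite Pw _
  haveI : IsDomain Pw := NoZeroDivisors.to_isDomain _
  haveI : FaithfulSMul Pw (A ⧸ P) := (faithfulSMul_iff_algebraMap_injective Pw (A ⧸ P)).2 hinjD
  haveI : CharZero Pw := charZero_of_injective_algebraMap (algebraMap k Pw).injective
  haveI : IsIntegrallyClosed Pw := by
    haveI := RegLocal.ufd Pw
    infer_instance
  -- the submodule spanned by `d a_i`, `d x_j`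
  let N : Submodule A (CO k A) :=
    Submodule.span A (Set.range (fun i => cD k A (a i)) ∪ Set.range fun j => cD k A (x j))
  let δ : Derivation k A (CO k A ⧸ N) := N.mkQ.compDer (cD k A)
  have hδφ : ∀ g : Pw, δ (φ g) = 0 := fun g =>
    derivation_comp_eq_zero k A φ (fun i => by rw [hφ]; exact hxm i) δ (fun i => by
      rw [hφ]
      show Submodule.Quotient.mk _ = 0
      rw [Submodule.Quotient.mk_eq_zero]
      exact Submodule.subset_span (Or.inr ⟨i, rfl⟩)) g
  let fib := toFib (M := CO k A ⧸ N) P
  have hδa : ∀ i, δ (a i) = 0 := fun i => by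
    show Submodule.Quotient.mk _ = 0
    rw [Submodule.Quotient.mk_eq_zero]
    exact Submodule.subset_span (Or.inl ⟨i, rfl⟩)
  have hδP : ∀ b ∈ P, fib (δ b) = 0 := by
    intro b hb
    have hb' : algebraMap A (Localization.AtPrime P) b ∈
        (Ideal.span (Set.range a)).map (algebraMap A (Localization.AtPrime P)) := by
      rw [Ideal.map_span, ← Set.range_comp]
      exact hgen ▸ (IsLocalization.AtPrime.to_map_mem_maximal_iff (Localization.AtPrime P) P b).2 hb
    obtain ⟨t, ht, htb⟩ := (IsLocalization.algebraMap_mem_map_algebraMap_iff P.primeCompl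
      (Localization.AtPrime P) _ _).1 hb'
    obtain ⟨c, hc⟩ := Ideal.mem_span_range_iff_exists_fun.1 htb
    have h1 : fib (δ (t * b)) = 0 := by
      rw [← hc, map_sum, map_sum]
      refine Finset.sum_eq_zero fun i _ => ?_
      rw [Derivation.leibniz, hδa, smul_zero, zero_add, map_smul, ← algebraMap_smul P.ResidueField,
        Ideal.algebraMap_residueField_eq_zero.2 (ha i), zero_smul]
    rw [Derivation.leibniz, map_add, map_smul, map_smul, ← algebraMap_smul P.ResidueField t,
      ← algebraMap_smul P.ResidueField b, Ideal.algebraMap_residueField_eq_zero.2 hb, zero_smul, add_zero] at h1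
    exact (smul_eq_zero.1 h1).resolve_left fun h => ht (Ideal.algebraMap_residueField_eq_zero.1 h)
  have hall : ∀ b : A, fib (δ b) = 0 := by
    intro b
    set g := minpoly Pw (Ideal.Quotient.mk P b)
    have hint : IsIntegral Pw (Ideal.Quotient.mk P b) := Algebra.IsIntegral.isIntegral _
    have hdne : g.derivative ≠ 0 := fun h => by
      have h1 := Polynomial.natDegree_eq_zero_of_derivative_eq_zero h
      exact (minpoly.natDegree_pos hint).ne' h1
    have hd : Polynomial.aeval (Ideal.Quotient.mk P b) g.derivative ≠ 0 := fun h => by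
      have h1 := minpoly.IsIntegrallyClosed.degree_le_of_ne_zero (R := Pw) hdne h
      have h2 := Polynomial.degree_derivative_lt (minpoly.ne_zero hint)
      exact absurd (h1.trans_lt h2) (lt_irrefl _)
    have hmk : ∀ G : Polynomial Pw, Ideal.Quotient.mk P (G.eval₂ φ.toRingHom b) =
        Polynomial.aeval (Ideal.Quotient.mk P b) G := fun G => by
      rw [Polynomial.hom_eval₂, Polynomial.aeval_def]
      congr 1
      refine RingHom.ext fun z => ?_
      show π (φ z) = φD z
      rw [hcompeq, AlgHom.comp_apply]
    have h1 : fib (δ (g.eval₂ φ.toRingHom b)) = 0 :=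
      hδP _ (by rw [← Ideal.Quotient.eq_zero_iff_mem, hmk, minpoly.aeval])
    have h2 : ∀ G : Polynomial Pw,
        δ (G.eval₂ φ.toRingHom b) = G.derivative.eval₂ φ.toRingHom b • δ b := fun G => by
      induction G using Polynomial.induction_on' with
      | add p q hp hq => rw [Polynomial.eval₂_add, map_add, hp, hq, Polynomial.derivative_add,
          Polynomial.eval₂_add, add_smul]
      | monomial j c =>
        rw [Polynomial.eval₂_monomial, Derivation.leibniz, Derivation.leibniz_pow,
          show δ (φ.toRingHom c) = 0 from hδφ c, smul_zero, add_zero, Polynomial.derivative_monomial,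
          Polynomial.eval₂_monomial, map_mul, map_natCast, ← Nat.cast_smul_eq_nsmul A, smul_smul, smul_smul]
    rw [h2, map_smul, ← algebraMap_smul P.ResidueField] at h1
    refine (smul_eq_zero.1 h1).resolve_left fun h => hd ?_
    rw [← hmk, Ideal.Quotient.eq_zero_iff_mem]
    exact Ideal.algebraMap_residueField_eq_zero.1 h
  have hfibN : Submodule.span P.ResidueField (Set.range fun i : Fin r ⊕ Fin n =>
      toFib P (Sum.elim (fun i => cD k A (a i)) (fun j => cD k A (x j)) i)) = ⊤ := by
    let W := Submodule.span P.ResidueField (Set.range fun i : Fin r ⊕ Fin n =>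
      toFib P (Sum.elim (fun i => cD k A (a i)) (fun j => cD k A (x j)) i))
    have hker : LinearMap.ker ((N.mkQ).baseChange P.ResidueField) ≤ W := by
      intro z hz
      have hex := lTensor_exact P.ResidueField (LinearMap.exact_subtype_mkQ N) N.mkQ_surjective
      obtain ⟨w, rfl⟩ := (hex z).1 hz
      induction w using TensorProduct.induction_on with
      | zero => rw [map_zero]; exact zero_mem _
      | add p q hp hq =>
        rw [map_add]
        exact add_mem (hp ((hex _).2 ⟨p, rfl⟩)) (hq ((hex _).2 ⟨q, rfl⟩))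
      | tmul c y =>
        rw [LinearMap.lTensor_tmul]
        have hy : toFib P (y : CO k A) ∈ W := by
          obtain ⟨y, hy⟩ := y
          induction hy using Submodule.span_induction with
          | mem y hy =>
            rcases hy with ⟨i, rfl⟩ | ⟨j, rfl⟩
            · exact Submodule.subset_span ⟨Sum.inl i, rfl⟩
            · exact Submodule.subset_span ⟨Sum.inr j, rfl⟩
          | zero => rw [map_zero]; exact zero_mem _
          | add p q _ _ hp hq =>
            rw [map_add]
            exact add_mem (hp ((hex _).2 ⟨c ⊗ₜ ⟨_, ‹p ∈ N›⟩, rfl⟩)) (hq ((hex _).2 ⟨c ⊗ₜ ⟨_, ‹q ∈ N›⟩, rfl⟩))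
          | smul s p hp0 hp =>
            rw [map_smul, ← algebraMap_smul P.ResidueField]
            exact W.smul_mem _ (hp ((hex _).2 ⟨c ⊗ₜ ⟨_, hp0⟩, rfl⟩))
        have := W.smul_mem c hy
        rwa [toFib_apply, TensorProduct.smul_tmul', smul_eq_mul, mul_one] at this
    refine eq_top_iff.2 fun z hz0 => hker ?_
    clear hz0
    induction z using TensorProduct.induction_on with
    | zero => exact map_zero _
    | add p q hp hq => rw [LinearMap.mem_ker] at hp hq ⊢; rw [map_add, hp, hq, add_zero]
    | tmul c y =>
      have hy : fib (N.mkQ y) = 0 := by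
        have hy' : y ∈ Submodule.span A (Set.range (cD k A)) := by rw [span_range_cD]; trivial
        induction hy' using Submodule.span_induction with
        | mem w hw => obtain ⟨b, rfl⟩ := hw; exact hall b
        | zero => rw [map_zero, map_zero]
        | add p q _ _ hp hq => rw [map_add, map_add, hp, hq, add_zero]
        | smul s p _ hp => rw [map_smul, map_smul, hp, smul_zero]
      rw [LinearMap.mem_ker, LinearMap.baseChange_tmul,
        show c ⊗ₜ[A] N.mkQ y = c • ((1 : P.ResidueField) ⊗ₜ[A] N.mkQ y) by
          rw [TensorProduct.smul_tmul', smul_eq_mul, mul_one], ← toFib_apply]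
      show c • fib (N.mkQ y) = 0
      rw [hy, smul_zero]
  have := finrank_range_le_card (R := P.ResidueField) fun i : Fin r ⊕ Fin n =>
    toFib P (Sum.elim (fun i => cD k A (a i)) (fun j => cD k A (x j)) i)
  rwa [Set.finrank, hfibN, finrank_top, Fintype.card_sum, Fintype.card_fin, Fintype.card_fin] at this

end Groth.Agent.EGA418Lib
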