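import Groth.Agent.FiniteCompleteLib.Basic
import Groth.Agent.WildQuotLib.PSReg
import Groth.Agent.RegLocal.Complete
import Groth.Agent.S1198
import Groth.Agent.RatliffLib.Equidim
import Groth.Agent.Hensel.Local

/-!
The completed tensor product `A ⊗̂_k k'` of a complete Noetherian local algebra with a field extension.
-/

set_option autoImplicit false
set_option linter.style.haveILetI false
universe u
open TensorProduct IsLocalRing

namespace Groth.Agent.EGA418Lib

/-- Completion as a module over the base for the extended ideal. -/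
noncomputable def completionRestrict (R : Type u) [CommRing R] (m : Ideal R) (B : Type u) [CommRing B] [Algebra R B] :
    AdicCompletion m B →ₗ[R] AdicCompletion (m.map (algebraMap R B)) B :=
  have h : ∀ n : ℕ, ((m ^ n • ⊤ : Submodule R B) : Submodule R B) ≤
      ((((m.map (algebraMap R B)) ^ n • ⊤ : Submodule B B)).restrictScalars R) := fun n => by
    refine Submodule.smul_le.2 fun r hr b _ => ?_
    rw [Submodule.restrictScalars_mem, ← Ideal.map_pow, ← algebraMap_smul B r]
    exact Submodule.smul_mem_smul (Ideal.mem_map_of_mem _ hr) trivial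
  { toFun := fun x => ⟨fun n => (Submodule.Quotient.restrictScalarsEquiv R
        ((m.map (algebraMap R B)) ^ n • ⊤ : Submodule B B)) (Submodule.mapQ _ _ LinearMap.id (h n) (x.val n)), by
      intro i j hij
      obtain ⟨b, hb⟩ := Submodule.Quotient.mk_surjective _ (x.val j)
      have hi : x.val i = Submodule.Quotient.mk b := by
        rw [← x.2 hij, ← hb]; rfl
      show AdicCompletion.transitionMap _ B hij _ = _
      dsimp only
      rw [hi, ← hb]
      rfl⟩
    map_add' := fun x y => AdicCompletion.ext fun n => by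
      show (Submodule.Quotient.restrictScalarsEquiv R _) (Submodule.mapQ _ _ LinearMap.id (h n) ((x + y).val n)) = _
      rw [AdicCompletion.val_add_apply, map_add, map_add]
      rfl
    map_smul' := fun r x => AdicCompletion.ext fun n => by
      show (Submodule.Quotient.restrictScalarsEquiv R _) (Submodule.mapQ _ _ LinearMap.id (h n) ((r • x).val n)) = _
      rw [AdicCompletion.val_smul_apply, map_smul, map_smul]
      rfl }

theorem completionRestrict_bijective (R : Type u) [CommRing R] (m : Ideal R) (B : Type u) [CommRing B]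
    [Algebra R B] : Function.Bijective (completionRestrict R m B) := by
  have hle : ∀ n : ℕ, (m ^ n • ⊤ : Submodule R B) =
      (((m.map (algebraMap R B)) ^ n • ⊤ : Submodule B B)).restrictScalars R := fun n => by
    rw [← Ideal.map_pow, ← Submodule.restrictScalars_top R B B]
    ext b
    rw [Submodule.restrictScalars_mem, Submodule.restrictScalars_top, Ideal.smul_top_eq_map, Submodule.restrictScalars_mem,
      smul_eq_mul, Ideal.mul_top]
  constructor
  · intro x y hxy
    refine AdicCompletion.ext fun n => ?_
    obtain ⟨a, ha⟩ := Submodule.Quotient.mk_surjective _ (x.val n)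
    obtain ⟨b, hb⟩ := Submodule.Quotient.mk_surjective _ (y.val n)
    have h1 := congrArg (fun z => z.val n) hxy
    simp only [completionRestrict, LinearMap.coe_mk, AddHom.coe_mk] at h1
    rw [← ha, ← hb] at h1 ⊢
    rw [Submodule.Quotient.eq, hle n, Submodule.restrictScalars_mem]
    exact (Submodule.Quotient.eq _).1 h1
  · intro y
    choose b hb using fun n => Submodule.Quotient.mk_surjective _ (y.val n)
    refine ⟨⟨fun n => Submodule.Quotient.mk (b n), fun {i j} hij => ?_⟩, AdicCompletion.ext fun n => ?_⟩
    · show Submodule.Quotient.mk (b j) = (Submodule.Quotient.mk (b i) : B ⧸ (m ^ i • ⊤ : Submodule R B))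
      rw [Submodule.Quotient.eq, hle i, Submodule.restrictScalars_mem]
      have h2 := y.2 hij
      rw [← hb j, ← hb i] at h2
      exact (Submodule.Quotient.eq _).1 h2
    · exact hb n

variable (k A k' : Type u) [Field k] [CommRing A] [IsNoetherianRing A] [IsLocalRing A] [Algebra k A]
  [IsAdicComplete (maximalIdeal A) A] [Module.Finite k (ResidueField A)] [Field k'] [Algebra k k']

omit [IsAdicComplete (maximalIdeal A) A] [IsNoetherianRing A] in
theorem finite_tensor_quotient :
    ((Ideal.Quotient.mk ((maximalIdeal A).map (algebraMap A (A ⊗[k] k')))).comp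
      (Algebra.TensorProduct.includeRight : k' →ₐ[k] A ⊗[k] k').toRingHom).Finite := by
  classical
  set I := (maximalIdeal A).map (algebraMap A (A ⊗[k] k'))
  let g := (Ideal.Quotient.mk I).comp (Algebra.TensorProduct.includeRight : k' →ₐ[k] A ⊗[k] k').toRingHom
  letI : Algebra k' ((A ⊗[k] k') ⧸ I) := g.toAlgebra
  let b := Module.finBasis k (ResidueField A)
  choose e he using fun i => residue_surjective (R := A) (b i)
  refine (⟨Submodule.fg_def.2 ⟨Set.range fun i => Ideal.Quotient.mk I (e i ⊗ₜ[k] (1 : k')), Set.finite_range _,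
    eq_top_iff.2 fun z hz => ?_⟩⟩ : Module.Finite k' ((A ⊗[k] k') ⧸ I))
  clear hz
  obtain ⟨z, rfl⟩ := Ideal.Quotient.mk_surjective z
  induction z using TensorProduct.induction_on with
  | zero => rw [map_zero]; exact zero_mem _
  | add a c ha hc => rw [map_add]; exact add_mem ha hc
  | tmul a c =>
    let w := ∑ i, b.repr (residue A a) i • e i
    have hw : a - w ∈ maximalIdeal A := by
      rw [← residue_eq_zero_iff, map_sub, sub_eq_zero, map_sum]
      conv_lhs => rw [← b.sum_repr (residue A a)]
      refine Finset.sum_congr rfl fun j _ => ?_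
      rw [← he j, Algebra.smul_def, Algebra.smul_def, map_mul]
      rfl
    have h0 : Ideal.Quotient.mk I (a ⊗ₜ[k] c) = Ideal.Quotient.mk I (w ⊗ₜ[k] c) := by
      rw [Ideal.Quotient.eq, ← TensorProduct.sub_tmul,
        show (a - w) ⊗ₜ[k] c = algebraMap A (A ⊗[k] k') (a - w) * ((1 : A) ⊗ₜ[k] c) by
          rw [Algebra.TensorProduct.algebraMap_apply, Algebra.TensorProduct.tmul_mul_tmul, mul_one, one_mul,
            Algebra.algebraMap_self, RingHom.id_apply]]
      exact Ideal.mul_mem_right _ _ (Ideal.mem_map_of_mem _ hw)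
    rw [h0, TensorProduct.sum_tmul, map_sum]
    refine Submodule.sum_mem _ fun i _ => ?_
    have : Ideal.Quotient.mk I ((b.repr (residue A a) i • e i) ⊗ₜ[k] c) =
        (b.repr (residue A a) i • c) • Ideal.Quotient.mk I (e i ⊗ₜ[k] (1 : k')) := by
      rw [Algebra.smul_def (b.repr (residue A a) i • c), RingHom.algebraMap_toAlgebra]
      show _ = Ideal.Quotient.mk I ((1 : A) ⊗ₜ[k] (b.repr (residue A a) i • c)) * _
      rw [← map_mul, Algebra.TensorProduct.tmul_mul_tmul, one_mul, mul_one, TensorProduct.smul_tmul]
    rw [this]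
    exact Submodule.smul_mem _ _ (Submodule.subset_span ⟨i, rfl⟩)

theorem completedTensor_main (I : Ideal (A ⊗[k] k'))
    (hI : I = (maximalIdeal A).map (algebraMap A (A ⊗[k] k'))) :
    IsNoetherianRing (AdicCompletion I (A ⊗[k] k')) ∧
      Finite (MaximalSpectrum (AdicCompletion I (A ⊗[k] k'))) ∧
      IsAdicComplete ((maximalIdeal A).map (algebraMap A (AdicCompletion I (A ⊗[k] k'))))
        (AdicCompletion I (A ⊗[k] k')) ∧
      ∀ M : MaximalSpectrum (AdicCompletion I (A ⊗[k] k')),
        IsAdicComplete (maximalIdeal (Localization.AtPrime M.asIdeal)) (Localization.AtPrime M.asIdeal) ∧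
          Module.FaithfullyFlat A (Localization.AtPrime M.asIdeal) ∧
          ringKrullDim (Localization.AtPrime M.asIdeal) = ringKrullDim A ∧
          (((Ideal.Quotient.mk M.asIdeal).comp (algebraMap (A ⊗[k] k') (AdicCompletion I (A ⊗[k] k')))).comp
              Algebra.TensorProduct.includeRight.toRingHom).Finite := by
  subst hI
  set B := A ⊗[k] k'
  set I := (maximalIdeal A).map (algebraMap A B)
  let A' := AdicCompletion I B
  let g : k' →+* B := (Algebra.TensorProduct.includeRight : k' →ₐ[k] A ⊗[k] k').toRingHom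
  have hIfg : I.FG := (maximalIdeal A).fg_of_isNoetherianRing.map _
  have hgfin : ((Ideal.Quotient.mk I).comp g).Finite := finite_tensor_quotient k A k'
  haveI : IsArtinianRing (B ⧸ I) := by
    letI : Algebra k' (B ⧸ I) := ((Ideal.Quotient.mk I).comp g).toAlgebra
    haveI : Module.Finite k' (B ⧸ I) := hgfin
    exact IsArtinianRing.of_finite k' (B ⧸ I)
  haveI : IsNoetherianRing A' := RegLocal.isNoetherianRing_adicCompletion I hIfg
  let J : Ideal A' := I.map (algebraMap B A')
  have hJ : (maximalIdeal A).map (algebraMap A A') = J := by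
    show _ = ((maximalIdeal A).map (algebraMap A B)).map (algebraMap B A')
    rw [Ideal.map_map, ← IsScalarTower.algebraMap_eq]
  haveI hJc : IsAdicComplete J A' := AdicCompletion.isAdicComplete_self I hIfg
  have hJjac : J ≤ Ideal.jacobson ⊥ := IsAdicComplete.le_jacobson_bot J
  let ev : A' →+* B ⧸ I := (AdicCompletion.evalOneₐ I).toRingHom
  have hev : Function.Surjective ev := AdicCompletion.evalOneₐ_surjective I
  have hevk : RingHom.ker ev = J := AdicCompletion.ker_evalOneₐ_eq_map I hIfg
  let eJ : (A' ⧸ J) ≃+* B ⧸ I :=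
    (Ideal.quotEquivOfEq hevk.symm).trans (RingHom.quotientKerEquivOfSurjective hev)
  haveI : IsArtinianRing (A' ⧸ J) := eJ.symm.surjective.isArtinianRing
  haveI : HenselianRing A' J := inferInstance
  have hsurjon := Hensel.surjOn_idempotent (A := A') (I := J) A'
  rw [Algebra.algebraMap_self, Ideal.map_id] at hsurjon
  obtain ⟨hfinmax, hsep⟩ := Hensel.exists_separating_of_surjOn J hJjac hsurjon
  haveI := hfinmax
  haveI hflat : Module.Flat A A' := by
    haveI : Module.Flat A B := inferInstance
    letI : Field (A ⧸ maximalIdeal A) := Ideal.Quotient.field _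
    haveI : Module.Projective (A ⧸ maximalIdeal A) (B ⧸ (maximalIdeal A • ⊤ : Submodule A B)) :=
      Module.Projective.of_free
    haveI := (Groth.Agent.S1198.result A (maximalIdeal A) B).1
    exact Module.Flat.of_linearEquiv
      (LinearEquiv.ofBijective (completionRestrict A (maximalIdeal A) B) (completionRestrict_bijective _ _ _)).symm
  refine ⟨inferInstance, hfinmax, hJ.symm ▸ hJc, fun M => ?_⟩
  have hJM : J ≤ M.asIdeal := hJjac.trans (sInf_le ⟨bot_le, M.isMaximal⟩)
  let L := Localization.AtPrime M.asIdeal
  have hsurj : Function.Surjective (algebraMap A' L) := fun z => by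
    classical
    obtain ⟨x, hx⟩ := (Hensel.bijective_pi_localization hsep).2
      (fun N => if h : N = M then h ▸ z else 0)
    refine ⟨x, ?_⟩
    have := congrFun hx M
    simpa using this
  haveI : Module.Finite A' L := Module.Finite.of_surjective (Algebra.linearMap A' L) hsurj
  have hmax : M.asIdeal.map (algebraMap A' L) = maximalIdeal L := Localization.AtPrime.map_eq_maximalIdeal
  haveI hLnoeth : IsNoetherianRing L := isNoetherianRing_of_surjective A' L _ hsurj
  have hJL : J.map (algebraMap A' L) ≤ maximalIdeal L := hmax ▸ Ideal.map_mono hJM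
  haveI hartL : IsArtinianRing (L ⧸ J.map (algebraMap A' L)) := by
    have hs : Function.Surjective (Ideal.quotientMap (J.map (algebraMap A' L)) (algebraMap A' L) Ideal.le_comap_map) := by
      intro z
      obtain ⟨z, rfl⟩ := Ideal.Quotient.mk_surjective z
      obtain ⟨x, rfl⟩ := hsurj z
      exact ⟨Ideal.Quotient.mk J x, Ideal.quotientMap_mk⟩
    exact hs.isArtinianRing
  obtain ⟨N, hN⟩ : ∃ N : ℕ, maximalIdeal L ^ N ≤ J.map (algebraMap A' L) := by
    haveI : Nontrivial (L ⧸ J.map (algebraMap A' L)) :=
      Ideal.Quotient.nontrivial_iff.2 fun h => (maximalIdeal.isMaximal L).ne_top (top_le_iff.1 (h ▸ hJL))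
    haveI : IsLocalRing (L ⧸ J.map (algebraMap A' L)) := IsLocalRing.of_surjective' _ Ideal.Quotient.mk_surjective
    obtain ⟨N, hN⟩ := IsArtinianRing.isNilpotent_jacobson_bot (R := L ⧸ J.map (algebraMap A' L))
    rw [IsLocalRing.jacobson_eq_maximalIdeal ⊥ bot_ne_top, ← IsLocalRing.map_maximalIdeal_of_surjective _ Ideal.Quotient.mk_surjective,
      ← Ideal.map_pow, Ideal.zero_eq_bot, Ideal.map_eq_bot_iff_le_ker, Ideal.mk_ker] at hN
    exact ⟨N, hN⟩
  haveI hLc : IsAdicComplete (maximalIdeal L) L := by
    haveI : IsAdicComplete J L := FiniteCompleteLib.isAdicComplete_of_finite J L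
    haveI : IsAdicComplete (J.map (algebraMap A' L)) L := IsAdicComplete.map_algebraMap_iff _ _ |>.2 inferInstance
    exact WildQuotLib.isAdicComplete_of_pow_le hJL (Nat.succ_pos N)
      ((Ideal.pow_le_pow_right (Nat.le_succ N)).trans hN)
  haveI : Module.Flat A L := by
    haveI : Module.Flat A' L := IsLocalization.flat L M.asIdeal.primeCompl
    exact Module.Flat.trans A A' L
  have hle : (maximalIdeal A).map (algebraMap A L) = J.map (algebraMap A' L) := by
    rw [← hJ, Ideal.map_map, ← IsScalarTower.algebraMap_eq]
  haveI : IsLocalHom (algebraMap A L) := ((local_hom_TFAE (algebraMap A L)).out 0 2).mpr (hle ▸ hJL)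
  refine ⟨hLc, Module.FaithfullyFlat.of_flat_of_isLocalHom, ?_, ?_⟩
  · rw [RatliffLib.dim_flat_local (A := A) (A' := L), hle]
    haveI : Nontrivial (L ⧸ J.map (algebraMap A' L)) :=
      Ideal.Quotient.nontrivial_iff.2 fun h => (maximalIdeal.isMaximal L).ne_top (top_le_iff.1 (h ▸ hJL))
    have h0 : ringKrullDim (L ⧸ J.map (algebraMap A' L)) = 0 :=
      le_antisymm (Ring.krullDimLE_iff.1 inferInstance) ringKrullDim_nonneg_of_nontrivial
    rw [h0, add_zero]
  · let f : B ⧸ I →+* A' ⧸ M.asIdeal := (Ideal.Quotient.factor hJM).comp eJ.symm.toRingHom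
    have hf : Function.Surjective f :=
      (Ideal.Quotient.factor_surjective hJM).comp eJ.symm.surjective
    have heq : ((Ideal.Quotient.mk M.asIdeal).comp (algebraMap B A')).comp g = f.comp ((Ideal.Quotient.mk I).comp g) := by
      ext c
      show Ideal.Quotient.mk M.asIdeal (algebraMap B A' (g c)) =
        Ideal.Quotient.factor hJM (eJ.symm (Ideal.Quotient.mk I (g c)))
      have : eJ (Ideal.Quotient.mk J (algebraMap B A' (g c))) = Ideal.Quotient.mk I (g c) :=
        (AdicCompletion.evalOneₐ I).commutes (g c)
      rw [← this, RingEquiv.symm_apply_apply]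
      rfl
    show (((Ideal.Quotient.mk M.asIdeal).comp (algebraMap B A')).comp g).Finite
    rw [heq]
    exact RingHom.Finite.comp (RingHom.Finite.of_surjective _ hf) hgfin

end Groth.Agent.EGA418Lib
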