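import Groth.Agent.EGA418Lib.Univ
import Groth.Agent.ArtFunLib.PS
import Groth.Agent.WildQuotLib.PSReg
import Groth.Agent.GrSegreLib.Dim
import Groth.Agent.S17753

/-!
Finite maps from power series rings to a complete Noetherian local algebra with finite residue field.
-/

set_option autoImplicit false
set_option linter.style.haveILetI false
universe u
open IsLocalRing

namespace Groth.Agent.EGA418Lib

variable (k A : Type u) [Field k] [CommRing A] [IsLocalRing A] [Algebra k A]
  [IsNoetherianRing A] [IsAdicComplete (maximalIdeal A) A] [Module.Finite k (ResidueField A)]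

theorem sub_C_mem_span_X {m : ℕ} (f : MvPowerSeries (Fin m) k) :
    f - MvPowerSeries.C (MvPowerSeries.constantCoeff f) ∈
      Ideal.span (Set.range (MvPowerSeries.X : Fin m → MvPowerSeries (Fin m) k)) := by
  rw [← WildQuotLib.ker_constantCoeff_eq, RingHom.mem_ker, map_sub, MvPowerSeries.constantCoeff_C, sub_self]

omit [IsAdicComplete (maximalIdeal A) A] [Module.Finite k (ResidueField A)] [IsNoetherianRing A] in
theorem map_maximalIdeal_ps {m : ℕ} (φ : MvPowerSeries (Fin m) k →ₐ[k] A) :
    (maximalIdeal (MvPowerSeries (Fin m) k)).map φ.toRingHom =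
      Ideal.span (Set.range fun i => φ (MvPowerSeries.X i)) := by
  rw [WildQuotLib.maximalIdeal_eq, Ideal.map_span, ← Set.range_comp]
  rfl

/-- A finite local map `k[[T_1, …, T_m]] → A` from `m` elements generating an `m_A`-primary ideal. -/
theorem exists_psAlgHom {m : ℕ} (x : Fin m → A) (hx : ∀ i, x i ∈ maximalIdeal A)
    (hrad : maximalIdeal A ≤ (Ideal.span (Set.range x)).radical) :
    ∃ φ : MvPowerSeries (Fin m) k →ₐ[k] A, (∀ i, φ (MvPowerSeries.X i) = x i) ∧
      φ.toRingHom.Finite ∧ IsLocalHom φ.toRingHom := by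
  classical
  obtain ⟨g, hg⟩ := ArtFunLib.ps_exists_lift (Λ := k) (maximalIdeal A) x hx
  let P := MvPowerSeries (Fin m) k
  have hmapeq : (maximalIdeal P).map g.toRingHom = Ideal.span (Set.range x) := by
    rw [map_maximalIdeal_ps]; simp only [hg]
  have hle : (maximalIdeal P).map g.toRingHom ≤ maximalIdeal A := by
    rw [hmapeq, Ideal.span_le]; rintro _ ⟨i, rfl⟩; exact hx i
  haveI hloc : IsLocalHom g.toRingHom := ((IsLocalRing.local_hom_TFAE g.toRingHom).out 0 2).mpr hle
  refine ⟨g, hg, ?_, hloc⟩
  letI : Algebra P A := g.toRingHom.toAlgebra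
  obtain ⟨N, hN⟩ := Ideal.exists_radical_pow_le_of_fg (Ideal.span (Set.range x))
    (Ideal.fg_of_isNoetherianRing _)
  have hmN : maximalIdeal A ^ N ≤ (maximalIdeal P).map (algebraMap P A) := by
    rw [RingHom.algebraMap_toAlgebra, hmapeq]
    exact (Ideal.pow_right_mono hrad N).trans hN
  have hgC : ∀ c : k, algebraMap P A (algebraMap k P c) = algebraMap k A c := fun c => g.commutes c
  haveI : IsScalarTower k P A := IsScalarTower.of_algebraMap_eq fun c => (hgC c).symm
  let b := Module.finBasis k (ResidueField A)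
  choose e he using fun i => residue_surjective (R := A) (b i)
  have hspan : ∀ i, ∃ F : Submodule P A, F.FG ∧ (⊤ : Submodule P A) ≤ F ⊔ (maximalIdeal A ^ i).restrictScalars P := by
    intro i
    induction i with
    | zero => exact ⟨⊥, Submodule.fg_bot, by simp⟩
    | succ i ih =>
      obtain ⟨F, hF, hFle⟩ := ih
      obtain ⟨s, hs⟩ := (maximalIdeal A ^ i).fg_of_isNoetherianRing
      refine ⟨F ⊔ Submodule.span P (Set.range fun q : Fin (Module.finrank k (ResidueField A)) × s => e q.1 * (q.2 : A)),
        hF.sup (Submodule.fg_span (Set.finite_range _)), hFle.trans ?_⟩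
      refine sup_le (le_sup_left.trans le_sup_left) fun z hz => ?_
      rw [Submodule.restrictScalars_mem, ← hs] at hz
      obtain ⟨c, -, rfl⟩ := Submodule.mem_span_finset.1 hz
      refine Submodule.sum_mem _ fun y hy => ?_
      let w := ∑ j, b.repr (residue A (c y)) j • e j
      have hw : c y - w ∈ maximalIdeal A := by
        rw [← residue_eq_zero_iff, map_sub, sub_eq_zero, map_sum]
        conv_lhs => rw [← b.sum_repr (residue A (c y))]
        refine Finset.sum_congr rfl fun j _ => ?_
        rw [← he j, Algebra.smul_def, Algebra.smul_def, map_mul]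
        rfl
      rw [smul_eq_mul, show c y * y = w * y + (c y - w) * y by ring]
      refine add_mem (Submodule.mem_sup_left (Submodule.mem_sup_right ?_)) (Submodule.mem_sup_right ?_)
      · rw [Finset.sum_mul]
        refine Submodule.sum_mem _ fun j _ => ?_
        rw [← algebraMap_smul P, smul_mul_assoc]
        exact Submodule.smul_mem _ _ (Submodule.subset_span ⟨(j, ⟨y, hy⟩), rfl⟩)
      · rw [Submodule.restrictScalars_mem, pow_succ']
        exact Ideal.mul_mem_mul hw (hs ▸ Submodule.subset_span hy)
  haveI : IsHausdorff (maximalIdeal P) A := ⟨fun z hz => by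
    refine IsHausdorff.haus (inferInstance : IsHausdorff (maximalIdeal A) A) z fun k' => SModEq.zero.2 ?_
    have h1 := SModEq.zero.1 (hz k')
    rw [Ideal.smul_top_eq_map, Submodule.restrictScalars_mem, Ideal.map_pow] at h1
    rw [smul_eq_mul, Ideal.mul_top]
    exact Ideal.pow_right_mono hle k' h1⟩
  obtain ⟨F, hF, hFle⟩ := hspan N
  haveI : Module.Finite P F := Module.Finite.iff_fg.2 hF
  have hfin : Module.Finite P A := by
    refine AdicLemmas.module_finite_of_quotient_finite (maximalIdeal P) A ?_
    refine Module.Finite.of_surjective ((maximalIdeal P • ⊤ : Submodule P A).mkQ.comp F.subtype) fun c => ?_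
    obtain ⟨z, rfl⟩ := Submodule.mkQ_surjective _ c
    obtain ⟨f, hf, w, hw, rfl⟩ := Submodule.mem_sup.1 (hFle (show z ∈ ⊤ from trivial))
    refine ⟨⟨f, hf⟩, (Submodule.Quotient.eq _).2 ?_⟩
    rw [Ideal.smul_top_eq_map, Submodule.restrictScalars_mem]
    show f - (f + w) ∈ _
    rw [sub_add_cancel_left]
    exact neg_mem (hmN hw)
  exact hfin

omit [Module.Finite k (ResidueField A)] in
/-- A derivation into a finite module killing the parameters kills `k[[T]]`. -/
theorem derivation_comp_eq_zero {m : ℕ} (φ : MvPowerSeries (Fin m) k →ₐ[k] A)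
    (hφ : ∀ i, φ (MvPowerSeries.X i) ∈ maximalIdeal A) {N : Type u} [AddCommGroup N] [Module A N]
    [Module.Finite A N] [Module k N] (δ : Derivation k A N)
    (h : ∀ i, δ (φ (MvPowerSeries.X i)) = 0) (f : MvPowerSeries (Fin m) k) : δ (φ f) = 0 := by
  have key : ∀ (j : ℕ) (f : MvPowerSeries (Fin m) k),
      δ (φ f) ∈ (maximalIdeal A ^ j • ⊤ : Submodule A N) := by
    intro j
    induction j with
    | zero => intro f; rw [pow_zero, Ideal.one_eq_top, Submodule.top_smul]; trivial
    | succ j ih =>
      intro f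
      obtain ⟨g, hg⟩ := Ideal.mem_span_range_iff_exists_fun.1 (sub_C_mem_span_X k f)
      have hf : f = ∑ i, g i * MvPowerSeries.X i + algebraMap k _ (MvPowerSeries.constantCoeff f) := by
        rw [hg, MvPowerSeries.algebraMap_apply, Algebra.algebraMap_self, RingHom.id_apply, sub_add_cancel]
      rw [hf, map_add, AlgHom.commutes, map_add, Derivation.map_algebraMap, add_zero, map_sum, map_sum]
      refine Submodule.sum_mem _ fun i _ => ?_
      rw [map_mul, Derivation.leibniz, h, smul_zero, zero_add, pow_succ', Submodule.mul_smul]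
      exact Submodule.smul_mem_smul (hφ i) (ih (g i))
  have hH : IsHausdorff (maximalIdeal A) N :=
    (FiniteCompleteLib.isAdicComplete_of_finite (maximalIdeal A) N).toIsHausdorff
  exact hH.haus _ fun j => SModEq.zero.2 (key j f)

/-- The map to `A/q` is injective when `dim A/q` equals the number of parameters. -/
theorem injective_mk_comp {m : ℕ} (φ : MvPowerSeries (Fin m) k →ₐ[k] A) (hfin : φ.toRingHom.Finite)
    (q : Ideal A) (hq : ringKrullDim (A ⧸ q) = m) :
    Function.Injective ((Ideal.Quotient.mk q).comp φ.toRingHom) := by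
  set ψ := (Ideal.Quotient.mk q).comp φ.toRingHom
  have hψ : ψ.Finite := RingHom.Finite.comp (RingHom.Finite.of_surjective _ Ideal.Quotient.mk_surjective) hfin
  rw [RingHom.injective_iff_ker_eq_bot, Submodule.eq_bot_iff]
  intro r hr
  by_contra hr0
  haveI : IsDomain (MvPowerSeries (Fin m) k) := NoZeroDivisors.to_isDomain _
  have hP : ringKrullDim (MvPowerSeries (Fin m) k ⧸ RingHom.ker ψ) = m := by
    rw [GrSegreLib.ringKrullDim_eq_of_integral_injective (RingHom.kerLift ψ)
      (RingHom.kerLift_injective ψ) (RingHom.IsIntegral.tower_top (Ideal.Quotient.mk _) _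
        (RingHom.IsIntegral.of_finite hψ)), hq]
  have h1 : ringKrullDim (MvPowerSeries (Fin m) k ⧸ RingHom.ker ψ) ≤
      ringKrullDim (MvPowerSeries (Fin m) k ⧸ Ideal.span {r}) :=
    ringKrullDim_le_of_surjective (Ideal.Quotient.factor ((Ideal.span_singleton_le_iff_mem _).2 hr))
      (Ideal.Quotient.factor_surjective _)
  have h2 := ringKrullDim_quotient_succ_le_of_nonZeroDivisor (mem_nonZeroDivisors_of_ne_zero hr0)
  rw [hP] at h1
  have h4 : ((m + 1 : ℕ) : WithBot ℕ∞) ≤ (m : WithBot ℕ∞) := by
    rw [← WildQuotLib.ringKrullDim_eq (k := k) m] at *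
    push_cast
    rw [WildQuotLib.ringKrullDim_eq] at *
    exact (add_le_add_left h1 1).trans h2
  have : m + 1 ≤ m := by exact_mod_cast h4
  omega

omit [IsAdicComplete (maximalIdeal A) A] [Module.Finite k (ResidueField A)] [Algebra k A] in
/-- Parameters avoiding a prime. -/
theorem exists_params (p : Ideal A) [p.IsPrime] (hp : p ≠ maximalIdeal A) {n m : ℕ}
    (hn : ringKrullDim A = n) (hnm : n ≤ m) :
    ∃ x : Fin m → A, (∀ i, x i ∈ maximalIdeal A ∧ x i ∉ p) ∧
      maximalIdeal A ≤ (Ideal.span (Set.range x)).radical := by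
  classical
  obtain ⟨f, hf, hrad⟩ := Groth.Agent.S17753.result A n hn (maximalIdeal A) (maximalIdeal.isMaximal A).ne_top
  have hle : maximalIdeal A ≤ (Ideal.span (Set.range f)).radical := by
    rw [← hrad]; exact Ideal.le_radical
  obtain ⟨i₀, hi₀⟩ : ∃ i, f i ∉ p := by
    by_contra hcon
    push_neg at hcon
    have : maximalIdeal A ≤ p := hle.trans ((Ideal.IsPrime.radical_le_iff inferInstance).2
      (Ideal.span_le.2 (by rintro _ ⟨i, rfl⟩; exact hcon i)))
    exact hp (le_antisymm (IsLocalRing.le_maximalIdeal (Ideal.IsPrime.ne_top inferInstance)) this)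
  let g : Fin n → A := fun i => if f i ∈ p then f i + f i₀ else f i
  let x : Fin m → A := fun j => if h : (j : ℕ) < n then g ⟨j, h⟩ else f i₀
  have hg : ∀ i, g i ∈ maximalIdeal A ∧ g i ∉ p := fun i => by
    by_cases h : f i ∈ p
    · simp only [g, if_pos h]
      exact ⟨add_mem (hf i) (hf i₀), fun h' => hi₀ (by simpa using sub_mem h' h)⟩
    · simp only [g, if_neg h]; exact ⟨hf i, h⟩
  refine ⟨x, fun j => ?_, hle.trans (Ideal.radical_mono (Ideal.span_le.2 ?_))⟩
  · by_cases h : (j : ℕ) < n
    · simp only [x, dif_pos h]; exact hg _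
    · simp only [x, dif_neg h]; exact ⟨hf i₀, hi₀⟩
  · have hxg : ∀ i, g i ∈ Ideal.span (Set.range x) := fun i => Ideal.subset_span
      ⟨⟨i, lt_of_lt_of_le i.2 hnm⟩, by simp [x]⟩
    have h0 : f i₀ ∈ Ideal.span (Set.range x) := by
      have := hxg i₀
      simpa only [g, if_neg hi₀] using this
    rintro _ ⟨i, rfl⟩
    show f i ∈ Ideal.span (Set.range x)
    by_cases h : f i ∈ p
    · have := sub_mem (hxg i) h0
      simpa only [g, if_pos h, add_sub_cancel_right] using this
    · have := hxg i
      simpa only [g, if_neg h] using this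

end Groth.Agent.EGA418Lib
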