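import Mathlib

/-!
Derivations of power series rings over a field and of their fraction fields.
-/

set_option autoImplicit false
set_option linter.style.haveILetI false
universe u
open TensorProduct KaehlerDifferential

namespace Groth.Agent.EGA418Lib

/-- Extending a derivation with values in a module over a localization. -/
theorem exists_derivation_extend {B : Type u} [CommRing B] (S : Type u) [CommRing S]
    [Algebra B S] (M : Submonoid B) [IsLocalization M S] (d₀ : B → B) (hadd : ∀ a b, d₀ (a + b) = d₀ a + d₀ b)
    (hmul : ∀ a b, d₀ (a * b) = a * d₀ b + b * d₀ a) :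
    ∃ D' : Derivation ℤ S S, ∀ x, D' (algebraMap B S x) = algebraMap B S (d₀ x) := by
  let D₀ : Derivation ℤ B B := Derivation.mk' (AddMonoidHom.mk' d₀ hadd).toIntLinearMap fun a b => hmul a b
  haveI : Algebra.FormallyEtale B S := .of_isLocalization M
  refine ⟨((KaehlerDifferential.isBaseChange_of_formallyEtale ℤ B S).lift
    ((Algebra.linearMap B S) ∘ₗ D₀.liftKaehlerDifferential)).compDer (KaehlerDifferential.D ℤ S), fun x => ?_⟩
  change (KaehlerDifferential.isBaseChange_of_formallyEtale ℤ B S).lift _ (KaehlerDifferential.D ℤ S (algebraMap B S x)) = _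
  rw [← KaehlerDifferential.map_D ℤ ℤ B S x]
  refine (IsBaseChange.lift_eq _ _ _).trans ?_
  rw [LinearMap.comp_apply, Derivation.liftKaehlerDifferential_comp_D]
  rfl

variable (k : Type u) [Field k] (n : ℕ)

/-- A derivation of the coefficients acts on power series. -/
theorem exists_coeffDer (d₀ : Derivation ℤ k k) :
    ∃ E : Derivation ℤ (MvPowerSeries (Fin n) k) (MvPowerSeries (Fin n) k),
      (∀ c, E (MvPowerSeries.C c) = MvPowerSeries.C (d₀ c)) ∧ ∀ i, E (MvPowerSeries.X i) = 0 := by
  classical
  let F : MvPowerSeries (Fin n) k →+ MvPowerSeries (Fin n) k :=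
    { toFun := fun f m => d₀ (MvPowerSeries.coeff m f)
      map_zero' := funext fun m => by rw [map_zero, map_zero]; rfl
      map_add' := fun f g => funext fun m => by rw [map_add, map_add]; rfl }
  have hF : ∀ f m, MvPowerSeries.coeff m (F f) = d₀ (MvPowerSeries.coeff m f) := fun f m => rfl
  refine ⟨Derivation.mk' F.toIntLinearMap fun a b => ?_, fun c => ?_, fun i => ?_⟩
  · ext m
    show d₀ (MvPowerSeries.coeff m (a * b)) = MvPowerSeries.coeff m (a * F b + b * F a)
    rw [map_add, mul_comm b (F a), MvPowerSeries.coeff_mul, MvPowerSeries.coeff_mul, MvPowerSeries.coeff_mul, map_sum,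
      ← Finset.sum_add_distrib]
    refine Finset.sum_congr rfl fun x _ => ?_
    rw [hF, hF, Derivation.leibniz, smul_eq_mul, smul_eq_mul]
    ring
  · ext m
    show d₀ (MvPowerSeries.coeff m (MvPowerSeries.C c)) = _
    rw [MvPowerSeries.coeff_C, MvPowerSeries.coeff_C]
    split <;> simp
  · ext m
    show d₀ (MvPowerSeries.coeff m (MvPowerSeries.X i)) = _
    rw [MvPowerSeries.coeff_X, map_zero]
    split <;> simp

variable (K : Type u) [Field K] [Algebra (MvPowerSeries (Fin n) k) K] [IsFractionRing (MvPowerSeries (Fin n) k) K]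
  [Algebra k K] [IsScalarTower k (MvPowerSeries (Fin n) k) K]

/-- The variables in `K`. -/
noncomputable def psT : Fin n → K := fun j => algebraMap (MvPowerSeries (Fin n) k) K (MvPowerSeries.X j)

theorem exists_theta :
    ∃ θ : Fin n → Derivation ℤ K K,
      (∀ i j, θ i (psT k n K j) = if i = j then 1 else 0) ∧
      (∀ i (c : k), θ i (algebraMap k K c) = 0) ∧
      ∀ i f, θ i (algebraMap (MvPowerSeries (Fin n) k) K f) =
        algebraMap _ K (MvPowerSeries.pderiv k i f) := by
  classical
  choose θ hθ using fun i => exists_derivation_extend (B := MvPowerSeries (Fin n) k) K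
    (nonZeroDivisors (MvPowerSeries (Fin n) k)) (MvPowerSeries.pderiv k i) (map_add _)
    fun a b => by rw [Derivation.leibniz, smul_eq_mul, smul_eq_mul]
  refine ⟨θ, fun i j => ?_, fun i c => ?_, fun i f => hθ i f⟩
  · rw [psT, hθ]
    show algebraMap _ K (MvPowerSeries.pderiv k i (MvPowerSeries.X j)) = _
    by_cases h : i = j
    · subst h; rw [MvPowerSeries.pderiv_X_self, map_one, if_pos rfl]
    · rw [MvPowerSeries.pderiv_X_of_ne (Ne.symm h), map_zero, if_neg h]
  · rw [IsScalarTower.algebraMap_apply k (MvPowerSeries (Fin n) k) K, hθ]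
    show algebraMap _ K (MvPowerSeries.pderiv k i (algebraMap k _ c)) = _
    rw [Derivation.map_algebraMap, map_zero]

include n in
/-- `K ⊗_k Ω_k → Ω_K` is injective for the fraction field of a power series ring. -/
theorem mapBaseChange_injective : Function.Injective (mapBaseChange ℤ k K) := by
  classical
  obtain ⟨s, hs, hspan, hli⟩ := exists_linearIndependent k (Set.range (D ℤ k))
  rw [span_range_derivation] at hspan
  let b : Module.Basis s k Ω[k⁄ℤ] := Module.Basis.mk hli (by rw [Subtype.range_coe, hspan])
  let B : Module.Basis s K (K ⊗[k] Ω[k⁄ℤ]) := b.baseChange K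
  choose E hEC _hEX using fun μ : s => exists_coeffDer k n ((b.coord μ).compDer (D ℤ k))
  choose E' hE' using fun μ : s => exists_derivation_extend (B := MvPowerSeries (Fin n) k) K
    (nonZeroDivisors (MvPowerSeries (Fin n) k)) (E μ) (map_add _)
    fun a b => by rw [Derivation.leibniz, smul_eq_mul, smul_eq_mul]
  choose c hc using fun μ : s => hs μ.2
  rw [← LinearMap.ker_eq_bot, LinearMap.ker_eq_bot']
  intro z hz
  refine B.ext_elem fun μ => ?_
  rw [map_zero, Finsupp.zero_apply]
  have key : (E' μ).liftKaehlerDifferential ∘ₗ mapBaseChange ℤ k K = B.coord μ := by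
    refine B.ext fun ν => ?_
    rw [LinearMap.comp_apply, Module.Basis.coord_apply, B.repr_self]
    show (E' μ).liftKaehlerDifferential (mapBaseChange ℤ k K (b.baseChange K ν)) = _
    rw [Module.Basis.baseChange_apply, show b ν = D ℤ k (c ν) from
      (Module.Basis.mk_apply _ _ ν).trans (hc ν).symm, mapBaseChange_tmul, one_smul, map_D,
      Derivation.liftKaehlerDifferential_comp_D, IsScalarTower.algebraMap_apply k (MvPowerSeries (Fin n) k) K,
      hE', MvPowerSeries.algebraMap_apply, Algebra.algebraMap_self, RingHom.id_apply, hEC]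
    show algebraMap _ K (MvPowerSeries.C (b.coord μ (D ℤ k (c ν)))) = _
    rw [show D ℤ k (c ν) = b ν from (hc ν).trans (Module.Basis.mk_apply _ _ ν).symm,
      Module.Basis.coord_apply, b.repr_self, Finsupp.single_apply, Finsupp.single_apply]
    split <;> simp
  have := LinearMap.congr_fun key z
  rw [LinearMap.comp_apply, hz, map_zero] at this
  exact this.symm

end Groth.Agent.EGA418Lib
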