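import Groth.Agent.EGA418Lib.FieldRank
import Groth.Agent.EGA418Lib.PSBase
import Groth.Agent.EGA418Lib.Normalize

/-!
Lower bound for the fibre rank of the completed module of differentials.
-/

set_option autoImplicit false
set_option linter.style.haveILetI false
universe u
open TensorProduct IsLocalRing

namespace Groth.Agent.EGA418Lib

/-- The setting `k[[T]] → L ⊇ Frac k[[T]]`. -/
theorem exists_derivations_ps {k : Type u} [Field k] {d : ℕ} (L : Type u) [Field L] [Algebra k L]
    [Algebra (MvPowerSeries (Fin d) k) L] [IsScalarTower k (MvPowerSeries (Fin d) k) L]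
    (hinj : Function.Injective (algebraMap (MvPowerSeries (Fin d) k) L))
    {ι : Type*} [Finite ι] (e : ι → L)
    (hspan : ∀ y : L, ∃ (a b : L), b ≠ 0 ∧ a ∈ Submodule.span (MvPowerSeries (Fin d) k) (Set.range e) ∧
      b ∈ (algebraMap (MvPowerSeries (Fin d) k) L).range ∧ y = a / b) :
    ∃ δ : Fin d → Derivation k L L, LinearIndependent L (fun i => ((δ i : L → L))) ∧
      ∀ i f, δ i (algebraMap (MvPowerSeries (Fin d) k) L f) =
        ∑ j, algebraMap (MvPowerSeries (Fin d) k) L (MvPowerSeries.pderiv k j f) *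
          δ i (algebraMap (MvPowerSeries (Fin d) k) L (MvPowerSeries.X j)) := by
  classical
  let P := MvPowerSeries (Fin d) k
  haveI : IsDomain P := NoZeroDivisors.to_isDomain _
  haveI : FaithfulSMul P L := (faithfulSMul_iff_algebraMap_injective P L).2 hinj
  let K := FractionRing P
  letI : Algebra K L := FractionRing.liftAlgebra P L
  haveI : IsScalarTower P K L := FractionRing.isScalarTower_liftAlgebra P L
  haveI : IsScalarTower k K L := IsScalarTower.of_algebraMap_eq fun c => by
    rw [IsScalarTower.algebraMap_apply k P K, ← IsScalarTower.algebraMap_apply P K L,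
      ← IsScalarTower.algebraMap_apply k P L]
  haveI : Module.Finite K L := by
    refine ⟨Submodule.fg_def.2 ⟨Set.range e, Set.finite_range e, eq_top_iff.2 fun y _ => ?_⟩⟩
    obtain ⟨a, b, hb, ha, ⟨g, rfl⟩, rfl⟩ := hspan y
    have ha' : a ∈ Submodule.span K (Set.range e) := Submodule.span_le_restrictScalars P K _ ha
    have : a / algebraMap P L g = (algebraMap P K g)⁻¹ • a := by
      rw [Algebra.smul_def, map_inv₀, ← IsScalarTower.algebraMap_apply P K L, div_eq_inv_mul]
    rw [this]
    exact Submodule.smul_mem _ _ ha'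
  obtain ⟨θ, hθt, hθk, hθf⟩ := exists_theta k d K
  obtain ⟨δ, hδ, hrel⟩ := exists_derivations (L := L) θ (psT k d K) hθt hθk
  refine ⟨δ, hδ, fun i f => ?_⟩
  rw [IsScalarTower.algebraMap_apply P K L, hrel]
  refine Finset.sum_congr rfl fun j _ => ?_
  rw [hθf, Algebra.smul_def, ← IsScalarTower.algebraMap_apply P K L]
  rw [show algebraMap K L (psT k d K j) = algebraMap P L (MvPowerSeries.X j) from
    (IsScalarTower.algebraMap_apply P K L _).symm]

variable (k A : Type u) [Field k] [CommRing A] [IsLocalRing A] [Algebra k A]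
  [IsNoetherianRing A] [IsAdicComplete (maximalIdeal A) A] [Module.Finite k (ResidueField A)]

omit [IsAdicComplete (maximalIdeal A) A] [Module.Finite k (ResidueField A)] [IsNoetherianRing A] in
theorem isLocalRing_quotient (q : Ideal A) [q.IsPrime] : IsLocalRing (A ⧸ q) :=
  IsLocalRing.of_surjective' _ Ideal.Quotient.mk_surjective

omit [IsAdicComplete (maximalIdeal A) A] [IsNoetherianRing A] in
theorem finite_residue_quotient (q : Ideal A) [q.IsPrime] [IsLocalRing (A ⧸ q)] :
    Module.Finite k (ResidueField (A ⧸ q)) := by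
  haveI : IsLocalHom (Ideal.Quotient.mk q) := IsLocalHom.of_surjective _ Ideal.Quotient.mk_surjective
  let f : ResidueField A →+* ResidueField (A ⧸ q) := ResidueField.map (Ideal.Quotient.mk q)
  refine Module.Finite.of_surjective
    ({ toFun := f
       map_add' := map_add f
       map_smul' := fun c x => by
        obtain ⟨a, rfl⟩ := residue_surjective x
        rw [Algebra.smul_def, Algebra.smul_def, map_mul, RingHom.id_apply]
        rfl } : ResidueField A →ₗ[k] ResidueField (A ⧸ q)) fun z => ?_
  obtain ⟨z, rfl⟩ := residue_surjective z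
  obtain ⟨a, rfl⟩ := Ideal.Quotient.mk_surjective z
  exact ⟨residue A a, rfl⟩

theorem le_finrank_fib (q : Ideal A) [q.IsPrime] {d : ℕ} (hd : ringKrullDim (A ⧸ q) = d) :
    Module.Finite q.ResidueField (q.ResidueField ⊗[A] CO k A) ∧
      d ≤ Module.finrank q.ResidueField (q.ResidueField ⊗[A] CO k A) := by
  classical
  haveI := finite_CO k A
  refine ⟨inferInstance, ?_⟩
  haveI := isLocalRing_quotient A q
  haveI := finite_residue_quotient k A q
  haveI : IsAdicComplete (maximalIdeal (A ⧸ q)) (A ⧸ q) := FiniteCompleteLib.isAdicComplete_maximalIdeal A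
    (A ⧸ q)
  obtain ⟨x, hx, hrad⟩ := Groth.Agent.S17753.result (A ⧸ q) d hd (maximalIdeal (A ⧸ q))
    (maximalIdeal.isMaximal _).ne_top
  obtain ⟨φ, -, hfin, -⟩ := exists_psAlgHom k (A ⧸ q) x hx (hrad ▸ Ideal.le_radical)
  have hbot : ringKrullDim ((A ⧸ q) ⧸ (⊥ : Ideal (A ⧸ q))) = d := by
    rw [ringKrullDim_eq_of_ringEquiv (RingEquiv.quotientBot (A ⧸ q)), hd]
  have hinj := injective_mk_comp k (A ⧸ q) φ hfin ⊥ hbot
  let P := MvPowerSeries (Fin d) k
  let L := q.ResidueField
  letI : Algebra P L := ((algebraMap (A ⧸ q) L).comp φ.toRingHom).toAlgebra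
  haveI : IsScalarTower k P L := IsScalarTower.of_algebraMap_eq fun c => by
    show _ = algebraMap (A ⧸ q) L (φ (algebraMap k P c))
    rw [φ.commutes, ← IsScalarTower.algebraMap_apply]
  have hPL : Function.Injective (algebraMap P L) :=
    (IsFractionRing.injective (A ⧸ q) L).comp (Function.Injective.of_comp hinj)
  letI : Algebra P (A ⧸ q) := φ.toRingHom.toAlgebra
  haveI : IsScalarTower P (A ⧸ q) L := IsScalarTower.of_algebraMap_eq' rfl
  haveI : Module.Finite P (A ⧸ q) := hfin
  obtain ⟨r, e, he⟩ := Module.Finite.exists_fin (R := P) (M := A ⧸ q)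
  let eL : Fin r → L := fun l => algebraMap (A ⧸ q) L (e l)
  have hmem : ∀ z : A ⧸ q, algebraMap (A ⧸ q) L z ∈ Submodule.span P (Set.range eL) := fun z => by
    have hz : z ∈ Submodule.span P (Set.range e) := by rw [he]; trivial
    have := Submodule.mem_map_of_mem (f := (IsScalarTower.toAlgHom P (A ⧸ q) L).toLinearMap) hz
    rw [Submodule.map_span, ← Set.range_comp] at this
    exact this
  haveI : IsDomain P := NoZeroDivisors.to_isDomain _
  haveI : Algebra.IsIntegral P (A ⧸ q) := Algebra.IsIntegral.of_finite P _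
  obtain ⟨δ, hδ, hrel⟩ := exists_derivations_ps (k := k) L hPL eL (fun y => by
    obtain ⟨a, b, hb, rfl⟩ := IsFractionRing.div_surjective (A ⧸ q) y
    have hb0 : b ≠ 0 := nonZeroDivisors.ne_zero hb
    -- a nonzero multiple of `b` coming from `k[[T]]`
    obtain ⟨g, hg0, c, hc⟩ : ∃ g : P, g ≠ 0 ∧ ∃ c, algebraMap P (A ⧸ q) g = b * c := by
      have hne : (Ideal.span {b}).comap (algebraMap P (A ⧸ q)) ≠ ⊥ :=
        Ideal.comap_ne_bot_of_integral_mem hb0 (Ideal.mem_span_singleton_self b) (Algebra.IsIntegral.isIntegral b)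
      obtain ⟨g, hg, hg0⟩ := Submodule.exists_mem_ne_zero_of_ne_bot hne
      obtain ⟨c, hc⟩ := Ideal.mem_span_singleton'.1 hg
      exact ⟨g, hg0, c, by rw [mul_comm]; exact hc.symm⟩
    refine ⟨algebraMap (A ⧸ q) L (a * c), algebraMap P L g,
      fun h => hg0 (hPL (h.trans (map_zero _).symm)), hmem _, ⟨g, rfl⟩, ?_⟩
    rw [IsScalarTower.algebraMap_apply P (A ⧸ q) L, hc, map_mul, map_mul, mul_div_mul_right]
    intro h
    refine hg0 (hPL ?_)
    rw [IsScalarTower.algebraMap_apply P (A ⧸ q) L, hc, map_mul, h, mul_zero, map_zero])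
  -- the functionals
  have hAL : ∀ a : A, algebraMap A L a = algebraMap (A ⧸ q) L (Ideal.Quotient.mk q a) := fun a =>
    IsScalarTower.algebraMap_apply A (A ⧸ q) L a
  let N : Submodule A L := Submodule.span A
    (Set.range (fun i : Fin d × Fin r => δ i.1 (eL i.2)) ∪
      Set.range fun i : Fin d × Fin d × Fin r => eL i.2.2 * δ i.1 (algebraMap P L (MvPowerSeries.X i.2.1)))
  have hNmem : ∀ (z : A ⧸ q) (w : L), w ∈ N → algebraMap (A ⧸ q) L z * w ∈ N := fun z w hw => by
    obtain ⟨a, rfl⟩ := Ideal.Quotient.mk_surjective z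
    rw [← hAL, ← Algebra.smul_def]
    exact N.smul_mem a hw
  have hN : ∀ i (a : A), δ i (algebraMap A L a) ∈ N := by
    intro i a
    obtain ⟨c, hc⟩ := (Submodule.mem_span_range_iff_exists_fun P).1
      (show algebraMap A L a ∈ Submodule.span P (Set.range eL) by rw [hAL]; exact hmem _)
    rw [← hc, map_sum]
    refine Submodule.sum_mem _ fun l _ => ?_
    rw [Algebra.smul_def, Derivation.leibniz, smul_eq_mul, smul_eq_mul, hrel, Finset.mul_sum,
      IsScalarTower.algebraMap_apply P (A ⧸ q) L]
    refine add_mem (hNmem _ _ (Submodule.subset_span (Or.inl ⟨(i, l), rfl⟩)))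
      (Submodule.sum_mem _ fun j _ => ?_)
    rw [mul_left_comm, IsScalarTower.algebraMap_apply P (A ⧸ q) L]
    exact hNmem _ _ (Submodule.subset_span (Or.inr ⟨(i, j, l), rfl⟩))
  choose ψ hψ using fun i => exists_lift_of_fg
    ((δ i).compAlgebraMap A) N (Submodule.fg_span ((Set.finite_range _).union (Set.finite_range _))) (hN i)
  let Ψ : L ⊗[A] CO k A →ₗ[L] (Fin d → L) := LinearMap.pi fun i => (ψ i).liftBaseChange L
  suffices hsurj : Function.Surjective Ψ by
    have := LinearMap.finrank_le_finrank_of_injective (f := Ψ.dualMap)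
      (LinearMap.dualMap_injective_of_surjective hsurj)
    simpa [Subspace.dual_finrank_eq] using this
  rw [← LinearMap.dualMap_injective_iff, ← LinearMap.ker_eq_bot, LinearMap.ker_eq_bot']
  intro g hg
  have hcoef : ∀ a : A, ∑ i, g (Pi.single i 1) * δ i (algebraMap A L a) = 0 := fun a => by
    have h1 := LinearMap.congr_fun hg ((1 : L) ⊗ₜ cD k A a)
    rw [LinearMap.dualMap_apply, LinearMap.zero_apply] at h1
    conv_lhs at h1 => rw [pi_eq_sum_univ' (Ψ ((1 : L) ⊗ₜ cD k A a))]
    rw [map_sum] at h1
    refine Eq.trans (Finset.sum_congr rfl fun i _ => ?_) h1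
    rw [map_smul, smul_eq_mul, mul_comm]
    simp [Ψ, hψ]
  have hfun : ∑ i, g (Pi.single i 1) • ((δ i : L → L)) = 0 := by
    funext y
    simp only [Finset.sum_apply, Pi.smul_apply, smul_eq_mul, Pi.zero_apply]
    obtain ⟨a, b, hb, rfl⟩ := IsFractionRing.div_surjective (A ⧸ q) y
    obtain ⟨a', rfl⟩ := Ideal.Quotient.mk_surjective a
    obtain ⟨b', rfl⟩ := Ideal.Quotient.mk_surjective b
    rw [← hAL, ← hAL]
    simp only [Derivation.leibniz_div, smul_eq_mul, mul_sub, Finset.sum_sub_distrib, mul_left_comm (g _),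
      ← Finset.mul_sum, hcoef, mul_zero, sub_zero]
  have h0 := Fintype.linearIndependent_iff.1 hδ _ hfun
  refine LinearMap.pi_ext' fun i => LinearMap.ext_ring ?_
  simpa using h0 i

omit [IsLocalRing A] [Algebra k A] [IsNoetherianRing A] [IsAdicComplete (maximalIdeal A) A]
  [Module.Finite k (ResidueField A)] in
theorem span_toFib_of_le {M : Type u} [AddCommGroup M] [Module A M] [Module.Finite A M] {p q : Ideal A}
    [p.IsPrime] [q.IsPrime] (hqp : q ≤ p) {ι : Type*} (s : ι → M)
    (hs : Submodule.span p.ResidueField (Set.range fun i => toFib p (s i)) = ⊤) :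
    Submodule.span q.ResidueField (Set.range fun i => toFib q (s i)) = ⊤ := by
  rw [← span_localized_eq_top_iff] at hs ⊢
  let fp := LocalizedModule.mkLinearMap p.primeCompl M
  let fq := LocalizedModule.mkLinearMap q.primeCompl M
  have hm : ∀ m : M, fq m ∈ Submodule.span (Localization.AtPrime q) (Set.range fun i => fq (s i)) := by
    intro m
    have h1 : fp m ∈ Submodule.span (Localization.AtPrime p) (fp '' Set.range s) := by
      rw [← Set.range_comp]; exact hs.symm ▸ Submodule.mem_top
    rw [← Submodule.localized'_span (Localization.AtPrime p) p.primeCompl fp] at h1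
    obtain ⟨z, hz, t, hzt⟩ := h1
    rw [IsLocalizedModule.mk'_eq_iff, Submonoid.smul_def, ← map_smul] at hzt
    obtain ⟨v, hv⟩ := (IsLocalizedModule.eq_iff_exists p.primeCompl fp).1 hzt
    have hu : (v : A) * (t : A) ∈ q.primeCompl := fun h =>
      (mul_mem v.2 t.2 : (v : A) * (t : A) ∈ p.primeCompl) (hqp h)
    have h2 : ((v : A) * (t : A)) • fq m ∈ Submodule.span (Localization.AtPrime q) (Set.range fun i => fq (s i)) := by
      rw [← map_smul, mul_smul]
      rw [Submonoid.smul_def, Submonoid.smul_def] at hv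
      rw [← hv, map_smul, ← algebraMap_smul (Localization.AtPrime q)]
      refine Submodule.smul_mem _ _ ?_
      have := Submodule.mem_map_of_mem (f := fq) hz
      rw [Submodule.map_span, ← Set.range_comp] at this
      exact Submodule.span_le_restrictScalars A (Localization.AtPrime q) _ this
    obtain ⟨w, hw⟩ := IsLocalization.map_units (Localization.AtPrime q) (⟨_, hu⟩ : q.primeCompl)
    rw [← algebraMap_smul (Localization.AtPrime q), ← hw] at h2
    simpa using Submodule.smul_mem _ (↑w⁻¹ : Localization.AtPrime q) h2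
  refine eq_top_iff.2 fun y _ => ?_
  obtain ⟨⟨m, t⟩, rfl⟩ := IsLocalizedModule.mk'_surjective q.primeCompl fq y
  rw [show Function.uncurry (IsLocalizedModule.mk' fq) (m, t) =
    IsLocalization.mk' (Localization.AtPrime q) 1 t • fq m by
      rw [← IsLocalizedModule.mk'_one q.primeCompl fq, IsLocalizedModule.mk'_smul_mk', one_smul, mul_one]; rfl]
  exact Submodule.smul_mem _ _ (hm m)

omit [IsLocalRing A] [Algebra k A] [IsNoetherianRing A] [IsAdicComplete (maximalIdeal A) A]
  [Module.Finite k (ResidueField A)] in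
theorem finrank_fib_le_of_le {M : Type u} [AddCommGroup M] [Module A M] [Module.Finite A M] {p q : Ideal A}
    [p.IsPrime] [q.IsPrime] (hqp : q ≤ p) :
    Module.finrank q.ResidueField (q.ResidueField ⊗[A] M) ≤ Module.finrank p.ResidueField (p.ResidueField ⊗[A] M) := by
  have hspan : Submodule.span p.ResidueField (Set.range (toFib (M := M) p)) = ⊤ := by
    refine eq_top_iff.2 fun z hz => ?_
    clear hz
    induction z using TensorProduct.induction_on with
    | zero => exact zero_mem _
    | add a b ha hb => exact add_mem ha hb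
    | tmul c m =>
      rw [show c ⊗ₜ[A] m = c • toFib p m by rw [toFib_apply, TensorProduct.smul_tmul', smul_eq_mul, mul_one]]
      exact Submodule.smul_mem _ c (Submodule.subset_span ⟨m, rfl⟩)
  obtain ⟨b, hb, hbs, hbli⟩ := exists_linearIndependent p.ResidueField (Set.range (toFib (M := M) p))
  rw [hspan] at hbs
  haveI : Fintype b := hbli.setFinite.fintype
  choose s hs using fun i : b => hb i.2
  have h1 : Submodule.span p.ResidueField (Set.range fun i => toFib p (s i)) = ⊤ := by
    simp only [hs]; rw [Subtype.range_coe, hbs]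
  have h2 := span_toFib_of_le A hqp s h1
  have h3 := finrank_range_le_card (R := q.ResidueField) fun i => toFib q (s i)
  rw [Set.finrank, h2, finrank_top] at h3
  refine h3.trans ?_
  rw [← finrank_span_eq_card (R := p.ResidueField) (b := (Subtype.val : b → p.ResidueField ⊗[A] M)) hbli, Subtype.range_coe, hbs, finrank_top]

theorem dim_le_finrank_fib {p q : Ideal A} [p.IsPrime] [q.IsPrime] (hqp : q ≤ p) {d : ℕ}
    (hd : ringKrullDim (A ⧸ q) = d) :
    d ≤ Module.finrank p.ResidueField (p.ResidueField ⊗[A] CO k A) := by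
  haveI := finite_CO k A
  exact (le_finrank_fib k A q hd).2.trans (finrank_fib_le_of_le A hqp)

end Groth.Agent.EGA418Lib
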