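import Groth.Agent.EGA418Lib.Completed
import Groth.Agent.EGA418Lib.Normalize
import Groth.Agent.EGA418Lib.Fibre
import Groth.Agent.WildQuotLib.CoeffPS

/-!
The local rings of `A ⊗̂_k k'` at its maximal ideals: density, extension of derivations of `A`, and
the dimensions of the components over a minimal prime of `A`.
-/

set_option autoImplicit false
set_option linter.style.haveILetI false
universe u
open TensorProduct IsLocalRing

namespace Groth.Agent.EGA418Lib

attribute [local instance] Algebra.TensorProduct.rightAlgebra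

variable (k A k' : Type u) [Field k] [CommRing A] [IsNoetherianRing A] [IsLocalRing A] [Algebra k A]
  [IsAdicComplete (maximalIdeal A) A] [Module.Finite k (ResidueField A)] [Field k'] [Algebra k k']

/-- The extension of the maximal ideal. -/
abbrev extI : Ideal (A ⊗[k] k') :=
  (maximalIdeal A).map (Algebra.TensorProduct.includeLeft : A →ₐ[k] A ⊗[k] k')

/-- The completed tensor product. -/
abbrev CT : Type u := AdicCompletion (extI k A k') (A ⊗[k] k')

omit [IsAdicComplete (maximalIdeal A) A] [Module.Finite k (ResidueField A)] in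
theorem map_extI :
    (extI k A k').map (algebraMap (A ⊗[k] k') (CT k A k')) = (maximalIdeal A).map (algebraMap A (CT k A k')) := by
  show ((maximalIdeal A).map (algebraMap A (A ⊗[k] k'))).map (algebraMap (A ⊗[k] k') (CT k A k')) = _
  rw [Ideal.map_map, ← IsScalarTower.algebraMap_eq]

theorem extI_fg : (extI k A k').FG := (maximalIdeal A).fg_of_isNoetherianRing.map _

theorem map_le_of_isMaximal (M : Ideal (CT k A k')) [M.IsMaximal] :
    (maximalIdeal A).map (algebraMap A (CT k A k')) ≤ M := by
  obtain ⟨-, -, hc, -⟩ := completedTensor_main k A k' (extI k A k') rfl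
  exact (IsAdicComplete.le_jacobson_bot _).trans (sInf_le ⟨bot_le, inferInstance⟩)

theorem surjective_local (M : Ideal (CT k A k')) [M.IsMaximal] :
    Function.Surjective (algebraMap (CT k A k') (Localization.AtPrime M)) := by
  classical
  obtain ⟨hN, -, hc, -⟩ := completedTensor_main k A k' (extI k A k') rfl
  haveI := hN
  haveI := hc
  set J := (maximalIdeal A).map (algebraMap A (CT k A k'))
  have hjac : J ≤ Ideal.jacobson ⊥ := IsAdicComplete.le_jacobson_bot J
  haveI : HenselianRing (CT k A k') J := inferInstance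
  have hs := Hensel.surjOn_idempotent (A := CT k A k') (I := J) (CT k A k')
  rw [Algebra.algebraMap_self, Ideal.map_id] at hs
  haveI : IsArtinianRing ((CT k A k') ⧸ J) := by
    let eJ : ((CT k A k') ⧸ J) ≃+* (A ⊗[k] k') ⧸ extI k A k' :=
      (Ideal.quotEquivOfEq ((map_extI k A k').symm.trans
        (AdicCompletion.ker_evalOneₐ_eq_map _ (extI_fg k A k')).symm)).trans
        (RingHom.quotientKerEquivOfSurjective (AdicCompletion.evalOneₐ_surjective (extI k A k')))
    haveI : IsArtinianRing ((A ⊗[k] k') ⧸ extI k A k') := by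
      letI : Algebra k' ((A ⊗[k] k') ⧸ extI k A k') := ((Ideal.Quotient.mk (extI k A k')).comp
        (Algebra.TensorProduct.includeRight : k' →ₐ[k] A ⊗[k] k').toRingHom).toAlgebra
      haveI : Module.Finite k' ((A ⊗[k] k') ⧸ extI k A k') := finite_tensor_quotient k A k'
      exact IsArtinianRing.of_finite k' _
    exact eJ.symm.surjective.isArtinianRing
  obtain ⟨hfin, hsep⟩ := Hensel.exists_separating_of_surjOn J hjac hs
  haveI := hfin
  intro z
  obtain ⟨x, hx⟩ := (Hensel.bijective_pi_localization hsep).2
    (fun N => if h : N = ⟨M, inferInstance⟩ then h ▸ z else 0)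
  refine ⟨x, ?_⟩
  have := congrFun hx ⟨M, inferInstance⟩
  simpa using this

theorem local_props (M : Ideal (CT k A k')) [M.IsMaximal] :
    IsNoetherianRing (Localization.AtPrime M) ∧
      IsAdicComplete (maximalIdeal (Localization.AtPrime M)) (Localization.AtPrime M) ∧
      Module.FaithfullyFlat A (Localization.AtPrime M) ∧ IsLocalHom (algebraMap A (Localization.AtPrime M)) ∧
      Module.Finite k' (ResidueField (Localization.AtPrime M)) := by
  obtain ⟨hN, -, -, h⟩ := completedTensor_main k A k' (extI k A k') rfl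
  haveI := hN
  obtain ⟨hc, hff, -, hres⟩ := h ⟨M, inferInstance⟩
  refine ⟨IsLocalization.isNoetherianRing M.primeCompl _ inferInstance, hc, hff, ?_, ?_⟩
  · refine ((local_hom_TFAE (algebraMap A (Localization.AtPrime M))).out 0 2 rfl rfl).mpr ?_
    rw [IsScalarTower.algebraMap_eq A (CT k A k') (Localization.AtPrime M), ← Ideal.map_map,
      ← Localization.AtPrime.map_eq_maximalIdeal]
    exact Ideal.map_mono (map_le_of_isMaximal k A k' M)
  · let e : (CT k A k') ⧸ M →+* ResidueField (Localization.AtPrime M) :=
      Ideal.Quotient.lift M ((residue _).comp (algebraMap _ (Localization.AtPrime M))) fun a ha => by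
        rw [RingHom.comp_apply, residue_eq_zero_iff, ← Localization.AtPrime.map_eq_maximalIdeal]
        exact Ideal.mem_map_of_mem _ ha
    have he : Function.Surjective e := Ideal.Quotient.lift_surjective_of_surjective _ _
      ((residue_surjective).comp (surjective_local k A k' M))
    have heq : algebraMap k' (ResidueField (Localization.AtPrime M)) =
        e.comp ((((Ideal.Quotient.mk M).comp (algebraMap (A ⊗[k] k') (CT k A k')))).comp
          Algebra.TensorProduct.includeRight.toRingHom) := RingHom.ext fun c => rfl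
    rw [← RingHom.finite_algebraMap, heq]
    exact RingHom.Finite.comp (RingHom.Finite.of_surjective _ he) hres

theorem dense_local (M : Ideal (CT k A k')) [M.IsMaximal] (r : Localization.AtPrime M) (j : ℕ) :
    ∃ b ∈ Subring.closure (Set.range (algebraMap A (Localization.AtPrime M)) ∪
      Set.range (algebraMap k' (Localization.AtPrime M))), r - b ∈ maximalIdeal (Localization.AtPrime M) ^ j := by
  obtain ⟨x, rfl⟩ := surjective_local k A k' M r
  obtain ⟨c, hc⟩ := Ideal.Quotient.mk_surjective (AdicCompletion.eval (extI k A k') (A ⊗[k] k') j x)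
  refine ⟨algebraMap (CT k A k') _ (algebraMap (A ⊗[k] k') _ c), ?_, ?_⟩
  · clear hc
    induction c using TensorProduct.induction_on with
    | zero => rw [map_zero, map_zero]; exact zero_mem _
    | add a b ha hb => rw [map_add, map_add]; exact add_mem ha hb
    | tmul a b =>
      have e1 : a ⊗ₜ[k] b = algebraMap A (A ⊗[k] k') a * algebraMap k' (A ⊗[k] k') b := by
        show _ = (a ⊗ₜ[k] (1 : k')) * ((1 : A) ⊗ₜ[k] b)
        rw [Algebra.TensorProduct.tmul_mul_tmul, mul_one, one_mul]
      rw [e1, map_mul, map_mul]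
      exact mul_mem (Subring.subset_closure (Or.inl ⟨a, rfl⟩)) (Subring.subset_closure (Or.inr ⟨b, rfl⟩))
  · rw [← map_sub]
    have hmem : x - algebraMap (A ⊗[k] k') (CT k A k') c ∈
        (extI k A k') ^ j • (⊤ : Submodule (A ⊗[k] k') (CT k A k')) := by
      rw [AdicCompletion.pow_smul_top_eq_ker_eval (extI_fg k A k'), LinearMap.mem_ker, map_sub, sub_eq_zero, ← hc]
      rfl
    rw [Ideal.smul_top_eq_map, Submodule.restrictScalars_mem, Ideal.map_pow, map_extI] at hmem
    rw [← Localization.AtPrime.map_eq_maximalIdeal, ← Ideal.map_pow]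
    exact Ideal.mem_map_of_mem _ (Ideal.pow_right_mono (map_le_of_isMaximal k A k' M) j hmem)

/-- A derivation of `A` extends to the local rings of `A ⊗̂_k k'`. -/
theorem exists_derivation_ext (M : Ideal (CT k A k')) [M.IsMaximal] {N : Type u} [AddCommGroup N]
    [Module (Localization.AtPrime M) N] [Module.Finite (Localization.AtPrime M) N] [Module A N]
    [IsScalarTower A (Localization.AtPrime M) N] [Module k' N] [IsScalarTower k' (Localization.AtPrime M) N]
    [Module k N] [IsScalarTower k A N] (d : Derivation k A N) :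
    ∃ δ : Derivation k' (Localization.AtPrime M) N, ∀ a, δ (algebraMap A _ a) = d a := by
  obtain ⟨hN, hc, -, hloc, -⟩ := local_props k A k' M
  haveI := hN; haveI := hc; haveI := hloc
  set R := Localization.AtPrime M
  letI : Module Rᵐᵒᵖ N := Module.compHom N ((RingHom.id R).fromOpposite mul_comm)
  haveI : IsCentralScalar R N := ⟨fun _ _ => rfl⟩
  let iR : R →+* (TrivSqZeroExt R N) := TrivSqZeroExt.inlHom R N
  haveI : IsScalarTower k R N := IsScalarTower.of_algebraMap_smul fun c x => by
    rw [IsScalarTower.algebraMap_apply k A R, algebraMap_smul, algebraMap_smul]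
  haveI : IsScalarTower k Rᵐᵒᵖ N := ⟨fun c r x => by
    show (c • r.unop) • x = c • (r.unop • x)
    rw [smul_assoc]⟩
  haveI : Module.Finite R (TrivSqZeroExt R N) := inferInstanceAs (Module.Finite R (R × N))
  let m0 : Ideal (TrivSqZeroExt R N) := (maximalIdeal R).map (algebraMap R (TrivSqZeroExt R N))
  let K : Ideal (TrivSqZeroExt R N) := (maximalIdeal R).comap (TrivSqZeroExt.fstHom R R N)
  have hK : m0 ≤ K := Ideal.map_le_iff_le_comap.2 fun r hr => by
    show TrivSqZeroExt.fst (algebraMap R (TrivSqZeroExt R N) r) ∈ maximalIdeal R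
    simpa [TrivSqZeroExt.algebraMap_eq_inl] using hr
  have hK2 : K ^ 2 ≤ m0 := by
    rw [pow_two, Ideal.mul_le]
    intro x hx y hy
    have e : x * y = algebraMap R (TrivSqZeroExt R N) (x.fst * y.fst) + (algebraMap R (TrivSqZeroExt R N) x.fst * TrivSqZeroExt.inr y.snd +
        algebraMap R (TrivSqZeroExt R N) y.fst * TrivSqZeroExt.inr x.snd) := by
      ext
      · simp [TrivSqZeroExt.algebraMap_eq_inl]
      · simp [TrivSqZeroExt.algebraMap_eq_inl]
    rw [e]
    exact add_mem (Ideal.mem_map_of_mem _ (Ideal.mul_mem_right _ _ hx))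
      (add_mem (Ideal.mul_mem_right _ _ (Ideal.mem_map_of_mem _ hx))
        (Ideal.mul_mem_right _ _ (Ideal.mem_map_of_mem _ hy)))
  haveI : IsAdicComplete m0 (TrivSqZeroExt R N) := by
    haveI := FiniteCompleteLib.isAdicComplete_of_finite (maximalIdeal R) (TrivSqZeroExt R N)
    exact IsAdicComplete.map_algebraMap_iff _ _ |>.2 inferInstance
  haveI : IsAdicComplete K (TrivSqZeroExt R N) := WildQuotLib.isAdicComplete_of_pow_le hK two_pos hK2
  let fA : A →ₐ[k] (TrivSqZeroExt R N) :=
    { toFun := fun a => TrivSqZeroExt.inl (algebraMap A R a) + TrivSqZeroExt.inr (d a)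
      map_one' := by simp
      map_mul' := fun a b => by
        refine TrivSqZeroExt.ext ?_ ?_
        · simp; ring
        · simp only [map_mul, Derivation.leibniz, TrivSqZeroExt.snd_add, TrivSqZeroExt.snd_inl, TrivSqZeroExt.snd_inr,
            TrivSqZeroExt.fst_add, TrivSqZeroExt.fst_inl, TrivSqZeroExt.fst_inr, TrivSqZeroExt.snd_mul, add_zero, zero_add,
            op_smul_eq_smul, algebraMap_smul, smul_zero]
      map_zero' := by simp
      map_add' := fun a b => by
        refine TrivSqZeroExt.ext ?_ ?_ <;> simp <;> ring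
      commutes' := fun c => by
        simp only [Derivation.map_algebraMap, TrivSqZeroExt.inr_zero, add_zero, ← IsScalarTower.algebraMap_apply]
        rfl }
  let fk : k' →ₐ[k] (TrivSqZeroExt R N) :=
    { toRingHom := iR.comp (algebraMap k' R)
      commutes' := fun c => by
        show iR (algebraMap k' R (algebraMap k k' c)) = iR (algebraMap k R c)
        rw [← IsScalarTower.algebraMap_apply] }
  let g : A ⊗[k] k' →ₐ[k] (TrivSqZeroExt R N) := Algebra.TensorProduct.lift fA fk fun _ _ => mul_comm _ _
  have hg : ∀ a c, g (a ⊗ₜ[k] c) = fA a * fk c := fun a c => Algebra.TensorProduct.lift_tmul _ _ _ a c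
  have hgK : (extI k A k').map g ≤ K := by
    refine Ideal.map_le_iff_le_comap.2 (Ideal.map_le_iff_le_comap.2 fun a ha => ?_)
    show TrivSqZeroExt.fst (g (a ⊗ₜ[k] (1 : k'))) ∈ maximalIdeal R
    rw [hg, map_one, mul_one]
    show TrivSqZeroExt.fst (TrivSqZeroExt.inl (algebraMap A R a) + TrivSqZeroExt.inr (d a)) ∈ maximalIdeal R
    simpa using ((local_hom_TFAE (algebraMap A R)).out 0 2 rfl rfl).mp inferInstance (Ideal.mem_map_of_mem _ ha)
  obtain ⟨G0, hG0⟩ := AdicRingLib.exists_algHom_completion (R := k) (extI k A k') K g hgK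
  let fstk : (TrivSqZeroExt R N) →ₐ[k] R :=
    { toRingHom := (TrivSqZeroExt.fstHom R R N).toRingHom
      commutes' := fun c => by
        show TrivSqZeroExt.fst (iR (algebraMap k R c)) = _
        simp [iR] }
  have hfst : fstk.comp G0 = IsScalarTower.toAlgHom k (CT k A k') R := by
    refine AdicRingLib.algHom_completion_ext (K := maximalIdeal R) (extI_fg k A k') (fun c hc => ?_) fun c => ?_
    · show fstk (G0 (algebraMap _ _ c)) ∈ _
      rw [hG0]
      exact hgK (Ideal.mem_map_of_mem _ hc)
    · show fstk (G0 (algebraMap _ _ c)) = algebraMap _ R (algebraMap _ _ c)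
      rw [hG0]
      induction c using TensorProduct.induction_on with
      | zero => simp
      | add a b ha hb => simp only [map_add, ha, hb]
      | tmul a b =>
        have e1 : a ⊗ₜ[k] b = algebraMap A (A ⊗[k] k') a * algebraMap k' (A ⊗[k] k') b := by
          show _ = (a ⊗ₜ[k] (1 : k')) * ((1 : A) ⊗ₜ[k] b)
          rw [Algebra.TensorProduct.tmul_mul_tmul, mul_one, one_mul]
        rw [hg, map_mul, e1, map_mul, map_mul]
        refine congrArg₂ (· * ·) ?_ ?_
        · show TrivSqZeroExt.fst (TrivSqZeroExt.inl (algebraMap A R a) + TrivSqZeroExt.inr (d a)) = _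
          simp
          rfl
        · show TrivSqZeroExt.fst (iR (algebraMap k' R b)) = _
          simp [iR]
          rfl
  have hunit : ∀ y : M.primeCompl, IsUnit (G0 y) := fun y => by
    rw [TrivSqZeroExt.isUnit_iff_isUnit_fst]
    show IsUnit ((fstk.comp G0) y)
    rw [hfst]
    exact IsLocalization.map_units R y
  let G : R →ₐ[k] (TrivSqZeroExt R N) := IsLocalization.liftAlgHom hunit
  have hG : ∀ x, G (algebraMap (CT k A k') R x) = G0 x := fun x => IsLocalization.lift_eq _ x
  have hGfst : ∀ r, TrivSqZeroExt.fst (G r) = r := fun r => by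
    obtain ⟨x, rfl⟩ := surjective_local k A k' M r
    rw [hG]
    exact DFunLike.congr_fun hfst x
  have hGk : ∀ c : k', G (algebraMap k' R c) = iR (algebraMap k' R c) := fun c => by
    show G (algebraMap (CT k A k') R (algebraMap (A ⊗[k] k') (CT k A k') ((1 : A) ⊗ₜ[k] c))) = _
    rw [hG, hG0, hg, map_one, one_mul]
    rfl
  have hGA : ∀ a : A, G (algebraMap A R a) = fA a := fun a => by
    show G (algebraMap (CT k A k') R (algebraMap (A ⊗[k] k') (CT k A k') (a ⊗ₜ[k] (1 : k')))) = _
    rw [hG, hG0, hg, map_one, mul_one]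
  let δl : R →ₗ[k'] N :=
    { toFun := fun r => TrivSqZeroExt.snd (G r)
      map_add' := fun r s => by simp
      map_smul' := fun c r => by
        rw [Algebra.smul_def, map_mul, hGk, TrivSqZeroExt.snd_mul, RingHom.id_apply]
        simp [iR, algebraMap_smul] }
  refine ⟨Derivation.mk' δl fun r s => ?_, fun a => ?_⟩
  · show TrivSqZeroExt.snd (G (r * s)) = r • TrivSqZeroExt.snd (G s) + s • TrivSqZeroExt.snd (G r)
    rw [map_mul, TrivSqZeroExt.snd_mul, hGfst, hGfst, op_smul_eq_smul]
  · show TrivSqZeroExt.snd (G (algebraMap A R a)) = d a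
    rw [hGA]
    show TrivSqZeroExt.snd (TrivSqZeroExt.inl (algebraMap A R a) + TrivSqZeroExt.inr (d a)) = d a
    simp

end Groth.Agent.EGA418Lib
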