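import Groth.Agent.EGA418Lib.CompletedLocal

/-!
The components of `A ⊗̂_k k'` over a component of `A` have the same dimension.
-/

set_option autoImplicit false
set_option linter.style.haveILetI false
universe u
open TensorProduct IsLocalRing

namespace Groth.Agent.EGA418Lib

attribute [local instance] Algebra.TensorProduct.rightAlgebra

/-- A finite torsion-free module over a domain is squeezed between free modules. -/
theorem exists_sandwich (P B : Type u) [CommRing P] [IsDomain P] [CommRing B] [Algebra P B] [Module.Finite P B] :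
    ∃ (r : ℕ) (π : B →ₗ[P] (Fin r → P)) (ι : (Fin r → P) →ₗ[P] B) (c : P), c ≠ 0 ∧ ∀ y, ι (π y) = c • y := by
  classical
  obtain ⟨t, ht⟩ := Module.Finite.fg_top (R := P) (M := B)
  let v : t → B := fun i => i
  obtain ⟨s, hs, hmax⟩ := exists_maximal_linearIndepOn P v
  have hmem : ∀ i : t, ∃ a : P, a ≠ 0 ∧ a • v i ∈ Submodule.span P (v '' s) := fun i => by
    by_cases h : i ∈ s
    · exact ⟨1, one_ne_zero, by rw [one_smul]; exact Submodule.subset_span ⟨i, h, rfl⟩⟩
    · exact hmax i h
  choose a ha hav using hmem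
  let e := (Fintype.equivFin s).symm
  let w : Fin (Fintype.card s) → B := fun j => v (e j)
  have hw : LinearIndependent P w := (linearIndependent_equiv e).2 hs
  have hrange : Set.range w = v '' s := by
    rw [show w = (fun i : s => v i) ∘ e from rfl, e.surjective.range_comp, Set.range_comp' v, Subtype.range_coe]
  let c : P := ∏ i, a i
  have hc : ∀ y : B, c • y ∈ Submodule.span P (Set.range w) := by
    intro y
    rw [hrange]
    have hy : y ∈ Submodule.span P (t : Set B) := by rw [ht]; trivial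
    induction hy using Submodule.span_induction with
    | mem y hy =>
      obtain ⟨d, hd⟩ : a ⟨y, hy⟩ ∣ c := Finset.dvd_prod_of_mem a (Finset.mem_univ _)
      rw [hd, mul_comm, mul_smul]
      exact Submodule.smul_mem _ d (hav ⟨y, hy⟩)
    | zero => rw [smul_zero]; exact zero_mem _
    | add y z _ _ hy hz => rw [smul_add]; exact add_mem hy hz
    | smul d y _ hy => rw [smul_comm]; exact Submodule.smul_mem _ d hy
  let b := Module.Basis.span hw
  refine ⟨_, b.equivFun.toLinearMap ∘ₗ LinearMap.codRestrict _ (c • LinearMap.id) hc,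
    (Submodule.span P (Set.range w)).subtype ∘ₗ b.equivFun.symm.toLinearMap, c,
    Finset.prod_ne_zero_iff.2 fun i _ => ha i, fun y => ?_⟩
  simp

variable (k A k' : Type u) [Field k] [CommRing A] [IsNoetherianRing A] [IsLocalRing A] [Algebra k A]
  [IsAdicComplete (maximalIdeal A) A] [Module.Finite k (ResidueField A)] [Field k'] [Algebra k k']

theorem dim_component (q : Ideal A) [q.IsPrime] {n : ℕ} (hn : ringKrullDim (A ⧸ q) = n)
    (Q : Ideal (CT k A k')) (hQ : Q ∈ minimalPrimes (CT k A k'))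
    (hQq : Q.comap (algebraMap A (CT k A k')) = q) : ringKrullDim ((CT k A k') ⧸ Q) = n := by
  classical
  obtain ⟨hN, -, hJc, -⟩ := completedTensor_main k A k' (extI k A k') rfl
  haveI := hN
  haveI := hJc
  haveI : Q.IsPrime := hQ.1.1
  set C := CT k A k'
  set J := (maximalIdeal A).map (algebraMap A C)
  -- the parameters
  haveI : IsLocalRing (A ⧸ q) := isLocalRing_quotient A q
  haveI := finite_residue_quotient k A q
  haveI : IsAdicComplete (maximalIdeal (A ⧸ q)) (A ⧸ q) := FiniteCompleteLib.isAdicComplete_maximalIdeal A (A ⧸ q)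
  obtain ⟨xb, hxb, hradb⟩ := Groth.Agent.S17753.result (A ⧸ q) n hn (maximalIdeal (A ⧸ q))
    (maximalIdeal.isMaximal (A ⧸ q)).ne_top
  obtain ⟨φ, hφX, hφfin, -⟩ := exists_psAlgHom k (A ⧸ q) xb hxb (Ideal.le_radical.trans (le_of_eq hradb))
  have hφinj : Function.Injective φ := by
    haveI : Nontrivial ((A ⧸ q) ⧸ (⊥ : Ideal (A ⧸ q))) := Ideal.Quotient.nontrivial_iff.2 bot_ne_top
    have := injective_mk_comp k (A ⧸ q) φ hφfin ⊥
      (by rw [ringKrullDim_eq_of_ringEquiv (RingEquiv.quotientBot (A ⧸ q)), hn])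
    exact Function.Injective.of_comp this
  choose x hx using fun i => Ideal.Quotient.mk_surjective (xb i)
  have hxm : ∀ i, x i ∈ maximalIdeal A := fun i => by
    have h := hxb i
    rw [← hx i] at h
    exact fun hu => h (hu.map _)
  obtain ⟨N, hN'⟩ : ∃ N : ℕ, maximalIdeal A ^ N ≤ q ⊔ Ideal.span (Set.range x) := by
    refine Ideal.exists_pow_le_of_le_radical_of_fg ?_ (maximalIdeal A).fg_of_isNoetherianRing
    intro a ha
    have h1 : Ideal.Quotient.mk q a ∈ (Ideal.span (Set.range xb)).radical := by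
      rw [← hradb]
      exact Ideal.le_radical (((local_hom_TFAE (Ideal.Quotient.mk q)).out 0 2 rfl rfl).mp
        (IsLocalHom.of_surjective _ Ideal.Quotient.mk_surjective) (Ideal.mem_map_of_mem _ ha))
    rw [show Set.range xb = Ideal.Quotient.mk q '' Set.range x by
      rw [← Set.range_comp]; exact congrArg Set.range (funext fun i => (hx i).symm), ← Ideal.map_span] at h1
    obtain ⟨l, hl⟩ := h1
    rw [← map_pow, Ideal.mem_quotient_iff_mem_sup, sup_comm] at hl
    exact ⟨l, hl⟩
  set P := MvPowerSeries (Fin n) k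
  set P' := MvPowerSeries (Fin n) k'
  letI : Algebra P (A ⧸ q) := φ.toRingHom.toAlgebra
  haveI : IsScalarTower k P (A ⧸ q) := IsScalarTower.of_algebraMap_eq fun c => (φ.commutes c).symm
  haveI : Module.Finite P (A ⧸ q) := hφfin
  haveI : IsScalarTower k P P' := IsScalarTower.of_algebraMap_eq fun c => by
    show algebraMap k P' c = MvPowerSeries.map (algebraMap k k') (algebraMap k P c)
    rw [MvPowerSeries.algebraMap_apply, MvPowerSeries.algebraMap_apply, MvPowerSeries.map_C]
    rfl
  haveI : IsDomain P := NoZeroDivisors.to_isDomain _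
  haveI : IsDomain P' := NoZeroDivisors.to_isDomain _
  set T := P' ⊗[P] (A ⧸ q)
  letI : Algebra k T := Algebra.TensorProduct.leftAlgebra
  let iT : A ⧸ q →ₐ[P] T := Algebra.TensorProduct.includeRight
  have hX : ∀ i, algebraMap P P' (MvPowerSeries.X i) = MvPowerSeries.X i := fun i => MvPowerSeries.map_X _ i
  have hiTX : ∀ i, iT (xb i) = algebraMap P' T (MvPowerSeries.X i) := fun i => by
    show (1 : P') ⊗ₜ[P] xb i = MvPowerSeries.X i ⊗ₜ[P] (1 : A ⧸ q)
    rw [← hφX i, ← hX i, show φ (MvPowerSeries.X i) = (MvPowerSeries.X i : P) • (1 : A ⧸ q) from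
      (Algebra.algebraMap_eq_smul_one (A := A ⧸ q) (MvPowerSeries.X i : P)), TensorProduct.tmul_smul,
      TensorProduct.smul_tmul', Algebra.algebraMap_eq_smul_one]
  let fA : A →ₐ[k] T :=
    { toRingHom := iT.toRingHom.comp (Ideal.Quotient.mk q)
      commutes' := fun c => by
        show (1 : P') ⊗ₜ[P] (algebraMap k (A ⧸ q) c) = algebraMap k P' c ⊗ₜ[P] (1 : A ⧸ q)
        rw [IsScalarTower.algebraMap_apply k P (A ⧸ q), IsScalarTower.algebraMap_apply k P P',
          Algebra.algebraMap_eq_smul_one (R := P) (A := A ⧸ q), TensorProduct.tmul_smul, TensorProduct.smul_tmul',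
          Algebra.algebraMap_eq_smul_one (R := P) (A := P')] }
  let fk : k' →ₐ[k] T := (IsScalarTower.toAlgHom k P' T).comp (IsScalarTower.toAlgHom k k' P')
  -- completeness of `T`
  haveI : Module.Finite P' T := Module.Finite.base_change P P' (A ⧸ q)
  let K0 : Ideal T := (maximalIdeal P').map (algebraMap P' T)
  let K : Ideal T := (maximalIdeal A).map fA.toRingHom
  have hKle : K0 ≤ K := by
    show (maximalIdeal P').map (algebraMap P' T) ≤ K
    rw [WildQuotLib.maximalIdeal_eq, Ideal.map_span, Ideal.span_le]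
    rintro _ ⟨_, ⟨i, rfl⟩, rfl⟩
    rw [← hiTX, ← hx]
    exact Ideal.mem_map_of_mem fA.toRingHom (hxm i)
  have hpow : K ^ N ≤ K0 := by
    rw [← Ideal.map_pow]
    refine (Ideal.map_mono hN').trans ?_
    rw [Ideal.map_sup, sup_le_iff, Ideal.map_le_iff_le_comap, Ideal.map_span, Ideal.span_le]
    refine ⟨fun a ha => ?_, ?_⟩
    · show iT (Ideal.Quotient.mk q a) ∈ K0
      rw [Ideal.Quotient.eq_zero_iff_mem.2 ha, map_zero]
      exact zero_mem _
    · rintro _ ⟨_, ⟨i, rfl⟩, rfl⟩
      show iT (Ideal.Quotient.mk q (x i)) ∈ K0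
      rw [hx, hiTX]
      refine Ideal.mem_map_of_mem _ ?_
      rw [WildQuotLib.maximalIdeal_eq]
      exact Ideal.subset_span ⟨i, rfl⟩
  haveI : IsAdicComplete K0 T := by
    haveI : IsAdicComplete (maximalIdeal P') P' := inferInstance
    haveI := FiniteCompleteLib.isAdicComplete_of_finite (maximalIdeal P') T
    exact IsAdicComplete.map_algebraMap_iff _ _ |>.2 inferInstance
  haveI : IsAdicComplete K T := WildQuotLib.isAdicComplete_of_pow_le (N := N + 1) hKle (Nat.succ_pos N)
    ((Ideal.pow_le_pow_right (Nat.le_succ N)).trans hpow)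
  -- `ψ : C → T`
  let g0 : A ⊗[k] k' →ₐ[k] T := Algebra.TensorProduct.lift fA fk fun _ _ => mul_comm _ _
  have hg0 : ∀ a c, g0 (a ⊗ₜ[k] c) = fA a * fk c := fun a c => Algebra.TensorProduct.lift_tmul _ _ _ a c
  have hg0K : (extI k A k').map g0 ≤ K := Ideal.map_le_iff_le_comap.2 (Ideal.map_le_iff_le_comap.2 fun a ha => by
    show g0 (a ⊗ₜ[k] (1 : k')) ∈ K
    rw [hg0, map_one, mul_one]
    exact Ideal.mem_map_of_mem fA.toRingHom ha)
  obtain ⟨ψ, hψ⟩ := AdicRingLib.exists_algHom_completion (R := k) (extI k A k') K g0 hg0K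
  have hψA : ∀ a, ψ (algebraMap A C a) = fA a := fun a => by
    show ψ (algebraMap (A ⊗[k] k') C (a ⊗ₜ[k] (1 : k'))) = _
    rw [hψ, hg0, map_one, mul_one]
  have hψk : ∀ c : k', ψ (algebraMap k' C c) = fk c := fun c => by
    show ψ (algebraMap (A ⊗[k] k') C ((1 : A) ⊗ₜ[k] c)) = _
    rw [hψ, hg0, map_one, one_mul]
  have hxJ : ∀ i, algebraMap A C (x i) ∈ J := fun i => Ideal.mem_map_of_mem _ (hxm i)
  obtain ⟨g, hg⟩ := WildQuotLib.exists_psHom (k := k') J (fun i => algebraMap A C (x i)) hxJ
  let ψg : P' →ₐ[k'] T :=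
    { toRingHom := ψ.toRingHom.comp g.toRingHom
      commutes' := fun c => by
        show ψ (g (algebraMap k' P' c)) = algebraMap k' T c
        rw [g.commutes, hψk]
        rfl }
  have hψg : ∀ f, ψ (g f) = algebraMap P' T f := by
    have h := WildQuotLib.psHom_ext (k := k') K (g := ψg) (g' := IsScalarTower.toAlgHom k' P' T)
      (fun i => by
        show ψ (g (MvPowerSeries.X i)) ∈ K
        rw [hg, hψA]
        exact Ideal.mem_map_of_mem fA.toRingHom (hxm i))
      fun i => by
        show ψ (g (MvPowerSeries.X i)) = algebraMap P' T (MvPowerSeries.X i)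
        rw [hg, hψA, ← hiTX, ← hx]
        rfl
    exact fun f => DFunLike.congr_fun h f
  -- `Φ : T → C/qC`
  let qC := q.map (algebraMap A C)
  let mkC : C →ₐ[k] C ⧸ qC := Ideal.Quotient.mkₐ k qC
  haveI : IsAdicComplete (J.map (algebraMap C (C ⧸ qC))) (C ⧸ qC) := by
    haveI := FiniteCompleteLib.isAdicComplete_of_finite J (C ⧸ qC)
    exact IsAdicComplete.map_algebraMap_iff _ _ |>.2 inferInstance
  let bA : A ⧸ q →+* C ⧸ qC := Ideal.quotientMap qC (algebraMap A C) Ideal.le_comap_map
  letI : Algebra P (C ⧸ qC) := (bA.comp φ.toRingHom).toAlgebra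
  let bAₐ : A ⧸ q →ₐ[P] C ⧸ qC := { toRingHom := bA, commutes' := fun _ => rfl }
  have hbA : ∀ a, bA (Ideal.Quotient.mk q a) = mkC (algebraMap A C a) := fun a => Ideal.quotientMap_mk
  have hagree : ∀ f : P, mkC (g (algebraMap P P' f)) = bA (φ f) := by
    let h1 : P →ₐ[k] C ⧸ qC := mkC.comp ((g.restrictScalars k).comp (IsScalarTower.toAlgHom k P P'))
    let h2 : P →ₐ[k] C ⧸ qC :=
      { toRingHom := bA.comp φ.toRingHom
        commutes' := fun c => by
          show bA (φ (algebraMap k P c)) = _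
          rw [φ.commutes, ← Ideal.Quotient.mk_algebraMap, hbA, ← IsScalarTower.algebraMap_apply, AlgHom.commutes] }
    have h := WildQuotLib.psHom_ext (k := k) (J.map (algebraMap C (C ⧸ qC))) (g := h1) (g' := h2)
      (fun i => by
        show mkC (g (algebraMap P P' (MvPowerSeries.X i))) ∈ _
        rw [hX, hg]
        exact Ideal.mem_map_of_mem (algebraMap C (C ⧸ qC)) (hxJ i))
      fun i => by
        show mkC (g (algebraMap P P' (MvPowerSeries.X i))) = bA (φ (MvPowerSeries.X i))
        rw [hX, hg, hφX, ← hx, hbA]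
    exact fun f => DFunLike.congr_fun h f
  let g' : P' →ₐ[P] C ⧸ qC := { toRingHom := mkC.toRingHom.comp g.toRingHom, commutes' := hagree }
  let Φ : T →ₐ[P] C ⧸ qC := Algebra.TensorProduct.lift g' bAₐ fun _ _ => mul_comm _ _
  have hΦ : ∀ (f : P') (b : A ⧸ q), Φ (f ⊗ₜ[P] b) = mkC (g f) * bA b :=
    fun f b => Algebra.TensorProduct.lift_tmul _ _ _ f b
  let Φk : T →ₐ[k] C ⧸ qC :=
    { toRingHom := Φ.toRingHom
      commutes' := fun c => by
        show Φ (algebraMap k P' c ⊗ₜ[P] (1 : A ⧸ q)) = _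
        rw [hΦ, map_one, mul_one, IsScalarTower.algebraMap_apply k k' P', g.commutes,
          ← IsScalarTower.algebraMap_apply, AlgHom.commutes] }
  have hΦψ : ∀ z, Φ (ψ z) = mkC z := by
    have h : Φk.comp ψ = mkC := by
      refine AdicRingLib.algHom_completion_ext (K := J.map (algebraMap C (C ⧸ qC))) (extI_fg k A k')
        (fun c hc => ?_) fun c => ?_
      · refine (Ideal.map_le_iff_le_comap.2 (Ideal.map_le_iff_le_comap.2 fun a ha => ?_) :
          (extI k A k').map ((Φk.comp ψ).toRingHom.comp (algebraMap (A ⊗[k] k') C)) ≤ J.map (algebraMap C (C ⧸ qC)))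
          (Ideal.mem_map_of_mem _ hc)
        show Φ (ψ (algebraMap A C a)) ∈ J.map (algebraMap C (C ⧸ qC))
        rw [hψA]
        show Φ ((1 : P') ⊗ₜ[P] Ideal.Quotient.mk q a) ∈ _
        rw [hΦ, map_one, map_one, one_mul, hbA]
        exact Ideal.mem_map_of_mem (algebraMap C (C ⧸ qC)) (Ideal.mem_map_of_mem _ ha)
      · induction c using TensorProduct.induction_on with
        | zero => simp
        | add a b ha hb => simp only [map_add, ha, hb]
        | tmul a b =>
          have e1 : a ⊗ₜ[k] b = algebraMap A (A ⊗[k] k') a * algebraMap k' (A ⊗[k] k') b := by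
            show _ = (a ⊗ₜ[k] (1 : k')) * ((1 : A) ⊗ₜ[k] b)
            rw [Algebra.TensorProduct.tmul_mul_tmul, mul_one, one_mul]
          rw [e1, map_mul, map_mul, map_mul]
          refine congrArg₂ (· * ·) ?_ ?_
          · show Φ (ψ (algebraMap A C a)) = mkC (algebraMap A C a)
            rw [hψA]
            show Φ ((1 : P') ⊗ₜ[P] Ideal.Quotient.mk q a) = _
            rw [hΦ, map_one, map_one, one_mul, hbA]
          · show Φ (ψ (algebraMap k' C b)) = mkC (algebraMap k' C b)
            rw [hψk]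
            show Φ (algebraMap k' P' b ⊗ₜ[P] (1 : A ⧸ q)) = _
            rw [hΦ, map_one, mul_one, g.commutes]
    exact fun z => DFunLike.congr_fun h z
  have hqQ : qC ≤ Q := Ideal.map_le_iff_le_comap.2 hQq.ge
  -- `g` is injective modulo `Q`
  let γ : P' →+* C ⧸ Q := (Ideal.Quotient.mk Q).comp g.toRingHom
  have hγ : Function.Injective γ := by
    rw [injective_iff_map_eq_zero]
    intro f hf
    by_contra hf0
    have hfQ : g f ∈ Q := Ideal.Quotient.eq_zero_iff_mem.1 hf
    obtain ⟨s, hs, l, hsl⟩ : ∃ s ∉ Q, ∃ l : ℕ, s * g f ^ l = 0 := by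
      have h1 : IsNilpotent (algebraMap C (Localization.AtPrime Q) (g f)) := by
        rw [← mem_nilradical, nilradical_eq_sInf, Ideal.mem_sInf]
        intro R hR
        haveI : R.IsPrime := hR
        have h2 : R.comap (algebraMap C (Localization.AtPrime Q)) ≤ Q :=
          ((IsLocalization.AtPrime.orderIsoOfPrime (Localization.AtPrime Q) Q) ⟨R, hR⟩).2.2
        exact hQ.2 ⟨Ideal.comap_isPrime _ R, bot_le⟩ h2 hfQ
      obtain ⟨l, hl⟩ := h1
      rw [← map_pow] at hl
      obtain ⟨⟨s, hs⟩, hsl⟩ := (IsLocalization.map_eq_zero_iff Q.primeCompl _ _).1 hl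
      exact ⟨s, hs, l, hsl⟩
    obtain ⟨r, π, ι, c, hc, hιπ⟩ := exists_sandwich P (A ⧸ q)
    let F : T →ₗ[P'] (Fin r → P') :=
      (TensorProduct.piScalarRight P P' P' (Fin r)).toLinearMap ∘ₗ π.baseChange P'
    have h1 : F (ψ s) = 0 := by
      have h2 : (f ^ l : P') • ψ s = 0 := by
        refine (Algebra.smul_def (R := P') (A := T) (f ^ l) (ψ s)).trans ?_
        rw [← hψg, ← map_mul, map_pow, mul_comm, hsl, map_zero]
      have h3 := congrArg F h2
      rw [map_smul, map_zero, smul_eq_zero] at h3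
      exact h3.resolve_left (pow_ne_zero _ hf0)
    have h2 : algebraMap P T c * ψ s = 0 := by
      have h3 : π.baseChange P' (ψ s) = 0 :=
        (TensorProduct.piScalarRight P P' P' (Fin r)).injective (h1.trans (map_zero _).symm)
      have h4 := congrArg (ι.baseChange P') h3
      rw [map_zero, ← LinearMap.comp_apply, ← LinearMap.baseChange_comp,
        show ι ∘ₗ π = c • LinearMap.id from LinearMap.ext hιπ, LinearMap.baseChange_smul, LinearMap.baseChange_id,
        LinearMap.smul_apply, LinearMap.id_apply] at h4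
      rwa [← Algebra.smul_def]
    have h3 := congrArg Φ h2
    rw [map_mul, AlgHom.commutes, map_zero, hΦψ] at h3
    obtain ⟨a, ha⟩ := Ideal.Quotient.mk_surjective (φ c)
    have h4 : algebraMap A C a * s ∈ qC := by
      rw [← Ideal.Quotient.eq_zero_iff_mem, map_mul]
      refine Eq.trans ?_ h3
      refine congrArg₂ (· * ·) ?_ rfl
      show mkC (algebraMap A C a) = bA (φ c)
      rw [← ha, hbA]
    rcases (inferInstance : Q.IsPrime).mem_or_mem (hqQ h4) with h5 | h5
    · refine hc (hφinj ?_)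
      rw [map_zero, ← ha, Ideal.Quotient.eq_zero_iff_mem, ← hQq]
      exact h5
    · exact hs h5
  letI : Algebra P' (C ⧸ Q) := γ.toAlgebra
  haveI : FaithfulSMul P' (C ⧸ Q) := (faithfulSMul_iff_algebraMap_injective _ _).2 hγ
  -- finiteness
  let Ψ : T →ₗ[P'] C ⧸ Q :=
    { toFun := fun z => Ideal.Quotient.factor hqQ (Φ z)
      map_add' := fun y z => by rw [map_add, map_add]
      map_smul' := fun f z => by
        refine ((congrArg (fun w => Ideal.Quotient.factor hqQ (Φ w)) (Algebra.smul_def (R := P') (A := T) f z)).trans ?_).trans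
          (Algebra.smul_def (R := P') (A := C ⧸ Q) f _).symm
        show Ideal.Quotient.factor hqQ (Φ (algebraMap P' T f * z)) = γ f * _
        rw [map_mul, map_mul]
        refine congrArg₂ (· * ·) ?_ rfl
        show Ideal.Quotient.factor hqQ (Φ (f ⊗ₜ[P] (1 : A ⧸ q))) = Ideal.Quotient.mk Q (g f)
        rw [hΦ, map_one, mul_one]
        exact Ideal.Quotient.factor_mk _ _ }
  haveI : Module.Finite P' (C ⧸ Q) := Module.Finite.of_surjective Ψ fun z => by
    obtain ⟨z, rfl⟩ := Ideal.Quotient.mk_surjective z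
    exact ⟨ψ z, by show Ideal.Quotient.factor hqQ (Φ (ψ z)) = _; rw [hΦψ]; exact Ideal.Quotient.factor_mk _ _⟩
  rw [← GrSegreLib.ringKrullDim_eq_of_integral_injective γ hγ
    (RingHom.IsIntegral.of_finite (RingHom.finite_algebraMap.2 ‹Module.Finite P' (C ⧸ Q)›))]
  exact WildQuotLib.ringKrullDim_eq k' n

end Groth.Agent.EGA418Lib
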