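import Groth.Agent.ComplKaehlerLib.Local
import Groth.Agent.FiniteCompleteLib.Basic

/-!
Right exactness of completion for modules finite modulo the ideal, and the finiteness needed to apply
it to differentials.
-/

set_option autoImplicit false
set_option linter.style.haveILetI false
universe u
open TensorProduct IsLocalRing KaehlerDifferential

namespace Groth.Agent.EGA418Lib

theorem exact_adicCompletion_of_finite_mod {B : Type u} [CommRing B] [IsNoetherianRing B] (I : Ideal B)
    [IsAdicComplete I B] {L M N : Type u} [AddCommGroup L] [Module B L] [AddCommGroup M] [Module B M]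
    [AddCommGroup N] [Module B N] (f : L →ₗ[B] M) (g : M →ₗ[B] N) (hex : Function.Exact f g)
    (hg : Function.Surjective g) [Module.Finite B (M ⧸ (I • ⊤ : Submodule B M))] :
    LinearMap.range (AdicCompletion.map I f) = LinearMap.ker (AdicCompletion.map I g) := by
  obtain ⟨n, φ, hφ⟩ := ComplKaehlerLib.exists_generators_mod (M := M) I
  haveI := ComplKaehlerLib.finite_adicCompletion I φ hφ
  haveI hc : IsAdicComplete I (AdicCompletion I M ⧸
      (LinearMap.range (AdicCompletion.map I f)).restrictScalars B) :=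
    FiniteCompleteLib.isAdicComplete_of_finite I _
  refine le_antisymm ?_ fun x hx => ?_
  · rintro _ ⟨z, rfl⟩
    rw [LinearMap.mem_ker, AdicCompletion.map_comp_apply, hex.linearMap_comp_eq_zero]
    refine AdicCompletion.ext fun j => ?_
    obtain ⟨l, hl⟩ := Submodule.Quotient.mk_surjective _ (z.val j)
    rw [AdicCompletion.map_val_apply, ← hl]
    rfl
  · set R' := (LinearMap.range (AdicCompletion.map I f)).restrictScalars B
    have key : ∀ j : ℕ, R'.mkQ x ∈ (I ^ j • ⊤ : Submodule B (AdicCompletion I M ⧸ R')) := by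
      intro j
      obtain ⟨y, hy⟩ := Submodule.Quotient.mk_surjective _ (x.val j)
      have h0 : (AdicCompletion.map I g x).val j = 0 := by rw [LinearMap.mem_ker.1 hx]; rfl
      rw [AdicCompletion.map_val_apply, ← hy] at h0
      have h1 : g y ∈ (I ^ j • ⊤ : Submodule B N) := (Submodule.Quotient.mk_eq_zero _).1 h0
      rw [← LinearMap.range_eq_top.2 hg, ← Submodule.map_top, ← Submodule.map_smul''] at h1
      obtain ⟨w, hw, hwg⟩ := h1
      obtain ⟨l, hl⟩ := (hex (y - w)).1 (by rw [map_sub, hwg, sub_self])
      have h2 : x - AdicCompletion.map I f (AdicCompletion.of I L l) ∈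
          (I ^ j • ⊤ : Submodule B (AdicCompletion I M)) := by
        rw [AdicCompletion.pow_smul_top_eq_ker_eval I.fg_of_isNoetherianRing, LinearMap.mem_ker, map_sub,
          AdicCompletion.map_of, AdicCompletion.eval_of, hl, sub_eq_zero]
        show x.val j = Submodule.Quotient.mk (y - w)
        rw [← hy, Submodule.Quotient.eq, sub_sub_cancel]
        exact hw
      have h3 := Submodule.mem_map_of_mem (f := R'.mkQ) h2
      rw [Submodule.map_smul'', Submodule.map_top, Submodule.range_mkQ, map_sub] at h3
      rwa [show R'.mkQ (AdicCompletion.map I f (AdicCompletion.of I L l)) = 0 from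
        (Submodule.Quotient.mk_eq_zero R').2 ⟨_, rfl⟩, sub_zero] at h3
    have h4 : R'.mkQ x = 0 := hc.toIsHausdorff.haus _ fun j => SModEq.zero.2 (key j)
    exact (Submodule.Quotient.mk_eq_zero R').1 h4

/-- Finiteness of differentials descends along finite extensions of fields. -/
theorem finite_kaehler_of_finite_extension (k K L : Type u) [Field k] [Field K] [Field L] [Algebra k K]
    [Algebra K L] [Algebra k L] [IsScalarTower k K L] [Module.Finite K L] [Module.Finite L Ω[L⁄k]] :
    Module.Finite K Ω[K⁄k] := by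
  obtain ⟨h1, -⟩ := FieldExtLib.finrank_h1Cotangent_eq K L
  haveI := h1
  have hex := Algebra.H1Cotangent.exact_δ_mapBaseChange k K L
  haveI : Module.Finite L (LinearMap.ker (mapBaseChange k K L)) := by
    rw [hex.linearMap_ker_eq]; infer_instance
  haveI : Module.Finite L (LinearMap.range (mapBaseChange k K L)) :=
    Submodule.finiteDimensional_of_le (le_top (a := LinearMap.range (mapBaseChange k K L)))
  haveI : Module.Finite L ((L ⊗[K] Ω[K⁄k]) ⧸ LinearMap.ker (mapBaseChange k K L)) :=
    Module.Finite.equiv (mapBaseChange k K L).quotKerEquivRange.symm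
  haveI : Module.Finite L (L ⊗[K] Ω[K⁄k]) :=
    Module.Finite.of_submodule_quotient (LinearMap.ker (mapBaseChange k K L))
  have h := Module.rank_lt_aleph0 L (L ⊗[K] Ω[K⁄k])
  rw [Module.rank_baseChange, Cardinal.lift_id] at h
  exact Module.rank_lt_aleph0_iff.1 h

/-- `S ⊗_R M` is finite modulo `J` when `M` is finite modulo `𝔞` and `𝔞 S ≤ J`. -/
theorem finite_baseChange_mod {R S : Type u} [CommRing R] [CommRing S] [Algebra R S] (𝔞 : Ideal R) (J : Ideal S)
    (h : 𝔞.map (algebraMap R S) ≤ J) (M : Type u) [AddCommGroup M] [Module R M]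
    [Module.Finite R (M ⧸ (𝔞 • ⊤ : Submodule R M))] :
    Module.Finite S ((S ⊗[R] M) ⧸ (J • ⊤ : Submodule S (S ⊗[R] M))) := by
  let W := (S ⊗[R] M) ⧸ (J • ⊤ : Submodule S (S ⊗[R] M))
  let one : M →ₗ[R] W := ((J • ⊤ : Submodule S (S ⊗[R] M)).mkQ.restrictScalars R) ∘ₗ TensorProduct.mk R S M 1
  have h0 : (𝔞 • ⊤ : Submodule R M) ≤ LinearMap.ker one := by
    refine Submodule.smul_le.2 fun r hr m _ => ?_
    rw [LinearMap.mem_ker]
    show Submodule.Quotient.mk ((1 : S) ⊗ₜ[R] (r • m)) = (0 : W)
    rw [Submodule.Quotient.mk_eq_zero, TensorProduct.tmul_smul, ← algebraMap_smul S r]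
    exact Submodule.smul_mem_smul (h (Ideal.mem_map_of_mem _ hr)) trivial
  let g := ((Submodule.liftQ _ one h0).liftBaseChange S)
  refine Module.Finite.of_surjective g ?_
  rw [← LinearMap.range_eq_top, eq_top_iff]
  rintro w -
  obtain ⟨z, rfl⟩ := Submodule.Quotient.mk_surjective _ w
  induction z using TensorProduct.induction_on with
  | zero => exact zero_mem _
  | add a b ha hb => rw [Submodule.Quotient.mk_add]; exact add_mem ha hb
  | tmul s m =>
    refine ⟨s ⊗ₜ Submodule.Quotient.mk m, ?_⟩
    simp only [g, LinearMap.liftBaseChange_tmul, Submodule.liftQ_apply, one, LinearMap.comp_apply]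
    show s • Submodule.Quotient.mk ((1 : S) ⊗ₜ[R] m) = (Submodule.Quotient.mk (s ⊗ₜ[R] m) : W)
    rw [← Submodule.Quotient.mk_smul, TensorProduct.smul_tmul', smul_eq_mul, mul_one]

end Groth.Agent.EGA418Lib
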