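import Groth.Agent.FieldExtLib.Imperfection

/-!
Differentials of a finite extension of a field with prescribed dual derivations.

For a finite extension `L/K`, derivations `θ i` of `K` with `θ i (t j) = δ_ij` define
`Φ : L ⊗_K Ω_K → L^d`; the quotient of `Ω_L` by the image of `ker Φ` has dimension
`d + dim (ker (L ⊗_K Ω_K → Ω_L) ∩ ker Φ)`.
-/

set_option autoImplicit false
set_option linter.style.haveILetI false
universe u
open TensorProduct KaehlerDifferential

namespace Groth.Agent.EGA418Lib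

variable {K L : Type u} [Field K] [Field L] [Algebra K L] {d : ℕ}

/-- The map `L ⊗_K Ω_K → L^d` given by the derivations `θ`. -/
noncomputable def phi (L : Type u) [Field L] [Algebra K L] (θ : Fin d → Derivation ℤ K K) :
    L ⊗[K] Ω[K⁄ℤ] →ₗ[L] (Fin d → L) :=
  LinearMap.pi fun i => ((Algebra.linearMap K L) ∘ₗ (θ i).liftKaehlerDifferential).liftBaseChange L

theorem phi_one_tmul_D (θ : Fin d → Derivation ℤ K K) (c : K) (i : Fin d) :
    phi L θ (1 ⊗ₜ D ℤ K c) i = algebraMap K L (θ i c) := by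
  simp [phi, Derivation.liftKaehlerDifferential_comp_D]

theorem phi_sum_smul (θ : Fin d → Derivation ℤ K K) (t : Fin d → K)
    (hθt : ∀ i j, θ i (t j) = if i = j then 1 else 0) (v : Fin d → L) :
    phi L θ (∑ j, v j • ((1 : L) ⊗ₜ[K] D ℤ K (t j))) = v := by
  classical
  funext i
  rw [map_sum, Finset.sum_apply]
  refine (Finset.sum_eq_single i (fun j _ hj => ?_) (fun h => absurd (Finset.mem_univ i) h)).trans ?_
  · rw [LinearMap.map_smul, Pi.smul_apply, phi_one_tmul_D, hθt, if_neg (Ne.symm hj), map_zero, smul_zero]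
  · rw [LinearMap.map_smul, Pi.smul_apply, phi_one_tmul_D, hθt, if_pos rfl, map_one, smul_eq_mul, mul_one]

theorem finite_ker_mapBaseChange (K L : Type u) [Field K] [Field L] [Algebra K L] [Module.Finite K L] :
    Module.Finite L (LinearMap.ker (mapBaseChange ℤ K L)) ∧
      Module.finrank L (LinearMap.ker (mapBaseChange ℤ K L)) = Module.finrank L Ω[L⁄K] := by
  obtain ⟨e⟩ := FieldExtLib.nonempty_h1_equiv_imperfection K L
  obtain ⟨hfin, heq⟩ := FieldExtLib.finrank_h1Cotangent_eq K L
  haveI := hfin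
  have e' : Algebra.H1Cotangent K L ≃ₗ[L] LinearMap.ker (mapBaseChange ℤ K L) := e
  exact ⟨Module.Finite.equiv e', by rw [← e'.finrank_eq, heq]⟩

/-- The quotient of `Ω_L` by the image of `ker Φ`. -/
theorem finrank_quotient_map_ker_phi [Module.Finite K L] (θ : Fin d → Derivation ℤ K K) (t : Fin d → K)
    (hθt : ∀ i j, θ i (t j) = if i = j then 1 else 0) :
    Module.Finite L (Ω[L⁄ℤ] ⧸ (LinearMap.ker (phi L θ)).map (mapBaseChange ℤ K L)) ∧
      Module.finrank L (Ω[L⁄ℤ] ⧸ (LinearMap.ker (phi L θ)).map (mapBaseChange ℤ K L)) =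
        d + Module.finrank L
          ↥(LinearMap.ker (mapBaseChange ℤ K L) ⊓ LinearMap.ker (phi L θ)) := by
  classical
  set μ := mapBaseChange ℤ K L with hμ
  set Φ := phi L θ with hΦ
  set R := (LinearMap.ker Φ).map μ with hR
  let s : (Fin d → L) →ₗ[L] L ⊗[K] Ω[K⁄ℤ] :=
    Fintype.linearCombination L fun j => (1 : L) ⊗ₜ[K] D ℤ K (t j)
  have hΦs : ∀ v, Φ (s v) = v := fun v => by
    rw [show s v = ∑ j, v j • ((1 : L) ⊗ₜ[K] D ℤ K (t j)) from Fintype.linearCombination_apply L _ v]
    exact phi_sum_smul θ t hθt v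
  have hex := exact_mapBaseChange_map ℤ K L
  have hRle : R ≤ LinearMap.ker (map ℤ K L L) := by
    rintro _ ⟨z, -, rfl⟩
    exact (hex _).2 ⟨z, rfl⟩
  let π : Ω[L⁄ℤ] ⧸ R →ₗ[L] Ω[L⁄K] := R.liftQ (map ℤ K L L) hRle
  let j : (Fin d → L) →ₗ[L] Ω[L⁄ℤ] ⧸ R := R.mkQ ∘ₗ μ ∘ₗ s
  have hπsurj : Function.Surjective π := fun y => by
    obtain ⟨x, rfl⟩ := map_surjective ℤ K L y
    exact ⟨Submodule.Quotient.mk x, rfl⟩
  have hjΦ : ∀ z, R.mkQ (μ z) = j (Φ z) := fun z => by
    show Submodule.Quotient.mk (μ z) = Submodule.Quotient.mk (μ (s (Φ z)))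
    rw [Submodule.Quotient.eq, ← map_sub]
    exact ⟨z - s (Φ z), by rw [SetLike.mem_coe, LinearMap.mem_ker, map_sub, hΦs, sub_self], rfl⟩
  have hrange : LinearMap.range j = LinearMap.ker π := by
    refine le_antisymm ?_ fun w hw => ?_
    · rintro _ ⟨v, rfl⟩
      exact (hex _).2 ⟨s v, rfl⟩
    · obtain ⟨x, rfl⟩ := Submodule.Quotient.mk_surjective R w
      obtain ⟨z, rfl⟩ := (hex x).1 (show map ℤ K L L x = 0 from hw)
      exact ⟨Φ z, (hjΦ z).symm⟩
  have hker : LinearMap.ker j = (LinearMap.ker μ).map Φ := by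
    refine le_antisymm (fun v hv => ?_) ?_
    · obtain ⟨z, hz, hze⟩ : μ (s v) ∈ R :=
        (Submodule.Quotient.mk_eq_zero _).1 (show j v = 0 from hv)
      refine ⟨s v - z, ?_, ?_⟩
      · show s v - z ∈ LinearMap.ker μ
        rw [LinearMap.mem_ker, map_sub, hze, sub_self]
      · rw [map_sub, hΦs, LinearMap.mem_ker.1 hz, sub_zero]
    · rintro _ ⟨z, hz, rfl⟩
      rw [LinearMap.mem_ker, ← hjΦ, LinearMap.mem_ker.1 hz, map_zero]
  obtain ⟨hfin, hh⟩ := finite_ker_mapBaseChange K L
  haveI := hfin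
  haveI : Module.Finite L (LinearMap.ker π) := by rw [← hrange]; infer_instance
  haveI : Module.Finite L Ω[L⁄K] := inferInstance
  haveI : Module.Finite L ((Ω[L⁄ℤ] ⧸ R) ⧸ LinearMap.ker π) :=
    Module.Finite.equiv (π.quotKerEquivOfSurjective hπsurj).symm
  haveI hW : Module.Finite L (Ω[L⁄ℤ] ⧸ R) := Module.Finite.of_submodule_quotient (LinearMap.ker π)
  refine ⟨hW, ?_⟩
  have e1 := π.finrank_range_add_finrank_ker
  rw [LinearMap.range_eq_top.2 hπsurj, finrank_top, ← hrange] at e1
  have e2 := j.finrank_range_add_finrank_ker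
  rw [hker, Module.finrank_fin_fun] at e2
  haveI : FiniteDimensional L ↥(LinearMap.ker μ) := hfin
  have e3 := LinearMap.finrank_range_add_finrank_ker (K := L) (V := ↥(LinearMap.ker μ))
    (V₂ := Fin d → L) (Φ.domRestrict (LinearMap.ker μ))
  have e3r : LinearMap.range (Φ.domRestrict (LinearMap.ker μ)) = (LinearMap.ker μ).map Φ :=
    LinearMap.range_domRestrict _ _
  have e3k : Module.finrank L (LinearMap.ker (Φ.domRestrict (LinearMap.ker μ))) =
      Module.finrank L ↥(LinearMap.ker μ ⊓ LinearMap.ker Φ) := by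
    rw [LinearMap.ker_domRestrict]
    exact (Submodule.equivMapOfInjective _ Subtype.val_injective _).finrank_eq.trans
      (by rw [Submodule.map_comap_subtype])
  rw [e3r, e3k, hh] at e3
  omega

section relative

variable {k : Type u} [Field k] [Algebra k K] [Algebra k L] [IsScalarTower k K L]

/-- `L ⊗_k Ω_k → L ⊗_K Ω_K`. -/
noncomputable def iota (k K L : Type u) [Field k] [Field K] [Field L] [Algebra k K] [Algebra K L]
    [Algebra k L] [IsScalarTower k K L] : L ⊗[k] Ω[k⁄ℤ] →ₗ[L] L ⊗[K] Ω[K⁄ℤ] :=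
  (mapBaseChange ℤ k K).baseChange L ∘ₗ
    (TensorProduct.AlgebraTensorModule.cancelBaseChange k K L L Ω[k⁄ℤ]).symm.toLinearMap

theorem iota_tmul_D (a : L) (c : k) :
    iota k K L (a ⊗ₜ D ℤ k c) = a ⊗ₜ D ℤ K (algebraMap k K c) := by
  simp [iota]

omit [IsScalarTower k K L] in
theorem span_one_tmul_D_eq_top (R L : Type u) [CommRing R] [CommRing L] [Algebra R L] :
    Submodule.span L (Set.range fun c : R => (1 : L) ⊗ₜ[R] D ℤ R c) = ⊤ := by
  have := Submodule.baseChange_span (R := R) (A := L) (Set.range (D ℤ R))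
  rw [span_range_derivation, Submodule.baseChange_top, ← Set.range_comp] at this
  exact this.symm

theorem mapBaseChange_comp_iota :
    mapBaseChange ℤ K L ∘ₗ iota k K L = mapBaseChange ℤ k L := by
  refine LinearMap.ext_on_range (span_one_tmul_D_eq_top k L) fun c => ?_
  rw [LinearMap.comp_apply, iota_tmul_D, mapBaseChange_tmul, mapBaseChange_tmul, map_D, map_D,
    ← IsScalarTower.algebraMap_apply k K L]

theorem iota_injective (hinj : Function.Injective (mapBaseChange ℤ k K)) :
    Function.Injective (iota k K L) :=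
  (Module.Flat.lTensor_preserves_injective_linearMap _ hinj).comp (LinearEquiv.injective _)

theorem range_iota_le_ker_phi (θ : Fin d → Derivation ℤ K K)
    (hk : ∀ i (c : k), θ i (algebraMap k K c) = 0) :
    LinearMap.range (iota k K L) ≤ LinearMap.ker (phi L θ) := by
  rw [LinearMap.range_eq_map, ← span_one_tmul_D_eq_top k L, Submodule.map_span_le]
  rintro _ ⟨c, rfl⟩
  rw [iota_tmul_D, LinearMap.mem_ker]
  funext i
  rw [phi_one_tmul_D, hk, map_zero, Pi.zero_apply]

/-- `d` independent derivations of `L` extending combinations of the `θ i`. -/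
theorem exists_derivations [Module.Finite K L] (θ : Fin d → Derivation ℤ K K) (t : Fin d → K)
    (hθt : ∀ i j, θ i (t j) = if i = j then 1 else 0)
    (hk : ∀ i (c : k), θ i (algebraMap k K c) = 0) :
    ∃ δ : Fin d → Derivation k L L, LinearIndependent L (fun i => ((δ i : L → L))) ∧
      ∀ i (c : K), δ i (algebraMap K L c) = ∑ j, θ j c • δ i (algebraMap K L (t j)) := by
  classical
  obtain ⟨hW, hr⟩ := finrank_quotient_map_ker_phi (L := L) θ t hθt
  haveI := hW
  set R := (LinearMap.ker (phi L θ)).map (mapBaseChange ℤ K L)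
  let b := Module.finBasis L (Ω[L⁄ℤ] ⧸ R)
  let ψ : Fin d → (Ω[L⁄ℤ] →ₗ[L] L) := fun i =>
    b.coord (Fin.castLE (by omega) i) ∘ₗ R.mkQ
  have hψR : ∀ i, ∀ z ∈ R, ψ i z = 0 := fun i z hz => by
    show b.coord _ (Submodule.Quotient.mk z) = 0
    rw [(Submodule.Quotient.mk_eq_zero _).2 hz, map_zero]
  let δ0 : Fin d → Derivation ℤ L L := fun i => (ψ i).compDer (D ℤ L)
  have hrel : ∀ i (c : K), δ0 i (algebraMap K L c) = ∑ j, θ j c • δ0 i (algebraMap K L (t j)) := by
    intro i c
    have hmem : mapBaseChange ℤ K L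
        (1 ⊗ₜ D ℤ K c - ∑ j, algebraMap K L (θ j c) • (1 ⊗ₜ D ℤ K (t j))) ∈ R := by
      refine ⟨_, ?_, rfl⟩
      rw [SetLike.mem_coe, LinearMap.mem_ker, map_sub, phi_sum_smul θ t hθt, sub_eq_zero]
      funext l
      exact phi_one_tmul_D θ c l
    have h0 := hψR i _ hmem
    rw [map_sub (mapBaseChange ℤ K L), map_sum (mapBaseChange ℤ K L), map_sub (ψ i), map_sum (ψ i),
      sub_eq_zero, mapBaseChange_tmul, one_smul, map_D] at h0
    have hterm : ∀ j, ψ i (mapBaseChange ℤ K L
        (algebraMap K L (θ j c) • ((1 : L) ⊗ₜ[K] D ℤ K (t j)))) =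
        algebraMap K L (θ j c) • ψ i (D ℤ L (algebraMap K L (t j))) := fun j => by
      rw [LinearMap.map_smul, LinearMap.map_smul, mapBaseChange_tmul, one_smul, map_D]
    rw [Finset.sum_congr rfl fun j _ => hterm j] at h0
    rw [show δ0 i (algebraMap K L c) = ψ i (D ℤ L (algebraMap K L c)) from rfl, h0]
    exact Finset.sum_congr rfl fun j _ => algebraMap_smul L (θ j c) _
  have hzero : ∀ i (c : k), δ0 i (algebraMap k L c) = 0 := fun i c => by
    rw [IsScalarTower.algebraMap_apply k K L, hrel]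
    exact Finset.sum_eq_zero fun j _ => by rw [hk, zero_smul]
  let δ : Fin d → Derivation k L L := fun i =>
    Derivation.mk'
      { toFun := δ0 i
        map_add' := map_add _
        map_smul' := fun c x => by
          rw [RingHom.id_apply, Algebra.smul_def, Derivation.leibniz, hzero, smul_zero, add_zero,
            smul_eq_mul, ← Algebra.smul_def] }
      (fun x y => (δ0 i).leibniz x y)
  refine ⟨δ, ?_, hrel⟩
  rw [Fintype.linearIndependent_iff]
  intro g hg l
  have hz : ∑ i, g i • ψ i = 0 := by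
    refine LinearMap.ext_on_range (span_range_derivation ℤ L) fun x => ?_
    have := congr_fun hg x
    simpa [δ, δ0, Finset.sum_apply] using this
  obtain ⟨x, hx⟩ := Submodule.Quotient.mk_surjective R (b (Fin.castLE (by omega) l))
  have h1 := LinearMap.congr_fun hz x
  simp only [LinearMap.sum_apply, LinearMap.smul_apply, LinearMap.zero_apply, smul_eq_mul] at h1
  have h2 : ∀ i, ψ i x = if l = i then 1 else 0 := fun i => by
    show b.coord _ (Submodule.Quotient.mk x) = _
    rw [hx, Module.Basis.coord_apply, b.repr_self, Finsupp.single_apply]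
    simp [Fin.castLE_inj]
  simpa [h2] using h1

/-- The inequality `d + dim Υ ≤ dim Ω_{L/k}`, with equality when the `d t_i` generate `Ω_{K/k}`. -/
theorem rank_kaehler [Module.Finite K L] (θ : Fin d → Derivation ℤ K K) (t : Fin d → K)
    (hθt : ∀ i j, θ i (t j) = if i = j then 1 else 0)
    (hk : ∀ i (c : k), θ i (algebraMap k K c) = 0)
    (hinj : Function.Injective (mapBaseChange ℤ k K)) :
    Module.Finite L (LinearMap.ker (mapBaseChange ℤ k L)) ∧
      (d : Cardinal.{u}) + Module.rank L (LinearMap.ker (mapBaseChange ℤ k L)) ≤ Module.rank L Ω[L⁄k] ∧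
      (Submodule.span K (Set.range fun j => D k K (t j)) = ⊤ →
        Module.Finite L Ω[L⁄k] ∧
        Module.finrank L Ω[L⁄k] = d + Module.finrank L (LinearMap.ker (mapBaseChange ℤ k L))) := by
  classical
  obtain ⟨hW, hr⟩ := finrank_quotient_map_ker_phi (L := L) θ t hθt
  obtain ⟨hI, -⟩ := finite_ker_mapBaseChange K L
  haveI := hW
  haveI := hI
  set μ := mapBaseChange ℤ K L with hμ
  set Φ := phi L θ with hΦ
  set R := (LinearMap.ker Φ).map μ with hR
  have hιinj := iota_injective (L := L) hinj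
  have hle := range_iota_le_ker_phi (L := L) θ hk
  set Υ := LinearMap.ker (mapBaseChange ℤ k L) with hΥ
  haveI : Module.Finite L ↥(LinearMap.ker μ ⊓ LinearMap.ker Φ) :=
    Submodule.finiteDimensional_of_le (inf_le_left (a := LinearMap.ker μ))
  have hmap : Υ.map (iota k K L) = LinearMap.ker μ ⊓ LinearMap.range (iota k K L) := by
    rw [hΥ, ← mapBaseChange_comp_iota (K := K), LinearMap.ker_comp, Submodule.map_comap_eq, inf_comm]
  haveI : Module.Finite L ↥(Υ.map (iota k K L)) := by
    rw [hmap]; exact Submodule.finiteDimensional_of_le (inf_le_left (a := LinearMap.ker μ))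
  let e := Submodule.equivMapOfInjective _ hιinj Υ
  haveI hΥfin : Module.Finite L Υ := Module.Finite.equiv e.symm
  have hΥle : Module.finrank L Υ ≤ Module.finrank L ↥(LinearMap.ker μ ⊓ LinearMap.ker Φ) := by
    rw [e.finrank_eq, hmap]
    exact Submodule.finrank_mono (inf_le_inf_left _ hle)
  -- the kernel of `Ω_L → Ω_{L/k}` is killed
  have hkerk : LinearMap.ker (map ℤ k L L) ≤ R := by
    intro x hx
    obtain ⟨z, rfl⟩ := (exact_mapBaseChange_map ℤ k L x).1 hx
    rw [← mapBaseChange_comp_iota (K := K)]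
    exact ⟨iota k K L z, hle ⟨z, rfl⟩, rfl⟩
  let q : Ω[L⁄k] →ₗ[L] Ω[L⁄ℤ] ⧸ R :=
    (LinearMap.ker (map ℤ k L L)).liftQ R.mkQ (by rwa [Submodule.ker_mkQ]) ∘ₗ
      ((map ℤ k L L).quotKerEquivOfSurjective (map_surjective ℤ k L)).symm.toLinearMap
  have hq : ∀ x, q (map ℤ k L L x) = Submodule.Quotient.mk x := fun x => by
    simp [q, LinearMap.quotKerEquivOfSurjective_symm_apply]
  have hqsurj : Function.Surjective q := fun w => by
    obtain ⟨x, rfl⟩ := Submodule.Quotient.mk_surjective R w
    exact ⟨_, hq x⟩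
  refine ⟨hΥfin, ?_, fun hspan => ?_⟩
  · refine le_trans ?_ (LinearMap.rank_le_of_surjective q hqsurj)
    rw [← Module.finrank_eq_rank L Υ, ← Module.finrank_eq_rank L (Ω[L⁄ℤ] ⧸ R)]
    exact_mod_cast (by omega : d + Module.finrank L Υ ≤ Module.finrank L (Ω[L⁄ℤ] ⧸ R))
  · -- `ker Φ = range ι`
    have hdec : ∀ z : L ⊗[K] Ω[K⁄ℤ], z - (∑ j, Φ z j • ((1 : L) ⊗ₜ[K] D ℤ K (t j))) ∈
        LinearMap.range (iota k K L) := by
      intro z
      have hz : z ∈ Submodule.span L (Set.range fun c : K => (1 : L) ⊗ₜ[K] D ℤ K c) := by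
        rw [span_one_tmul_D_eq_top]; trivial
      induction hz using Submodule.span_induction with
      | zero =>
        rw [map_zero, Finset.sum_eq_zero fun j _ => by rw [Pi.zero_apply, zero_smul], sub_zero]
        exact zero_mem _
      | add x y _ _ hx hy =>
        have := add_mem hx hy
        rw [sub_add_sub_comm, ← Finset.sum_add_distrib] at this
        rw [map_add, Finset.sum_congr rfl fun j _ => by rw [Pi.add_apply, add_smul]]
        exact this
      | smul a x _ hx =>
        have := Submodule.smul_mem _ a hx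
        rw [smul_sub, Finset.smul_sum, Finset.sum_congr rfl fun j _ => smul_smul a (Φ x j) _] at this
        rw [LinearMap.map_smul, Finset.sum_congr rfl fun j _ => by rw [Pi.smul_apply, smul_eq_mul]]
        exact this
      | mem w hw =>
        obtain ⟨c, rfl⟩ := hw
        -- write `dc` in `Ω_{K/k}` on the `dt_j`
        obtain ⟨a, ha⟩ := (Submodule.mem_span_range_iff_exists_fun K).1
          (show D k K c ∈ Submodule.span K (Set.range fun j => D k K (t j)) by rw [hspan]; trivial)
        have hin : map ℤ k K K (D ℤ K c - ∑ j, a j • D ℤ K (t j)) = 0 := by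
          rw [map_sub, map_sum, map_D, sub_eq_zero, Algebra.algebraMap_self, RingHom.id_apply, ← ha]
          exact Finset.sum_congr rfl fun j _ => by
            rw [LinearMap.map_smul, map_D, Algebra.algebraMap_self, RingHom.id_apply]
        obtain ⟨y, hy⟩ := (exact_mapBaseChange_map ℤ k K _).1 hin
        have hbase : (1 : L) ⊗ₜ[K] (D ℤ K c - ∑ j, a j • D ℤ K (t j)) ∈
            LinearMap.range (iota k K L) := by
          refine ⟨TensorProduct.AlgebraTensorModule.cancelBaseChange k K L L Ω[k⁄ℤ] (1 ⊗ₜ y), ?_⟩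
          rw [iota, LinearMap.comp_apply, LinearEquiv.coe_coe, LinearEquiv.symm_apply_apply,
            LinearMap.baseChange_tmul, hy]
        have hΦ0 := hle hbase
        rw [LinearMap.mem_ker, TensorProduct.tmul_sub, TensorProduct.tmul_sum, map_sub, map_sum,
          sub_eq_zero] at hΦ0
        have hval : ∀ i, Φ (1 ⊗ₜ D ℤ K c) i = algebraMap K L (a i) := fun i => by
          rw [hΦ0, Finset.sum_congr rfl fun j _ => show Φ (1 ⊗ₜ[K] (a j • D ℤ K (t j))) =
            Φ (algebraMap K L (a j) • (1 ⊗ₜ[K] D ℤ K (t j))) by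
              rw [TensorProduct.tmul_smul, algebraMap_smul], ← map_sum, hΦ, phi_sum_smul θ t hθt]
        rw [TensorProduct.tmul_sub, TensorProduct.tmul_sum] at hbase
        rw [Finset.sum_congr rfl fun j _ => show
            Φ (1 ⊗ₜ D ℤ K c) j • ((1 : L) ⊗ₜ[K] D ℤ K (t j)) = (1 : L) ⊗ₜ[K] (a j • D ℤ K (t j)) by
              rw [hval, TensorProduct.tmul_smul, algebraMap_smul]]
        exact hbase
    have hkereq : LinearMap.ker Φ = LinearMap.range (iota k K L) := by
      refine le_antisymm (fun z hz => ?_) hle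
      have h0 : Φ z = 0 := hz
      have := hdec z
      rw [h0, Finset.sum_eq_zero fun j _ => by rw [Pi.zero_apply, zero_smul], sub_zero] at this
      exact this
    have hReq : R = LinearMap.ker (map ℤ k L L) := by
      refine le_antisymm ?_ hkerk
      rintro _ ⟨z, hz, rfl⟩
      rw [SetLike.mem_coe, hkereq] at hz
      obtain ⟨y, rfl⟩ := hz
      rw [LinearMap.mem_ker, hμ, ← LinearMap.comp_apply (mapBaseChange ℤ K L) (iota k K L),
        mapBaseChange_comp_iota]
      exact (exact_mapBaseChange_map ℤ k L _).2 ⟨y, rfl⟩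
    let e2 : (Ω[L⁄ℤ] ⧸ R) ≃ₗ[L] Ω[L⁄k] :=
      (Submodule.quotEquivOfEq _ _ hReq).trans
        ((map ℤ k L L).quotKerEquivOfSurjective (map_surjective ℤ k L))
    refine ⟨Module.Finite.equiv e2, ?_⟩
    rw [← e2.finrank_eq, hr, hkereq, ← hmap, ← e.finrank_eq]

end relative

end Groth.Agent.EGA418Lib
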