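import Groth.Agent.EGA418Lib.Fibre
import Groth.Agent.EGA418Lib.FFinite

/-!
`Ω_{L/k}` and the module of imperfection for the fraction field of a complete local domain.
-/

set_option autoImplicit false
set_option linter.style.haveILetI false
universe u
open TensorProduct IsLocalRing KaehlerDifferential

namespace Groth.Agent.EGA418Lib

variable (k C : Type u) [Field k] [CommRing C] [IsDomain C] [IsLocalRing C] [Algebra k C]
  [IsNoetherianRing C] [IsAdicComplete (maximalIdeal C) C] [Module.Finite k (ResidueField C)]
  (L : Type u) [Field L] [Algebra C L] [IsFractionRing C L] [Algebra k L] [IsScalarTower k C L]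

theorem exists_normalization_domain {n : ℕ} (hn : ringKrullDim C = n) :
    ∃ φ : MvPowerSeries (Fin n) k →ₐ[k] C, φ.toRingHom.Finite ∧ Function.Injective φ ∧
      IsLocalHom φ.toRingHom := by
  obtain ⟨x, hx, hrad⟩ := Groth.Agent.S17753.result C n hn (maximalIdeal C) (maximalIdeal.isMaximal _).ne_top
  obtain ⟨φ, -, hfin, hloc⟩ := exists_psAlgHom k C x hx (hrad ▸ Ideal.le_radical)
  have hbot : ringKrullDim (C ⧸ (⊥ : Ideal C)) = n := by
    rw [ringKrullDim_eq_of_ringEquiv (RingEquiv.quotientBot C), hn]
  exact ⟨φ, hfin, Function.Injective.of_comp (injective_mk_comp k C φ hfin ⊥ hbot), hloc⟩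

omit [IsLocalRing C] [IsNoetherianRing C] [IsAdicComplete (maximalIdeal C) C] [Algebra k C]
  [Module.Finite k (ResidueField C)] [Algebra k L] [IsScalarTower k C L] in
/-- Fraction fields of a finite extension of domains. -/
theorem finite_fractionField (P K : Type u) [CommRing P] [IsDomain P] [Algebra P C] [Module.Finite P C]
    (hinj : Function.Injective (algebraMap P C)) [Field K] [Algebra P K] [IsFractionRing P K]
    [Algebra P L] [IsScalarTower P C L] [Algebra K L] [IsScalarTower P K L] : Module.Finite K L := by
  obtain ⟨r, e, he⟩ := Module.Finite.exists_fin (R := P) (M := C)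
  let eL : Fin r → L := fun i => algebraMap C L (e i)
  refine ⟨Submodule.fg_def.2 ⟨Set.range eL, Set.finite_range eL, eq_top_iff.2 fun y _ => ?_⟩⟩
  obtain ⟨a, b, hb, rfl⟩ := IsFractionRing.div_surjective C y
  obtain ⟨g, hg0, c, hc⟩ : ∃ g : P, g ≠ 0 ∧ ∃ c, algebraMap P C g = b * c := by
    haveI : Algebra.IsIntegral P C := Algebra.IsIntegral.of_finite P C
    have hne := Ideal.comap_ne_bot_of_integral_mem (R := P) (nonZeroDivisors.ne_zero hb)
      (Ideal.mem_span_singleton_self b) (Algebra.IsIntegral.isIntegral b)
    obtain ⟨g, hg, hg0⟩ := Submodule.exists_mem_ne_zero_of_ne_bot hne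
    obtain ⟨c, hc⟩ := Ideal.mem_span_singleton'.1 hg
    exact ⟨g, hg0, c, by rw [mul_comm]; exact hc.symm⟩
  have hac : algebraMap C L (a * c) ∈ Submodule.span K (Set.range eL) := by
    refine Submodule.span_le_restrictScalars P K _ ?_
    have hz : a * c ∈ Submodule.span P (Set.range e) := by rw [he]; trivial
    have := Submodule.mem_map_of_mem (f := (IsScalarTower.toAlgHom P C L).toLinearMap) hz
    rw [Submodule.map_span, ← Set.range_comp] at this
    exact this
  have hgK : algebraMap P K g ≠ 0 := fun h => hg0 ((IsFractionRing.injective P K) (h.trans (map_zero _).symm))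
  have key : algebraMap C L a / algebraMap C L b = (algebraMap P K g)⁻¹ • algebraMap C L (a * c) := by
    rw [Algebra.smul_def, map_inv₀, ← IsScalarTower.algebraMap_apply P K L,
      IsScalarTower.algebraMap_apply P C L, hc, map_mul, map_mul, ← div_eq_inv_mul, mul_div_mul_right]
    intro h
    refine hg0 (hinj (IsFractionRing.injective C L ?_))
    rw [hc, map_mul, h, mul_zero, map_zero, map_zero]
  rw [key]
  exact Submodule.smul_mem _ _ hac

/-- `Υ` is finite, `n + dim Υ ≤ dim Ω_{L/k}`, with equality if `k` is finite over `k^p`. -/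
theorem rank_kaehler_fractionField {n : ℕ} (hn : ringKrullDim C = n) :
    Module.Finite L (LinearMap.ker (mapBaseChange ℤ k L)) ∧
      (n : Cardinal.{u}) + Module.rank L (LinearMap.ker (mapBaseChange ℤ k L)) ≤ Module.rank L Ω[L⁄k] ∧
      ∀ (p : ℕ) [ExpChar k p], p.Prime → (frobenius k p).Finite → Module.Finite L Ω[L⁄k] ∧
        Module.finrank L Ω[L⁄k] = n + Module.finrank L (LinearMap.ker (mapBaseChange ℤ k L)) := by
  classical
  obtain ⟨φ, hfin, hinj, -⟩ := exists_normalization_domain k C hn
  let P := MvPowerSeries (Fin n) k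
  haveI : IsDomain P := NoZeroDivisors.to_isDomain _
  letI : Algebra P C := φ.toRingHom.toAlgebra
  haveI : Module.Finite P C := hfin
  letI : Algebra P L := ((algebraMap C L).comp φ.toRingHom).toAlgebra
  haveI : IsScalarTower P C L := IsScalarTower.of_algebraMap_eq' rfl
  haveI : IsScalarTower k P L := IsScalarTower.of_algebraMap_eq fun c => by
    show _ = algebraMap C L (φ (algebraMap k P c))
    rw [φ.commutes, ← IsScalarTower.algebraMap_apply]
  have hPL : Function.Injective (algebraMap P L) := (IsFractionRing.injective C L).comp hinj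
  haveI : FaithfulSMul P L := (faithfulSMul_iff_algebraMap_injective P L).2 hPL
  let K := FractionRing P
  letI : Algebra K L := FractionRing.liftAlgebra P L
  haveI : IsScalarTower P K L := FractionRing.isScalarTower_liftAlgebra P L
  haveI : IsScalarTower k K L := IsScalarTower.of_algebraMap_eq fun c => by
    rw [IsScalarTower.algebraMap_apply k P K, ← IsScalarTower.algebraMap_apply P K L,
      ← IsScalarTower.algebraMap_apply k P L]
  haveI : Module.Finite K L := finite_fractionField C L P K hinj
  obtain ⟨θ, hθt, hθk, -⟩ := exists_theta k n K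
  obtain ⟨h1, h2, h3⟩ := rank_kaehler (L := L) θ (psT k n K) hθt hθk (mapBaseChange_injective k n K)
  refine ⟨h1, h2, fun p _ hp hk => h3 (eq_top_iff.2 ?_)⟩
  rw [← KaehlerDifferential.span_range_map_derivation_of_isLocalization (R := k) (S := P) (T := K)
    (nonZeroDivisors P), Submodule.span_le]
  rintro _ ⟨f, rfl⟩
  have hf : D k P f ∈ Submodule.span P (Set.range fun i => D k P (MvPowerSeries.X i)) := by
    rw [span_D_X_eq_top p hk hp n]; trivial
  have hmem := Submodule.mem_map_of_mem (f := map k k P K) hf
  rw [Submodule.map_span, ← Set.range_comp] at hmem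
  refine Submodule.span_le_restrictScalars P K _ (Submodule.span_mono ?_ hmem)
  rintro _ ⟨i, rfl⟩
  exact ⟨i, (map_D k k P K _).symm⟩

end Groth.Agent.EGA418Lib
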