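import Groth.Agent.EGA418Lib.Univ

/-!
Choosing units `u i` such that the `d (u i * x i)` generate the completed differentials at a prime.
-/

set_option autoImplicit false
set_option linter.style.haveILetI false
universe u
open TensorProduct IsLocalRing KaehlerDifferential

namespace Groth.Agent.EGA418Lib

variable (k A : Type u) [Field k] [CommRing A] [IsLocalRing A] [Algebra k A]
  [IsNoetherianRing A] [IsAdicComplete (maximalIdeal A) A] [Module.Finite k (ResidueField A)]

theorem exists_unit_notMem (p : Ideal A) [p.IsPrime]
    (W : Submodule p.ResidueField (p.ResidueField ⊗[A] CO k A)) (hW : W ≠ ⊤) (x : A) (hx : x ∉ p) :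
    ∃ u : Aˣ, toFib p (cD k A ((u : A) * x)) ∉ W := by
  by_contra hcon
  push_neg at hcon
  have hxκ : algebraMap A p.ResidueField x ≠ 0 := by
    rw [Ne, Ideal.algebraMap_residueField_eq_zero]; exact hx
  have hval : ∀ a : A, toFib p (cD k A (a * x)) =
      algebraMap A p.ResidueField a • toFib p (cD k A x) + algebraMap A p.ResidueField x • toFib p (cD k A a) := by
    intro a
    rw [Derivation.leibniz, map_add, map_smul, map_smul, algebraMap_smul, algebraMap_smul]
  have hdx : toFib p (cD k A x) ∈ W := by
    have := hcon 1
    rwa [Units.val_one, one_mul] at this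
  have hu : ∀ u : Aˣ, toFib p (cD k A (u : A)) ∈ W := by
    intro u
    have h1 := hcon u
    rw [hval] at h1
    have h2 : algebraMap A p.ResidueField x • toFib p (cD k A (u : A)) ∈ W :=
      (W.add_mem_iff_right (W.smul_mem _ hdx)).1 h1
    exact (W.smul_mem_iff hxκ).1 h2
  have hall : ∀ a : A, toFib p (cD k A a) ∈ W := by
    intro a
    by_cases ha : IsUnit a
    · exact hu ha.unit
    · have ha' : IsUnit (1 + a) := IsLocalRing.isUnit_of_mem_nonunits_one_sub_self _ (by
        rw [mem_nonunits_iff, sub_add_cancel_left, IsUnit.neg_iff]; exact ha)
      have h := hu ha'.unit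
      rw [IsUnit.unit_spec, map_add, map_add, Derivation.map_one_eq_zero, map_zero, zero_add] at h
      exact h
  refine hW (eq_top_iff.2 fun z hz0 => ?_)
  clear hz0
  induction z using TensorProduct.induction_on with
  | zero => exact zero_mem _
  | add a b ha hb => exact add_mem ha hb
  | tmul c ω =>
    have hω : toFib p ω ∈ W := by
      have h : ω ∈ Submodule.span A (Set.range (cD k A)) := by rw [span_range_cD]; trivial
      induction h using Submodule.span_induction with
      | mem z hz => obtain ⟨a, rfl⟩ := hz; exact hall a
      | zero => rw [map_zero]; exact zero_mem _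
      | add a b _ _ ha hb => rw [map_add]; exact add_mem ha hb
      | smul a z _ hz =>
        rw [map_smul, ← algebraMap_smul p.ResidueField]; exact W.smul_mem _ hz
    have := W.smul_mem c hω
    rwa [toFib_apply, TensorProduct.smul_tmul', smul_eq_mul, mul_one] at this

/-- For any `x i ∉ p` (`M` at least the number of generators at `p`) suitable `d (u i * x i)` generate. -/
theorem exists_units (p : Ideal A) [p.IsPrime] {M : ℕ}
    (hgen : ∃ s : Fin M → LocalizedModule p.primeCompl (CO k A),
      Submodule.span (Localization.AtPrime p) (Set.range s) = ⊤)
    (x : Fin M → A) (hx : ∀ i, x i ∉ p) :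
    ∃ u : Fin M → Aˣ, Submodule.span (Localization.AtPrime p)
      (Set.range fun i => LocalizedModule.mkLinearMap p.primeCompl (CO k A) (cD k A ((u i : A) * x i))) = ⊤ := by
  classical
  haveI := finite_CO k A
  obtain ⟨s0, hs0⟩ := hgen
  obtain ⟨s, hs⟩ := exists_numerators p s0 hs0
  rw [span_localized_eq_top_iff] at hs
  set V := p.ResidueField ⊗[A] CO k A
  haveI : Module.Finite p.ResidueField V := inferInstance
  have hn : Module.finrank p.ResidueField V ≤ M := by
    have := finrank_range_le_card (R := p.ResidueField) fun i => toFib p (s i)
    rw [Set.finrank, hs, finrank_top, Fintype.card_fin] at this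
    exact this
  let g : (Fin M → Aˣ) → Fin M → V := fun u i => toFib p (cD k A ((u i : A) * x i))
  have key : ∀ t : Finset (Fin M), ∃ u : Fin M → Aˣ,
      min t.card (Module.finrank p.ResidueField V) ≤
        Module.finrank p.ResidueField (Submodule.span p.ResidueField (g u '' t)) := by
    intro t
    induction t using Finset.induction_on with
    | empty => exact ⟨fun _ => 1, by simp⟩
    | insert i t hit ih =>
      obtain ⟨u, hu⟩ := ih
      set W := Submodule.span p.ResidueField (g u '' t) with hW
      by_cases htop : W = ⊤
      · refine ⟨u, ?_⟩
        have hle : W ≤ Submodule.span p.ResidueField (g u '' (insert i t : Finset (Fin M))) :=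
          Submodule.span_mono (Set.image_mono (by simp))
        rw [htop, top_le_iff] at hle
        rw [hle, finrank_top]
        exact min_le_right _ _
      · obtain ⟨w, hw⟩ := exists_unit_notMem k A p W htop (x i) (hx i)
        refine ⟨Function.update u i w, ?_⟩
        have heq : g (Function.update u i w) '' (insert i t : Finset (Fin M)) =
            insert (toFib p (cD k A ((w : A) * x i))) (g u '' t) := by
          rw [Finset.coe_insert, Set.image_insert_eq]
          congr 1
          · simp [g]
          · refine Set.image_congr fun j hj => ?_
            have : j ≠ i := fun h => hit (h ▸ hj)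
            simp [g, Function.update_of_ne this]
        rw [heq, Finset.card_insert_of_notMem hit, Submodule.span_insert, ← hW]
        have hlt : W < (p.ResidueField ∙ toFib p (cD k A ((w : A) * x i))) ⊔ W :=
          lt_of_le_not_ge le_sup_right fun h =>
            hw (h (Submodule.mem_sup_left (Submodule.mem_span_singleton_self _)))
        have := Submodule.finrank_lt_finrank_of_lt hlt
        omega
  obtain ⟨u, hu⟩ := key Finset.univ
  refine ⟨u, (span_localized_eq_top_iff p _).2 (Submodule.eq_top_of_finrank_eq ?_)⟩
  rw [Finset.card_univ, Fintype.card_fin, min_eq_right hn, Finset.coe_univ, Set.image_univ] at hu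
  exact le_antisymm (Submodule.finrank_le _) hu

end Groth.Agent.EGA418Lib
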