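import Groth.Agent.ComplKaehlerLib.Local
import Groth.Agent.FiniteCompleteLib.Basic

/-!
The universal property of the completed module of differentials of a complete Noetherian local
`k`-algebra with residue field finite over `k`, and spanning criteria at a prime.
-/

set_option autoImplicit false
set_option linter.style.haveILetI false
universe u
open TensorProduct IsLocalRing KaehlerDifferential

namespace Groth.Agent.EGA418Lib

variable (k A : Type u) [Field k] [CommRing A] [IsLocalRing A] [Algebra k A]

/-- The completed module of differentials. -/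
abbrev CO : Type u := AdicCompletion (maximalIdeal A) Ω[A⁄k]

/-- The universal derivation into the completed module of differentials. -/
noncomputable def cD : Derivation k A (CO k A) :=
  (AdicCompletion.of (maximalIdeal A) Ω[A⁄k]).compDer (D k A)

theorem cD_apply (a : A) : cD k A a = AdicCompletion.of (maximalIdeal A) Ω[A⁄k] (D k A a) := rfl

variable [IsNoetherianRing A] [IsAdicComplete (maximalIdeal A) A] [Module.Finite k (ResidueField A)]

omit [IsAdicComplete (maximalIdeal A) A] in
theorem finite_residue_data :
    Module.Finite (A ⧸ maximalIdeal A) (Ω[A ⧸ maximalIdeal A⁄k]) ∧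
      Module.Finite (A ⧸ maximalIdeal A) (maximalIdeal A).Cotangent := by
  haveI : Module.Finite k (A ⧸ maximalIdeal A) := ‹Module.Finite k (ResidueField A)›
  haveI : Algebra.EssFiniteType k (A ⧸ maximalIdeal A) := inferInstance
  haveI : Module.Finite A (maximalIdeal A) := Module.Finite.iff_fg.2 (maximalIdeal A).fg_of_isNoetherianRing
  haveI : Module.Finite A (maximalIdeal A).Cotangent :=
    Module.Finite.of_surjective _ (maximalIdeal A).toCotangent_surjective
  exact ⟨inferInstance, Module.Finite.of_restrictScalars_finite A _ _⟩

theorem finite_CO : Module.Finite A (CO k A) := by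
  obtain ⟨h1, h2⟩ := finite_residue_data k A
  exact ComplKaehlerLib.finite_completedKaehler (maximalIdeal A)

/-- The differentials span the completed module. -/
theorem span_range_cD : Submodule.span A (Set.range (cD k A)) = ⊤ := by
  haveI := finite_CO k A
  refine eq_top_iff.2 ?_
  refine Submodule.le_of_le_smul_of_le_jacobson_bot (I := maximalIdeal A) Module.Finite.fg_top
    (IsLocalRing.maximalIdeal_le_jacobson _) fun x _ => ?_
  have hfg : (maximalIdeal A).FG := (maximalIdeal A).fg_of_isNoetherianRing
  obtain ⟨y, hy⟩ := Submodule.Quotient.mk_surjective _ (x.val 1)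
  have hker : x - AdicCompletion.of (maximalIdeal A) Ω[A⁄k] y ∈
      (maximalIdeal A ^ 1 • ⊤ : Submodule A (CO k A)) := by
    rw [AdicCompletion.pow_smul_top_eq_ker_eval hfg, LinearMap.mem_ker, map_sub,
      AdicCompletion.eval_of, sub_eq_zero]
    exact hy.symm
  rw [pow_one] at hker
  have hy' : AdicCompletion.of (maximalIdeal A) Ω[A⁄k] y ∈ Submodule.span A (Set.range (cD k A)) := by
    have : y ∈ Submodule.span A (Set.range (D k A)) := by rw [span_range_derivation]; trivial
    clear hker hy
    induction this using Submodule.span_induction with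
    | mem z hz => obtain ⟨a, rfl⟩ := hz; exact Submodule.subset_span ⟨a, rfl⟩
    | zero => rw [map_zero]; exact zero_mem _
    | add a b _ _ ha hb => rw [map_add]; exact add_mem ha hb
    | smul a z _ hz => rw [map_smul]; exact Submodule.smul_mem _ a hz
  rw [show x = AdicCompletion.of (maximalIdeal A) Ω[A⁄k] y +
    (x - AdicCompletion.of (maximalIdeal A) Ω[A⁄k] y) by abel]
  exact add_mem (Submodule.mem_sup_left hy') (Submodule.mem_sup_right hker)

variable {k A}

theorem linearMap_ext {M : Type u} [AddCommGroup M] [Module A M] {φ ψ : CO k A →ₗ[A] M}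
    (h : ∀ a, φ (cD k A a) = ψ (cD k A a)) : φ = ψ :=
  LinearMap.ext_on_range (span_range_cD k A) h

omit [Module.Finite k (ResidueField A)] in
/-- Derivations into finite modules factor through the completed module of differentials. -/
theorem exists_lift {N : Type u} [AddCommGroup N] [Module A N] [Module.Finite A N] [Module k N]
    [IsScalarTower k A N] (δ : Derivation k A N) :
    ∃ φ : CO k A →ₗ[A] N, ∀ a, φ (cD k A a) = δ a := by
  haveI := FiniteCompleteLib.isAdicComplete_of_finite (maximalIdeal A) N
  let e : N ≃ₗ[A] AdicCompletion (maximalIdeal A) N :=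
    LinearEquiv.ofBijective (AdicCompletion.of (maximalIdeal A) N)
      (AdicCompletion.of_bijective_iff.2 inferInstance)
  refine ⟨e.symm.toLinearMap ∘ₗ (AdicCompletion.map (maximalIdeal A) δ.liftKaehlerDifferential).restrictScalars A,
    fun a => e.injective ?_⟩
  rw [LinearMap.comp_apply, LinearEquiv.coe_coe, LinearEquiv.apply_symm_apply]
  show AdicCompletion.map (maximalIdeal A) δ.liftKaehlerDifferential (cD k A a) = _
  rw [cD_apply, AdicCompletion.map_of, Derivation.liftKaehlerDifferential_comp_D]
  rfl

omit [Module.Finite k (ResidueField A)] in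
theorem exists_lift_of_fg {M : Type u} [AddCommGroup M] [Module A M] [Module k M]
    [IsScalarTower k A M] (δ : Derivation k A M) (N : Submodule A M) (hN : N.FG)
    (h : ∀ a, δ a ∈ N) : ∃ φ : CO k A →ₗ[A] M, ∀ a, φ (cD k A a) = δ a := by
  haveI : Module.Finite A N := Module.Finite.iff_fg.2 hN
  let δN : Derivation k A N :=
    Derivation.mk'
      { toFun := fun a => ⟨δ a, h a⟩
        map_add' := fun a b => Subtype.ext (map_add δ a b)
        map_smul' := fun c a => Subtype.ext (by
          rw [RingHom.id_apply, Submodule.coe_smul_of_tower]; exact Derivation.map_smul δ c a) }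
      fun a b => Subtype.ext (δ.leibniz a b)
  obtain ⟨φ, hφ⟩ := exists_lift δN
  exact ⟨N.subtype ∘ₗ φ, fun a => by rw [LinearMap.comp_apply, hφ]; rfl⟩

section localization

variable {R : Type u} [CommRing R] {M : Type u} [AddCommGroup M] [Module R M] (p : Ideal R) [p.IsPrime]

/-- The image of `m` in the fibre at `p`. -/
noncomputable def toFib : M →ₗ[R] p.ResidueField ⊗[R] M := TensorProduct.mk R p.ResidueField M 1

theorem toFib_apply (m : M) : toFib p m = (1 : p.ResidueField) ⊗ₜ[R] m := rfl

/-- Spanning at `p` can be tested in the fibre. -/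
theorem span_localized_eq_top_iff [Module.Finite R M] {ι : Type*} (s : ι → M) :
    Submodule.span (Localization.AtPrime p)
        (Set.range fun i => LocalizedModule.mkLinearMap p.primeCompl M (s i)) = ⊤ ↔
      Submodule.span p.ResidueField (Set.range fun i => toFib p (s i)) = ⊤ := by
  let Rp := Localization.AtPrime p
  let κ := p.ResidueField
  let Mp := LocalizedModule p.primeCompl M
  let f := LocalizedModule.mkLinearMap p.primeCompl M
  have hbc : IsBaseChange Rp f := IsLocalizedModule.isBaseChange p.primeCompl Rp f
  let e : κ ⊗[Rp] Mp ≃ₗ[κ] κ ⊗[R] M :=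
    ((LinearEquiv.baseChange Rp κ _ _ hbc.equiv.symm)).trans
      (TensorProduct.AlgebraTensorModule.cancelBaseChange R Rp κ κ M)
  have he : ∀ m, e (1 ⊗ₜ f m) = toFib p m := fun m => by
    simp [e, IsBaseChange.equiv_symm_apply, toFib_apply]
  have h1 : ∀ N : Submodule Rp Mp, N = ⊤ ↔ N.map (TensorProduct.mk Rp κ Mp 1) = ⊤ := fun N =>
    (IsLocalRing.map_tensorProduct_mk_eq_top (R := Rp) (M := Mp) (N := N)).symm
  refine (h1 _).trans ?_
  have hres : Function.Surjective (algebraMap Rp κ) := IsLocalRing.residue_surjective
  rw [Submodule.map_span, ← Submodule.restrictScalars_span Rp κ hres,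
    Submodule.restrictScalars_eq_top_iff, ← Set.range_comp]
  rw [← Submodule.map_eq_top_iff (e := e), Submodule.map_span, ← Set.range_comp]
  refine Iff.of_eq ?_
  congr 2
  exact congrArg Set.range (funext fun i => he (s i))

/-- Generators of a localised module may be taken in the module. -/
theorem exists_numerators {ι : Type*} (s : ι → LocalizedModule p.primeCompl M)
    (h : Submodule.span (Localization.AtPrime p) (Set.range s) = ⊤) :
    ∃ s' : ι → M, Submodule.span (Localization.AtPrime p)
        (Set.range fun i => LocalizedModule.mkLinearMap p.primeCompl M (s' i)) = ⊤ := by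
  let f := LocalizedModule.mkLinearMap p.primeCompl M
  choose ms hms using fun i => IsLocalizedModule.surj p.primeCompl f (s i)
  refine ⟨fun i => (ms i).1, eq_top_iff.2 ?_⟩
  rw [← h, Submodule.span_le]
  rintro _ ⟨i, rfl⟩
  obtain ⟨u, hu⟩ := IsLocalization.map_units (Localization.AtPrime p) (ms i).2
  have : s i = (↑u⁻¹ : Localization.AtPrime p) • f (ms i).1 := by
    rw [show f (ms i).1 = algebraMap R (Localization.AtPrime p) ((ms i).2 : R) • s i by
        rw [algebraMap_smul]; exact (hms i).symm, ← hu, smul_smul, Units.inv_mul, one_smul]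
  rw [SetLike.mem_coe, this]
  exact Submodule.smul_mem _ _ (Submodule.subset_span ⟨i, rfl⟩)

end localization

end Groth.Agent.EGA418Lib
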