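import Groth.Agent.EGA418Lib.Units
import Groth.Agent.EGA418Lib.Fibre

/-!
Unramifiedness over `k[[T]]` in terms of the completed differentials; freeness from the rank bound.
-/

set_option autoImplicit false
set_option linter.style.haveILetI false
universe u
open TensorProduct IsLocalRing KaehlerDifferential

namespace Groth.Agent.EGA418Lib

theorem span_localized_eq_top_iff_forall {A M : Type u} [CommRing A] [AddCommGroup M] [Module A M]
    (p : Ideal A) [p.IsPrime] (X : Set M) :
    Submodule.span (Localization.AtPrime p) (LocalizedModule.mkLinearMap p.primeCompl M '' X) = ⊤ ↔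
      ∀ m : M, ∃ r ∈ p.primeCompl, r • m ∈ Submodule.span A X := by
  let f := LocalizedModule.mkLinearMap p.primeCompl M
  rw [← Submodule.localized'_span (Localization.AtPrime p) p.primeCompl f]
  constructor
  · intro h m
    have hm : f m ∈ Submodule.localized' (Localization.AtPrime p) p.primeCompl f (Submodule.span A X) :=
      h.symm ▸ Submodule.mem_top
    obtain ⟨z, hz, t, hzt⟩ := hm
    rw [IsLocalizedModule.mk'_eq_iff, Submonoid.smul_def, ← map_smul] at hzt
    obtain ⟨v, hv⟩ := (IsLocalizedModule.eq_iff_exists p.primeCompl f).1 hzt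
    refine ⟨(v : A) * (t : A), mul_mem v.2 t.2, ?_⟩
    rw [Submonoid.smul_def, Submonoid.smul_def] at hv
    rw [mul_smul, ← hv]
    exact Submodule.smul_mem _ _ hz
  · intro h
    refine eq_top_iff.2 fun y _ => ?_
    obtain ⟨⟨m, t⟩, rfl⟩ := IsLocalizedModule.mk'_surjective p.primeCompl f y
    obtain ⟨r, hr, hrm⟩ := h m
    refine ⟨r • m, hrm, (⟨r, hr⟩ : p.primeCompl) * t, ?_⟩
    exact IsLocalizedModule.mk'_cancel_left f m (⟨r, hr⟩ : p.primeCompl) t

variable (k A : Type u) [Field k] [CommRing A] [IsLocalRing A] [Algebra k A]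
  [IsNoetherianRing A] [IsAdicComplete (maximalIdeal A) A] [Module.Finite k (ResidueField A)]

/-- `A` is unramified over `k[[T]]` at `p` iff the `d T_i` generate `Ω̂_p`. -/
theorem isUnramifiedAt_iff_span {m : ℕ} [Algebra (MvPowerSeries (Fin m) k) A]
    [IsScalarTower k (MvPowerSeries (Fin m) k) A] [Module.Finite (MvPowerSeries (Fin m) k) A]
    (hX : ∀ i : Fin m, algebraMap (MvPowerSeries (Fin m) k) A (MvPowerSeries.X i) ∈ maximalIdeal A)
    (p : Ideal A) [p.IsPrime] :
    Algebra.IsUnramifiedAt (MvPowerSeries (Fin m) k) p ↔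
      Submodule.span (Localization.AtPrime p) (Set.range fun i : Fin m =>
        LocalizedModule.mkLinearMap p.primeCompl (CO k A)
          (cD k A (algebraMap (MvPowerSeries (Fin m) k) A (MvPowerSeries.X i)))) = ⊤ := by
  let P := MvPowerSeries (Fin m) k
  let φ : P →ₐ[k] A := IsScalarTower.toAlgHom k P A
  haveI := finite_CO k A
  haveI : Algebra.FiniteType P A := Module.Finite.finiteType A
  let gens : Fin m → CO k A := fun i => cD k A (algebraMap P A (MvPowerSeries.X i))
  let N : Submodule A (CO k A) := Submodule.span A (Set.range gens)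
  -- `CO → Ω_{A/P}`
  obtain ⟨f, hf⟩ := exists_lift (k := k) ((D P A).restrictScalars k)
  -- `Ω_{A/P} → CO ⧸ N`
  let δ : Derivation k A (CO k A ⧸ N) := N.mkQ.compDer (cD k A)
  have hδP : ∀ g : P, δ (algebraMap P A g) = 0 := fun g =>
    derivation_comp_eq_zero k A φ hX δ (fun i => by
      show Submodule.Quotient.mk _ = 0
      rw [Submodule.Quotient.mk_eq_zero]; exact Submodule.subset_span ⟨i, rfl⟩) g
  let δP : Derivation P A (CO k A ⧸ N) := Derivation.mk'
    { toFun := δ
      map_add' := map_add δ
      map_smul' := fun g a => by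
        rw [RingHom.id_apply, Algebra.smul_def, Derivation.leibniz, hδP, smul_zero, add_zero,
          ← algebraMap_smul A g] } fun a b => δ.leibniz a b
  have hcomp : δP.liftKaehlerDifferential ∘ₗ f = N.mkQ := by
    refine linearMap_ext fun a => ?_
    rw [LinearMap.comp_apply, hf]
    exact Derivation.liftKaehlerDifferential_comp_D δP a
  have hfN : ∀ z ∈ N, f z = 0 := fun z hz => by
    induction hz using Submodule.span_induction with
    | mem w hw =>
      obtain ⟨i, rfl⟩ := hw
      rw [hf]
      exact Derivation.map_algebraMap (D P A) _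
    | zero => exact map_zero f
    | add a b _ _ ha hb => rw [map_add, ha, hb, add_zero]
    | smul a w _ hw => rw [map_smul, hw, smul_zero]
  have hker : ∀ z, f z = 0 ↔ z ∈ N := fun z => by
    refine ⟨fun hz => ?_, hfN z⟩
    have h1 := LinearMap.congr_fun hcomp z
    rw [LinearMap.comp_apply, hz, map_zero, eq_comm] at h1
    exact (Submodule.Quotient.mk_eq_zero N).1 h1
  have hfsurj : Function.Surjective f := by
    rw [← LinearMap.range_eq_top, eq_top_iff, ← span_range_derivation, Submodule.span_le]
    rintro _ ⟨a, rfl⟩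
    exact ⟨cD k A a, hf a⟩
  have hlocus : Algebra.IsUnramifiedAt P p ↔
      (⟨p, inferInstance⟩ : PrimeSpectrum A) ∈ Algebra.unramifiedLocus P A := Iff.rfl
  rw [hlocus, Algebra.unramifiedLocus_eq_compl_support, Set.mem_compl_iff, Module.notMem_support_iff,
    LocalizedModule.subsingleton_iff, show (Set.range fun i : Fin m =>
        LocalizedModule.mkLinearMap p.primeCompl (CO k A) (gens i)) =
      LocalizedModule.mkLinearMap p.primeCompl (CO k A) '' Set.range gens from (Set.range_comp _ gens),
    span_localized_eq_top_iff_forall]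
  constructor
  · intro h z
    obtain ⟨r, hr, hrz⟩ := h (f z)
    exact ⟨r, hr, (hker _).1 (by rw [map_smul, hrz])⟩
  · intro h w
    obtain ⟨z, rfl⟩ := hfsurj w
    obtain ⟨r, hr, hrz⟩ := h z
    exact ⟨r, hr, by rw [← map_smul]; exact (hker _).2 hrz⟩

omit [Field k] [IsLocalRing A] [Algebra k A] [IsNoetherianRing A] [IsAdicComplete (maximalIdeal A) A]
  [Module.Finite k (ResidueField A)] in
/-- `n` generators at `p` of a module with fibre rank `≥ n` at a minimal prime below form a basis
when `A_p` is a domain. -/
theorem free_of_span {M : Type u} [AddCommGroup M] [Module A M] [Module.Finite A M] (p q : Ideal A)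
    [p.IsPrime] [q.IsPrime] (hq : q ∈ minimalPrimes A) (hqp : q ≤ p) [IsDomain (Localization.AtPrime p)]
    {n : ℕ} (s : Fin n → M)
    (hs : Submodule.span (Localization.AtPrime p)
      (Set.range fun i => LocalizedModule.mkLinearMap p.primeCompl M (s i)) = ⊤)
    (hn : n ≤ Module.finrank q.ResidueField (q.ResidueField ⊗[A] M)) :
    Module.Free (Localization.AtPrime p) (LocalizedModule p.primeCompl M) ∧
      Module.finrank (Localization.AtPrime p) (LocalizedModule p.primeCompl M) = n := by
  classical
  let Rp := Localization.AtPrime p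
  let f := LocalizedModule.mkLinearMap p.primeCompl M
  -- `q` vanishes in `A_p`
  have hK : RingHom.ker (algebraMap A Rp) = q := by
    haveI : (RingHom.ker (algebraMap A Rp)).IsPrime := RingHom.ker_isPrime _
    refine le_antisymm (fun a ha => ?_) ?_
    · obtain ⟨t, ht⟩ := (IsLocalization.map_eq_zero_iff p.primeCompl Rp a).1 ha
      exact ((Ideal.IsPrime.mem_or_mem inferInstance (show (t : A) * a ∈ q by rw [ht]; exact zero_mem _))).resolve_left
        fun h => t.2 (hqp h)
    · refine hq.2 ⟨inferInstance, bot_le⟩ fun a ha => ?_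
      obtain ⟨t, ht⟩ := (IsLocalization.map_eq_zero_iff p.primeCompl Rp a).1 ha
      exact ((Ideal.IsPrime.mem_or_mem inferInstance (show (t : A) * a ∈ q by rw [ht]; exact zero_mem _))).resolve_left
        fun h => t.2 (hqp h)
  have hsq := span_toFib_of_le A hqp s ((span_localized_eq_top_iff p s).1 hs)
  have hli : LinearIndependent q.ResidueField fun i => toFib q (s i) := by
    rw [linearIndependent_iff_card_le_finrank_span, Fintype.card_fin, Set.finrank, hsq, finrank_top]
    exact hn
  have hliR : LinearIndependent Rp fun i => f (s i) := by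
    rw [Fintype.linearIndependent_iff]
    intro c hc i
    obtain ⟨t, ht⟩ := IsLocalization.exist_integer_multiples_of_finite p.primeCompl c
    choose a ha using ht
    have h1 : f (∑ j, a j • s j) = 0 := by
      rw [map_sum, show (0 : LocalizedModule p.primeCompl M) = (t : A) • ∑ j, c j • f (s j) by rw [hc, smul_zero],
        Finset.smul_sum]
      refine Finset.sum_congr rfl fun j _ => ?_
      rw [map_smul, ← algebraMap_smul Rp (a j), ha, smul_assoc]
    obtain ⟨v, hv⟩ := (IsLocalizedModule.eq_zero_iff p.primeCompl f).1 h1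
    have h2 : ∑ j, algebraMap A q.ResidueField ((v : A) * a j) • toFib q (s j) = 0 := by
      rw [← map_zero (toFib (M := M) q), ← hv, Submonoid.smul_def, Finset.smul_sum, map_sum]
      exact Finset.sum_congr rfl fun j _ => by rw [map_smul, map_smul, algebraMap_smul, mul_smul]
    have h3 := Ideal.algebraMap_residueField_eq_zero.1 (Fintype.linearIndependent_iff.1 hli _ h2 i)
    have h4 : algebraMap A Rp (a i) = 0 := by
      rw [← RingHom.mem_ker, hK]
      exact (Ideal.IsPrime.mem_or_mem inferInstance h3).resolve_left fun h => v.2 (hqp h)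
    rw [ha, Algebra.smul_def] at h4
    exact (mul_eq_zero.1 h4).resolve_left (IsLocalization.map_units Rp t).ne_zero
  let b := Module.Basis.mk hliR hs.ge
  exact ⟨Module.Free.of_basis b, by rw [Module.finrank_eq_card_basis b, Fintype.card_fin]⟩

end Groth.Agent.EGA418Lib
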